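/-
Units of functions, pulled back and restricted, and splittings of a system of transition units.
-/
import Mathlib.AlgebraicGeometry.Scheme
import Mathlib.Topology.Sheaves.SheafCondition.UniqueGluing

open CategoryTheory AlgebraicGeometry TopologicalSpace Opposite

universe u

noncomputable section

namespace Groth.Agent.AbDualLib

variable {X Y Z : Scheme.{u}}

/-- Pullback of units of functions. -/
def pu (h : Z ⟶ Y) (V : Y.Opens) (W : Z.Opens) (e : W ≤ h ⁻¹ᵁ V) : Γ(Y, V)ˣ →* Γ(Z, W)ˣ :=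
  Units.map (h.appLE V W e).hom.toMonoidHom

/-- Restriction of units of functions. -/
abbrev ru {V W : Y.Opens} (e : W ≤ V) : Γ(Y, V)ˣ →* Γ(Y, W)ˣ := pu (𝟙 Y) V W e

theorem val_pu (h : Z ⟶ Y) (V : Y.Opens) (W : Z.Opens) (e : W ≤ h ⁻¹ᵁ V) (a : Γ(Y, V)ˣ) :
    (pu h V W e a : Γ(Z, W)) = h.appLE V W e a := rfl

theorem val_ru {V W : Y.Opens} (e : W ≤ V) (a : Γ(Y, V)ˣ) :
    (ru e a : Γ(Y, W)) = Y.presheaf.map (homOfLE e).op a := by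
  show (𝟙 Y : Y ⟶ Y).appLE V W e a = _
  simp only [Scheme.Hom.appLE, Scheme.Hom.id_app]
  rfl

@[simp]
theorem pu_pu (l : X ⟶ Z) (h : Z ⟶ Y) {V : Y.Opens} {W : Z.Opens} {W' : X.Opens}
    (e : W ≤ h ⁻¹ᵁ V) (e' : W' ≤ l ⁻¹ᵁ W) (a : Γ(Y, V)ˣ) :
    pu l W W' e' (pu h V W e a) = pu (l ≫ h) V W' (e'.trans (l.preimage_mono e)) a := by
  apply Units.ext
  rw [val_pu, val_pu, val_pu, ← ConcreteCategory.comp_apply, Scheme.Hom.appLE_comp_appLE]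

theorem pu_congr {h h' : Z ⟶ Y} (hh : h = h') {V : Y.Opens} {W : Z.Opens} (e : W ≤ h ⁻¹ᵁ V) :
    pu h V W e = pu h' V W (hh ▸ e) := by
  subst hh
  rfl

theorem ru_self {V : Y.Opens} (e : V ≤ V) (a : Γ(Y, V)ˣ) : ru e a = a := by
  apply Units.ext
  rw [val_ru, show (homOfLE e).op = 𝟙 (op V) from rfl, CategoryTheory.Functor.map_id]
  rfl

theorem ru_ru {U V W : Y.Opens} (e : V ≤ U) (e' : W ≤ V) (a : Γ(Y, U)ˣ) :
    ru e' (ru e a) = ru (e'.trans e) a := by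
  exact (pu_pu _ _ _ _ a).trans (DFunLike.congr_fun (pu_congr (Category.comp_id _) _) a)

theorem ru_pu (h : Z ⟶ Y) {V : Y.Opens} {W W' : Z.Opens} (e : W ≤ h ⁻¹ᵁ V) (e' : W' ≤ W)
    (a : Γ(Y, V)ˣ) : ru e' (pu h V W e a) = pu h V W' (e'.trans e) a := by
  exact (pu_pu _ _ _ _ a).trans (DFunLike.congr_fun (pu_congr (Category.id_comp _) _) a)

theorem pu_ru (h : Z ⟶ Y) {V V' : Y.Opens} {W : Z.Opens} (e : V' ≤ V) (e' : W ≤ h ⁻¹ᵁ V')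
    (a : Γ(Y, V)ˣ) : pu h V' W e' (ru e a) = pu h V W (e'.trans (h.preimage_mono e)) a := by
  exact (pu_pu _ _ _ _ a).trans (DFunLike.congr_fun (pu_congr (Category.comp_id _) _) a)

theorem unit_ext {ι : Type*} {W : Y.Opens} (O : ι → Y.Opens) (hO : ∀ i, O i ≤ W) (hc : W ≤ iSup O)
    (a b : Γ(Y, W)ˣ) (h : ∀ i, ru (hO i) a = ru (hO i) b) : a = b := by
  apply Units.ext
  refine TopCat.Sheaf.eq_of_locally_eq' Y.sheaf O W (fun i => homOfLE (hO i)) hc _ _ fun i => ?_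
  have := congrArg Units.val (h i)
  rwa [val_ru, val_ru] at this

theorem exists_unit_glue {ι : Type*} (O : ι → Y.Opens) (W : Y.Opens) (hO : ∀ i, O i ≤ W)
    (hc : W ≤ iSup O) (a : ∀ i, Γ(Y, O i)ˣ)
    (h : ∀ i j, ru (inf_le_left : O i ⊓ O j ≤ O i) (a i) = ru (inf_le_right : O i ⊓ O j ≤ O j) (a j)) :
    ∃ v : Γ(Y, W)ˣ, ∀ i, ru (hO i) v = a i := by
  have hcompat : ∀ (a : ∀ i, Γ(Y, O i)ˣ),
      (∀ i j, ru (inf_le_left : O i ⊓ O j ≤ O i) (a i) = ru (inf_le_right : O i ⊓ O j ≤ O j) (a j)) →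
      ∃ v : Γ(Y, W), ∀ i, Y.presheaf.map (homOfLE (hO i)).op v = a i := fun a h => by
    obtain ⟨v, hv, -⟩ := TopCat.Sheaf.existsUnique_gluing' Y.sheaf O W (fun i => homOfLE (hO i)) hc
      (fun i => (a i : Γ(Y, O i))) fun i j => by
        have := congrArg Units.val (h i j)
        rwa [val_ru, val_ru] at this
    exact ⟨v, hv⟩
  obtain ⟨v, hv⟩ := hcompat a h
  obtain ⟨v', hv'⟩ := hcompat (fun i => (a i)⁻¹) fun i j => by rw [map_inv, map_inv, h]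
  have hmul : ∀ i, Y.presheaf.map (homOfLE (hO i)).op (v * v') = Y.presheaf.map (homOfLE (hO i)).op 1 := by
    intro i
    rw [map_mul, map_one, hv, hv', ← Units.val_mul, mul_inv_cancel, Units.val_one]
  have h1 : v * v' = 1 :=
    TopCat.Sheaf.eq_of_locally_eq' Y.sheaf O W (fun i => homOfLE (hO i)) hc _ _ hmul
  exact ⟨Units.mkOfMulEqOne v v' h1, fun i => Units.ext ((val_ru _ _).trans (hv i))⟩

section Split

variable {ι : Type u} (V : ι → Y.Opens) (c : ∀ i j, Γ(Y, V i ⊓ V j)ˣ)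

/-- Units on the pullback of a cover which split the transition units `c`. -/
def IsSplit (g : Z ⟶ Y) (a : ∀ i, Γ(Z, g ⁻¹ᵁ V i)ˣ) : Prop :=
  ∀ (i j : ι) (W : Z.Opens) (hi : W ≤ g ⁻¹ᵁ V i) (hj : W ≤ g ⁻¹ᵁ V j),
    ru hi (a i) * pu g (V i ⊓ V j) W (le_inf hi hj : W ≤ g ⁻¹ᵁ V i ⊓ g ⁻¹ᵁ V j) (c i j) = ru hj (a j)

/-- Pullback of a family of units. -/
def pullFam (l : X ⟶ Z) (g : Z ⟶ Y) (a : ∀ i, Γ(Z, g ⁻¹ᵁ V i)ˣ) (i : ι) : Γ(X, (l ≫ g) ⁻¹ᵁ V i)ˣ :=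
  pu l (g ⁻¹ᵁ V i) ((l ≫ g) ⁻¹ᵁ V i) le_rfl (a i)

variable {V c}

theorem IsSplit.pull {g : Z ⟶ Y} {a : ∀ i, Γ(Z, g ⁻¹ᵁ V i)ˣ} (ha : IsSplit V c g a) (l : X ⟶ Z) :
    IsSplit V c (l ≫ g) (pullFam V l g a) := by
  intro i j W hi hj
  have hW : W ≤ l ⁻¹ᵁ (g ⁻¹ᵁ V i ⊓ g ⁻¹ᵁ V j) := le_inf hi hj
  have := congrArg (pu l _ W hW) (ha i j _ inf_le_left inf_le_right)
  rw [map_mul] at this
  exact (congrArg₂ (· * ·) ((ru_pu l _ hi (a i)).trans (pu_ru l _ hW (a i)).symm)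
    (pu_pu l g _ hW (c i j)).symm).trans (this.trans ((pu_ru l _ hW (a j)).trans (ru_pu l _ hj (a j)).symm))

theorem pullFam_ru {g : Z ⟶ Y} (a : ∀ i, Γ(Z, g ⁻¹ᵁ V i)ˣ) (l : X ⟶ Z) (i : ι) {W : X.Opens}
    (h : W ≤ (l ≫ g) ⁻¹ᵁ V i) : ru h (pullFam V l g a i) = pu l (g ⁻¹ᵁ V i) W h (a i) :=
  ru_pu l _ h (a i)

theorem IsSplit.mul {g : Z ⟶ Y} {a : ∀ i, Γ(Z, g ⁻¹ᵁ V i)ˣ} (ha : IsSplit V c g a) (v : Γ(Z, ⊤)ˣ) :
    IsSplit V c g (fun i => a i * ru le_top v) := by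
  intro i j W hi hj
  rw [map_mul, map_mul, ← ha i j W hi hj, ru_ru, ru_ru, mul_right_comm]

theorem IsSplit.exists_ratio {g g' : Z ⟶ Y} (hg : g = g') (hV : ∀ y : Y, ∃ i, y ∈ V i)
    {a : ∀ i, Γ(Z, g ⁻¹ᵁ V i)ˣ} (ha : IsSplit V c g a)
    {a' : ∀ i, Γ(Z, g' ⁻¹ᵁ V i)ˣ} (ha' : IsSplit V c g' a') :
    ∃ v : Γ(Z, ⊤)ˣ, ∀ i (W : Z.Opens) (h : W ≤ g ⁻¹ᵁ V i) (h' : W ≤ g' ⁻¹ᵁ V i),
      ru le_top v * ru h (a i) = ru h' (a' i) := by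
  subst hg
  obtain ⟨v, hv⟩ := exists_unit_glue (fun i => g ⁻¹ᵁ V i) ⊤ (fun _ => le_top)
    (fun z _ => Opens.mem_iSup.2 (hV (g z))) (fun i => a' i * (a i)⁻¹) fun i j => by
      rw [map_mul, map_mul, map_inv, map_inv, ← ha i j _ inf_le_left inf_le_right,
        ← ha' i j _ inf_le_left inf_le_right, ← div_eq_mul_inv, ← div_eq_mul_inv,
        mul_div_mul_right_eq_div]
  refine ⟨v, fun i W h h' => ?_⟩
  rw [← ru_ru (le_top : g ⁻¹ᵁ V i ≤ ⊤) h, hv i, map_mul, map_inv, inv_mul_cancel_right]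

end Split

end Groth.Agent.AbDualLib
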