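/-
Descent of functions and of units along fppf coverings.
-/
import Groth.Agent.L26.AbDual.Coords
import Mathlib.AlgebraicGeometry.Sites.Fpqc
import Mathlib.AlgebraicGeometry.GammaSpecAdjunction
import Mathlib.AlgebraicGeometry.Restrict
import Mathlib.Algebra.Polynomial.Eval.Coeff
import Mathlib.Algebra.Ring.ULift

open CategoryTheory CategoryTheory.Limits AlgebraicGeometry TopologicalSpace Opposite

universe u w

noncomputable section

namespace Groth.Agent.AbDualLib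

/-- The affine line over the integers. -/
abbrev line : Scheme.{u} := Spec (CommRingCat.of (Polynomial (ULift.{u} ℤ)))

/-- The function attached to a morphism to the line. -/
def lineFn {Z : Scheme.{u}} (m : Z ⟶ line.{u}) : Γ(Z, ⊤) :=
  m.appTop ((Scheme.ΓSpecIso (CommRingCat.of (Polynomial (ULift.{u} ℤ)))).inv Polynomial.X)

theorem lineFn_comp {Z W : Scheme.{u}} (h : W ⟶ Z) (m : Z ⟶ line.{u}) :
    lineFn (h ≫ m) = h.appTop (lineFn m) := by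
  simp only [lineFn, Scheme.Hom.comp_appTop]
  rfl

theorem lineFn_injective {Z : Scheme.{u}} {m m' : Z ⟶ line.{u}} (h : lineFn m = lineFn m') : m = m' := by
  apply ext_of_isAffine
  apply (cancel_epi (Scheme.ΓSpecIso (CommRingCat.of (Polynomial (ULift.{u} ℤ)))).inv).1
  apply CommRingCat.hom_ext
  refine Polynomial.ringHom_ext' ?_ h
  apply RingHom.ext
  rintro ⟨r⟩
  rw [show (ULift.up r : ULift.{u} ℤ) = (r : ULift.{u} ℤ) from rfl, map_intCast, map_intCast]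

theorem exists_lineFn {Z : Scheme.{u}} (v : Γ(Z, ⊤)) : ∃ m : Z ⟶ line.{u}, lineFn m = v := by
  let φ : CommRingCat.of (Polynomial (ULift.{u} ℤ)) ⟶ Γ(Z, ⊤) :=
    CommRingCat.ofHom (Polynomial.eval₂RingHom ((Int.castRingHom Γ(Z, ⊤)).comp ULift.ringEquiv.toRingHom) v)
  refine ⟨Z.toSpecΓ ≫ Spec.map φ, ?_⟩
  show ((Scheme.ΓSpecIso _).inv ≫ (Z.toSpecΓ ≫ Spec.map φ).appTop) Polynomial.X = v
  rw [Scheme.Hom.comp_appTop, ← Scheme.ΓSpecIso_inv_naturality_assoc, Scheme.toSpecΓ_appTop,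
    Iso.inv_hom_id, Category.comp_id]
  exact Polynomial.eval₂_X _ _

theorem appTop_appLE {P Q Y : Scheme.{u}} (k : P ⟶ Q) (l : Q ⟶ Y) (V : Y.Opens)
    (e : (⊤ : Q.Opens) ≤ l ⁻¹ᵁ V) (x : Γ(Y, V)) :
    k.appTop (l.appLE V ⊤ e x) = (k ≫ l).appLE V ⊤ ((le_top : (⊤ : P.Opens) ≤ k ⁻¹ᵁ ⊤).trans (k.preimage_mono e)) x := by
  have h : k.appTop = k.appLE ⊤ ⊤ le_top := Scheme.Hom.app_eq_appLE k
  rw [h]
  exact (ConcreteCategory.comp_apply _ _ _).symm.trans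
    (ConcreteCategory.congr_hom (Scheme.Hom.appLE_comp_appLE _ _ _ _ _ _ _) x)

theorem appLE_app {P Q Y : Scheme.{u}} (l : P ⟶ Q) (g : Q ⟶ Y) (V : Y.Opens) (W : P.Opens)
    (e : W ≤ l ⁻¹ᵁ g ⁻¹ᵁ V) (x : Γ(Y, V)) :
    l.appLE (g ⁻¹ᵁ V) W e (g.app V x) = (l ≫ g).appLE V W e x := by
  rw [Scheme.Hom.app_eq_appLE, ← ConcreteCategory.comp_apply, Scheme.Hom.appLE_comp_appLE]

theorem appLE_hom_congr {P Y : Scheme.{u}} {a b : P ⟶ Y} (h : a = b) {V : Y.Opens} {W : P.Opens}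
    (ha : W ≤ a ⁻¹ᵁ V) : a.appLE V W ha = b.appLE V W (h ▸ ha) := by
  subst h
  rfl

/-- The sheaf property of the line on the pullback of a covering sieve to an open. -/
theorem line_isSheafFor {Y : Scheme.{u}} (V : Y.Opens) (S : Sieve Y) (hS : S ∈ Scheme.fppfTopology Y) :
    Presieve.IsSheafFor (CategoryTheory.yoneda.obj line.{u}) (S.pullback V.ι : Presieve V.toScheme) :=
  GrothendieckTopology.Subcanonical.isSheaf_of_isRepresentable
    (J := Scheme.fppfTopology) (CategoryTheory.yoneda.obj line.{u}) _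
    (Scheme.fppfTopology.pullback_stable V.ι hS)

theorem top_le_ι_preimage {Y : Scheme.{u}} (V : Y.Opens) : (⊤ : V.toScheme.Opens) ≤ V.ι ⁻¹ᵁ V :=
  (V.ι_preimage_self).ge

theorem ι_appLE_bijective {Y : Scheme.{u}} (V : Y.Opens) :
    Function.Bijective (V.ι.appLE V ⊤ (top_le_ι_preimage V)).hom := by
  refine (ConcreteCategory.isIso_iff_bijective _).1 ?_
  rw [Scheme.Opens.ι_appLE]
  have : IsIso (homOfLE (x := V.ι ''ᵁ (⊤ : V.toScheme.Opens)) (y := V) V.ι_image_top.le) :=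
    ⟨homOfLE V.ι_image_top.ge, rfl, rfl⟩
  exact Functor.map_isIso _ _

/-- Functions are determined on an fppf covering. -/
theorem fun_ext {Y : Scheme.{u}} (V : Y.Opens) {J : Type w} (Z : J → Scheme.{u}) (g : ∀ j, Z j ⟶ Y)
    (hg : Sieve.ofArrows Z g ∈ Scheme.fppfTopology Y) (d d' : Γ(Y, V))
    (h : ∀ j, (g j).app V d = (g j).app V d') : d = d' := by
  refine (ι_appLE_bijective V).1 ?_
  obtain ⟨m, hm⟩ := exists_lineFn (V.ι.appLE V ⊤ (top_le_ι_preimage V) d)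
  obtain ⟨m', hm'⟩ := exists_lineFn (V.ι.appLE V ⊤ (top_le_ι_preimage V) d')
  show (V.ι.appLE V ⊤ _).hom d = (V.ι.appLE V ⊤ _).hom d'
  rw [← hm, ← hm']
  refine congrArg lineFn ((line_isSheafFor V _ hg).isSeparatedFor.ext fun P k hk => ?_)
  show k ≫ m = k ≫ m'
  obtain ⟨Zj, l, gj, hgj, hl⟩ := hk
  cases hgj with | mk j => ?_
  apply lineFn_injective
  rw [lineFn_comp, lineFn_comp, hm, hm']
  have e : ∀ x : Γ(Y, V), k.appTop (V.ι.appLE V ⊤ (top_le_ι_preimage V) x) =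
      l.appLE ((g j) ⁻¹ᵁ V) ⊤ (fun p _ => show (l ≫ g j) p ∈ V by rw [hl]; exact (k p).2) ((g j).app V x) := by
    intro x
    refine (appTop_appLE _ _ _ _ _).trans ((ConcreteCategory.congr_hom (appLE_hom_congr hl.symm _) x).trans ?_)
    exact (appLE_app _ _ _ _ _ _).symm
  rw [e, e, h j]

/-- Descent of functions along an fppf covering. -/
theorem exists_fun_desc {Y : Scheme.{u}} (V : Y.Opens) {J : Type w} (Z : J → Scheme.{u})
    (g : ∀ j, Z j ⟶ Y) (hg : Sieve.ofArrows Z g ∈ Scheme.fppfTopology Y)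
    (a : ∀ j, Γ(Z j, g j ⁻¹ᵁ V))
    (compat : ∀ (j j' : J) {P : Scheme.{u}} (l : P ⟶ Z j) (l' : P ⟶ Z j') (W : P.Opens)
      (h : W ≤ l ⁻¹ᵁ g j ⁻¹ᵁ V) (h' : W ≤ l' ⁻¹ᵁ g j' ⁻¹ᵁ V), l ≫ g j = l' ≫ g j' →
      l.appLE _ W h (a j) = l'.appLE _ W h' (a j')) :
    ∃ d : Γ(Y, V), ∀ j, (g j).app V d = a j := by
  have hfac : ∀ ⦃P : Scheme.{u}⦄ (k : P ⟶ V.toScheme), (Sieve.ofArrows Z g).pullback V.ι k →
      ∃ (j : J) (l : P ⟶ Z j), l ≫ g j = k ≫ V.ι := by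
    rintro P k ⟨_, l, _, ⟨j⟩, hl⟩
    exact ⟨j, l, hl⟩
  choose J' l hl using hfac
  have hle : ∀ {P : Scheme.{u}} (k : P ⟶ V.toScheme) (j : J) (l : P ⟶ Z j), l ≫ g j = k ≫ V.ι →
      (⊤ : P.Opens) ≤ l ⁻¹ᵁ g j ⁻¹ᵁ V := fun k j l h p _ => show (l ≫ g j) p ∈ V by
    rw [h]; exact (k p).2
  choose x hx using fun P (k : P ⟶ V.toScheme) (hk : (Sieve.ofArrows Z g).pullback V.ι k) =>
    exists_lineFn ((l k hk).appLE _ ⊤ (hle k _ _ (hl k hk)) (a (J' k hk)))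
  let fam : Presieve.FamilyOfElements (CategoryTheory.yoneda.obj line.{u})
      ((Sieve.ofArrows Z g).pullback V.ι : Presieve V.toScheme) := fun P k hk => x P k hk
  have hfam : ∀ {P : Scheme.{u}} (k : P ⟶ V.toScheme) (hk : (Sieve.ofArrows Z g).pullback V.ι k) (j : J)
      (l' : P ⟶ Z j) (hl' : l' ≫ g j = k ≫ V.ι),
      lineFn (fam k hk) = l'.appLE _ ⊤ (hle k j l' hl') (a j) := fun k hk j l' hl' =>
    (hx _ k hk).trans (compat _ _ _ _ _ _ _ ((hl k hk).trans hl'.symm))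
  have hfc : fam.Compatible := by
    intro Y₁ Y₂ P g₁ g₂ f₁ f₂ h₁ h₂ e
    show g₁ ≫ fam f₁ h₁ = g₂ ≫ fam f₂ h₂
    apply lineFn_injective
    rw [lineFn_comp, lineFn_comp, hx _ f₁ h₁, hx _ f₂ h₂]
    rw [appTop_appLE, appTop_appLE]
    exact compat _ _ _ _ _ _ _ (by rw [Category.assoc, hl f₁ h₁, Category.assoc, hl f₂ h₂, reassoc_of% e])
  have hsh := line_isSheafFor V _ hg
  let m : V.toScheme ⟶ line.{u} := hsh.amalgamate fam hfc
  obtain ⟨d, hd⟩ := (ι_appLE_bijective V).2 (lineFn m)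
  refine ⟨d, fun j => ?_⟩
  have hk : (Sieve.ofArrows Z g).pullback V.ι (g j ∣_ V) :=
    ⟨_, (g j ⁻¹ᵁ V).ι, _, ⟨j⟩, (morphismRestrict_ι (g j) V).symm⟩
  have h1 : (g j ∣_ V) ≫ m = fam (g j ∣_ V) hk := hsh.valid_glue hfc _ hk
  have h2 := congrArg lineFn h1
  rw [lineFn_comp, hfam _ hk j (g j ⁻¹ᵁ V).ι (morphismRestrict_ι (g j) V).symm] at h2
  refine (ι_appLE_bijective (g j ⁻¹ᵁ V)).1 (Eq.trans ?_ h2)
  show (g j ⁻¹ᵁ V).ι.appLE _ ⊤ _ ((g j).app V d) = (g j ∣_ V).appTop (lineFn m)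
  rw [← hd, appLE_app]
  erw [appTop_appLE]
  exact ConcreteCategory.congr_hom (appLE_hom_congr (morphismRestrict_ι (g j) V).symm _) d

end Groth.Agent.AbDualLib
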