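/-
Descent of rigidified splittings along fppf coverings of the base.
-/
import Groth.Agent.L26.AbDual.FunDescent
import Groth.Prelude.Def_AbDual

open CategoryTheory CategoryTheory.Limits AlgebraicGeometry TopologicalSpace Opposite

universe u

noncomputable section

namespace Groth.Agent.AbDualLib

/-- Descent of units along an fppf covering. -/
theorem exists_unit_desc {Y : Scheme.{u}} (V : Y.Opens) {J : Type*} (Z : J → Scheme.{u})
    (g : ∀ j, Z j ⟶ Y) (hg : Sieve.ofArrows Z g ∈ Scheme.fppfTopology Y)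
    (a : ∀ j, Γ(Z j, g j ⁻¹ᵁ V)ˣ)
    (compat : ∀ (j j' : J) {P : Scheme.{u}} (l : P ⟶ Z j) (l' : P ⟶ Z j') (W : P.Opens)
      (h : W ≤ l ⁻¹ᵁ g j ⁻¹ᵁ V) (h' : W ≤ l' ⁻¹ᵁ g j' ⁻¹ᵁ V), l ≫ g j = l' ≫ g j' →
      pu l _ W h (a j) = pu l' _ W h' (a j')) :
    ∃ d : Γ(Y, V)ˣ, ∀ j, pu (g j) V (g j ⁻¹ᵁ V) le_rfl d = a j := by
  obtain ⟨d, hd⟩ := exists_fun_desc V Z g hg (fun j => (a j : Γ(Z j, g j ⁻¹ᵁ V)))
    fun j j' P l l' W h h' e => congrArg Units.val (compat j j' l l' W h h' e)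
  obtain ⟨d', hd'⟩ := exists_fun_desc V Z g hg (fun j => (((a j)⁻¹ : Γ(Z j, g j ⁻¹ᵁ V)ˣ) : Γ(Z j, g j ⁻¹ᵁ V)))
    fun j j' P l l' W h h' e => congrArg Units.val
      ((map_inv _ _).trans ((congrArg (·⁻¹) (compat j j' l l' W h h' e)).trans (map_inv _ _).symm))
  have h1 : d * d' = 1 := fun_ext V Z g hg _ _ fun j => by
    rw [map_mul, hd, hd', map_one, ← Units.val_mul, mul_inv_cancel, Units.val_one]
  refine ⟨Units.mkOfMulEqOne d d' h1, fun j => Units.ext ?_⟩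
  rw [val_pu, Units.val_mkOfMulEqOne, ← hd j, Scheme.Hom.app_eq_appLE]

theorem units_ext_cover {Y : Scheme.{u}} (V : Y.Opens) {J : Type*} (Z : J → Scheme.{u})
    (g : ∀ j, Z j ⟶ Y) (hg : Sieve.ofArrows Z g ∈ Scheme.fppfTopology Y) (d d' : Γ(Y, V)ˣ)
    (h : ∀ j, pu (g j) V (g j ⁻¹ᵁ V) le_rfl d = pu (g j) V (g j ⁻¹ᵁ V) le_rfl d') : d = d' :=
  Units.ext (fun_ext V Z g hg _ _ fun j => by
    rw [Scheme.Hom.app_eq_appLE]
    exact congrArg Units.val (h j))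

variable {X S : Scheme.{u}} (f : X ⟶ S)

theorem XTmap_fst {T T' : Over S} (q : T' ⟶ T) :
    PicF.XTmap f q ≫ pullback.fst f T.hom = pullback.fst f T'.hom := by
  exact pullback.lift_fst _ _ _

theorem XTmap_snd {T T' : Over S} (q : T' ⟶ T) :
    PicF.XTmap f q ≫ pullback.snd f T.hom = pullback.snd f T'.hom ≫ q.left := by
  exact pullback.lift_snd _ _ _

theorem XTmap_comp {T T' T'' : Over S} (p : T'' ⟶ T') (q : T' ⟶ T) :
    PicF.XTmap f (p ≫ q) = PicF.XTmap f p ≫ PicF.XTmap f q := by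
  apply pullback.hom_ext
  · rw [Category.assoc, XTmap_fst, XTmap_fst, XTmap_fst]
  · rw [XTmap_snd, Category.assoc, XTmap_snd, reassoc_of% (XTmap_snd f p), Over.comp_left]

variable (σ : S ⟶ X) (hσ : σ ≫ f = 𝟙 S)

theorem secT_snd (T : Over S) : PicF.secT f σ hσ T ≫ pullback.snd f T.hom = 𝟙 T.left :=
  pullback.lift_snd _ _ _

theorem secT_XTmap {T T' : Over S} (q : T' ⟶ T) :
    PicF.secT f σ hσ T' ≫ PicF.XTmap f q = q.left ≫ PicF.secT f σ hσ T := by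
  apply pullback.hom_ext
  · rw [Category.assoc, XTmap_fst, Category.assoc, PicF.secT, PicF.secT, pullback.lift_fst,
      pullback.lift_fst, Over.w_assoc]
  · rw [Category.assoc, XTmap_snd, ← Category.assoc, secT_snd, Category.assoc, secT_snd,
      Category.id_comp, Category.comp_id]

/-- The pullback to `X_T` of the members of a covering of `T`. -/
theorem ofArrows_XTmap_mem {T : Over S} {R : Presieve T.left} (hR : R ∈ Scheme.fppfPrecoverage T.left) :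
    Sieve.ofArrows (fun j : Σ' (U : Scheme.{u}) (u : U ⟶ T.left), R u => PicF.XT f (AbDual.ovr T j.2.1))
      (fun j => PicF.XTmap f (AbDual.ovrHom T j.2.1)) ∈ Scheme.fppfTopology (PicF.XT f T) := by
  refine GrothendieckTopology.superset_covering _ ?_
    (Scheme.fppfTopology.pullback_stable (pullback.snd f T.hom) (Precoverage.generate_mem_toGrothendieck hR))
  rintro P k ⟨U, q, u, hu, hq⟩
  let j : Σ' (U : Scheme.{u}) (u : U ⟶ T.left), R u := ⟨U, u, hu⟩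
  refine ⟨_, pullback.lift (k ≫ pullback.fst f T.hom) q ?_, _, ⟨j⟩, ?_⟩
  · show (k ≫ pullback.fst f T.hom) ≫ f = q ≫ u ≫ T.hom
    rw [Category.assoc, pullback.condition, reassoc_of% hq]
  · apply pullback.hom_ext
    · rw [Category.assoc, XTmap_fst, pullback.lift_fst]
    · rw [Category.assoc, XTmap_snd, pullback.lift_snd_assoc]
      exact hq

variable {ι : Type u} {T : Over S} {V : ι → (PicF.XT f T).Opens}
  {c : ∀ i j, Γ(PicF.XT f T, V i ⊓ V j)ˣ}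

/-- A splitting on a member of the covering, normalised along the section. -/
theorem exists_normalised (hV : ∀ y, ∃ i, y ∈ V i)
    {b : ∀ i, Γ(T.left, PicF.secT f σ hσ T ⁻¹ᵁ V i)ˣ} (hb : IsSplit V c (PicF.secT f σ hσ T) b)
    {T' : Over S} (q : T' ⟶ T) {a : ∀ i, Γ(PicF.XT f T', PicF.XTmap f q ⁻¹ᵁ V i)ˣ}
    (ha : IsSplit V c (PicF.XTmap f q) a) :
    ∃ a' : ∀ i, Γ(PicF.XT f T', PicF.XTmap f q ⁻¹ᵁ V i)ˣ, IsSplit V c (PicF.XTmap f q) a' ∧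
      ∀ i (W : T'.left.Opens) (h : W ≤ (PicF.secT f σ hσ T' ≫ PicF.XTmap f q) ⁻¹ᵁ V i)
        (h' : W ≤ (q.left ≫ PicF.secT f σ hσ T) ⁻¹ᵁ V i),
        pu (PicF.secT f σ hσ T') (PicF.XTmap f q ⁻¹ᵁ V i) W h (a' i) =
          pu q.left (PicF.secT f σ hσ T ⁻¹ᵁ V i) W h' (b i) := by
  obtain ⟨μ, hμ⟩ := (ha.pull (PicF.secT f σ hσ T')).exists_ratio (secT_XTmap f σ hσ q) hV (hb.pull q.left)
  refine ⟨_, ha.mul (pu (pullback.snd f T'.hom) ⊤ ⊤ le_top μ), fun i W h h' => ?_⟩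
  have h1 := hμ i W h h'
  rw [pullFam_ru, pullFam_ru] at h1
  refine Eq.trans ?_ h1
  rw [map_mul, mul_comm]
  exact congrArg (· * _) ((pu_ru _ _ _ _).trans ((pu_pu _ _ _ _ μ).trans
    (DFunLike.congr_fun (pu_congr (secT_snd f σ hσ T') _) μ)))

/-- Normalised splittings agree on the overlaps. -/
theorem normalised_compat (hV : ∀ y, ∃ i, y ∈ V i)
    {b : ∀ i, Γ(T.left, PicF.secT f σ hσ T ⁻¹ᵁ V i)ˣ}
    {T₁ T₂ T₃ : Over S} (q₁ : T₁ ⟶ T) (q₂ : T₂ ⟶ T) (p₁ : T₃ ⟶ T₁) (p₂ : T₃ ⟶ T₂)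
    (hp : p₁ ≫ q₁ = p₂ ≫ q₂) (hsurj : Function.Surjective (PicF.XTproj f T₃).appTop.hom)
    {a₁ : ∀ i, Γ(PicF.XT f T₁, PicF.XTmap f q₁ ⁻¹ᵁ V i)ˣ} (ha₁ : IsSplit V c (PicF.XTmap f q₁) a₁)
    {a₂ : ∀ i, Γ(PicF.XT f T₂, PicF.XTmap f q₂ ⁻¹ᵁ V i)ˣ} (ha₂ : IsSplit V c (PicF.XTmap f q₂) a₂)
    (hn₁ : ∀ i (W : T₁.left.Opens) (h : W ≤ (PicF.secT f σ hσ T₁ ≫ PicF.XTmap f q₁) ⁻¹ᵁ V i)
        (h' : W ≤ (q₁.left ≫ PicF.secT f σ hσ T) ⁻¹ᵁ V i),
        pu (PicF.secT f σ hσ T₁) (PicF.XTmap f q₁ ⁻¹ᵁ V i) W h (a₁ i) =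
          pu q₁.left (PicF.secT f σ hσ T ⁻¹ᵁ V i) W h' (b i))
    (hn₂ : ∀ i (W : T₂.left.Opens) (h : W ≤ (PicF.secT f σ hσ T₂ ≫ PicF.XTmap f q₂) ⁻¹ᵁ V i)
        (h' : W ≤ (q₂.left ≫ PicF.secT f σ hσ T) ⁻¹ᵁ V i),
        pu (PicF.secT f σ hσ T₂) (PicF.XTmap f q₂ ⁻¹ᵁ V i) W h (a₂ i) =
          pu q₂.left (PicF.secT f σ hσ T ⁻¹ᵁ V i) W h' (b i))
    (i : ι) (W : (PicF.XT f T₃).Opens) (h₁ : W ≤ (PicF.XTmap f p₁ ≫ PicF.XTmap f q₁) ⁻¹ᵁ V i)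
    (h₂ : W ≤ (PicF.XTmap f p₂ ≫ PicF.XTmap f q₂) ⁻¹ᵁ V i) :
    pu (PicF.XTmap f p₁) (PicF.XTmap f q₁ ⁻¹ᵁ V i) W h₁ (a₁ i) =
      pu (PicF.XTmap f p₂) (PicF.XTmap f q₂ ⁻¹ᵁ V i) W h₂ (a₂ i) := by
  have heq : PicF.XTmap f p₁ ≫ PicF.XTmap f q₁ = PicF.XTmap f p₂ ≫ PicF.XTmap f q₂ := by
    rw [← XTmap_comp, hp, XTmap_comp]
  obtain ⟨v, hv⟩ := (ha₁.pull (PicF.XTmap f p₁)).exists_ratio heq hV (ha₂.pull (PicF.XTmap f p₂))
  let s := PicF.secT f σ hσ T₃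
  have hsv : pu s ⊤ ⊤ le_top v = 1 := by
    refine unit_ext (fun i => (s ≫ PicF.XTmap f p₁ ≫ PicF.XTmap f q₁) ⁻¹ᵁ V i) (fun _ => le_top)
      (fun z _ => Opens.mem_iSup.2 (hV _)) _ _ fun i => ?_
    set O := (s ≫ PicF.XTmap f p₁ ≫ PicF.XTmap f q₁) ⁻¹ᵁ V i
    have hO₂ : O ≤ (s ≫ PicF.XTmap f p₂ ≫ PicF.XTmap f q₂) ⁻¹ᵁ V i := le_of_eq (by simp only [O, heq])
    let E := (PicF.XTmap f p₁ ≫ PicF.XTmap f q₁) ⁻¹ᵁ V i
    have hE : E ≤ (PicF.XTmap f p₂ ≫ PicF.XTmap f q₂) ⁻¹ᵁ V i := le_of_eq (by simp only [E, heq])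
    have h1 := hv i E le_rfl hE
    rw [pullFam_ru, pullFam_ru] at h1
    have h2 := congrArg (pu s E O le_rfl) h1
    rw [map_mul] at h2
    erw [pu_ru, pu_pu, pu_pu] at h2
    have hs₁ : s ≫ PicF.XTmap f p₁ = p₁.left ≫ PicF.secT f σ hσ T₁ := secT_XTmap f σ hσ p₁
    have hs₂ : s ≫ PicF.XTmap f p₂ = p₂.left ≫ PicF.secT f σ hσ T₂ := secT_XTmap f σ hσ p₂
    rw [DFunLike.congr_fun (pu_congr hs₁ _) (a₁ i), DFunLike.congr_fun (pu_congr hs₂ _) (a₂ i)] at h2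
    let O₁ := (PicF.secT f σ hσ T₁ ≫ PicF.XTmap f q₁) ⁻¹ᵁ V i
    let O₂ := (PicF.secT f σ hσ T₂ ≫ PicF.XTmap f q₂) ⁻¹ᵁ V i
    have k₁ : O ≤ p₁.left ⁻¹ᵁ O₁ := le_of_eq (by
      show (s ≫ PicF.XTmap f p₁ ≫ PicF.XTmap f q₁) ⁻¹ᵁ V i =
        (p₁.left ≫ PicF.secT f σ hσ T₁ ≫ PicF.XTmap f q₁) ⁻¹ᵁ V i
      rw [reassoc_of% hs₁])
    have k₂ : O ≤ p₂.left ⁻¹ᵁ O₂ := le_trans hO₂ (le_of_eq (by
      show (s ≫ PicF.XTmap f p₂ ≫ PicF.XTmap f q₂) ⁻¹ᵁ V i =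
        (p₂.left ≫ PicF.secT f σ hσ T₂ ≫ PicF.XTmap f q₂) ⁻¹ᵁ V i
      rw [reassoc_of% hs₂]))
    have e₁ := congrArg (pu p₁.left O₁ O k₁) (hn₁ i O₁ le_rfl (le_of_eq (by simp only [O₁, secT_XTmap])))
    have e₂ := congrArg (pu p₂.left O₂ O k₂) (hn₂ i O₂ le_rfl (le_of_eq (by simp only [O₂, secT_XTmap])))
    erw [pu_pu, pu_pu] at e₁ e₂
    have hpq : p₁.left ≫ q₁.left = p₂.left ≫ q₂.left := by rw [← Over.comp_left, hp, Over.comp_left]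
    rw [e₁, e₂, DFunLike.congr_fun (pu_congr hpq _) (b i), mul_eq_right] at h2
    rw [map_one]
    exact (ru_pu _ _ _ _).trans h2
  have hv1 : v = 1 := by
    obtain ⟨w, hw⟩ := hsurj (v : Γ(PicF.XT f T₃, ⊤))
    have e : ∀ x : Γ(PicF.XT f T₃, ⊤), (s.appLE ⊤ ⊤ le_top).hom x = s.appTop.hom x := fun x =>
      congrArg (fun φ => φ.hom x) (Scheme.Hom.app_eq_appLE s).symm
    have h1 : s.appTop.hom ((PicF.XTproj f T₃).appTop.hom w) = w := by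
      show ((PicF.XTproj f T₃).appTop ≫ s.appTop).hom w = w
      rw [← Scheme.Hom.comp_appTop, show s ≫ PicF.XTproj f T₃ = 𝟙 _ from secT_snd f σ hσ T₃,
        Scheme.Hom.id_appTop]
      rfl
    have hw1 : w = 1 := by
      rw [← h1, hw, ← e]
      exact congrArg Units.val hsv
    exact Units.ext (by rw [← hw, hw1, map_one]; rfl)
  have h1 := hv i W h₁ h₂
  rwa [hv1, map_one, one_mul, pullFam_ru, pullFam_ru] at h1

/-- Rigidified splittings descend. -/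
theorem exists_isSplit_id {R : Presieve T.left} (hR : R ∈ Scheme.fppfPrecoverage T.left)
    (hH : ∀ (T' : Over S) (t : T' ⟶ T), LocallyOfFinitePresentation t.left →
      Function.Surjective (PicF.XTproj f T').appTop.hom)
    (hV : ∀ y, ∃ i, y ∈ V i)
    {b : ∀ i, Γ(T.left, PicF.secT f σ hσ T ⁻¹ᵁ V i)ˣ} (hb : IsSplit V c (PicF.secT f σ hσ T) b)
    (ha : ∀ ⦃U : Scheme.{u}⦄ (u : U ⟶ T.left), R u →
      ∃ a, IsSplit V c (PicF.XTmap f (AbDual.ovrHom T u)) a) :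
    ∃ d, IsSplit V c (𝟙 (PicF.XT f T)) d := by
  choose a has using fun j : Σ' (U : Scheme.{u}) (u : U ⟶ T.left), R u => ha j.2.1 j.2.2
  choose a' hsplit hnorm using fun j => exists_normalised f σ hσ hV hb _ (has j)
  have hlfp : ∀ ⦃U : Scheme.{u}⦄ (u : U ⟶ T.left), R u → LocallyOfFinitePresentation u := by
    intro U u hu
    obtain ⟨ι', Z', g', rfl⟩ := Presieve.exists_eq_ofArrows R
    have h := (Scheme.ofArrows_mem_precoverage_iff _).1 hR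
    obtain ⟨k⟩ := hu
    exact (h.2 k).2
  have hcov := ofArrows_XTmap_mem f hR
  have key : ∀ (i : ι) (j j' : Σ' (U : Scheme.{u}) (u : U ⟶ T.left), R u) {P : Scheme.{u}}
      (l : P ⟶ PicF.XT f (AbDual.ovr T j.2.1)) (l' : P ⟶ PicF.XT f (AbDual.ovr T j'.2.1)) (W : P.Opens)
      (h : W ≤ l ⁻¹ᵁ PicF.XTmap f (AbDual.ovrHom T j.2.1) ⁻¹ᵁ V i)
      (h' : W ≤ l' ⁻¹ᵁ PicF.XTmap f (AbDual.ovrHom T j'.2.1) ⁻¹ᵁ V i),
      l ≫ PicF.XTmap f (AbDual.ovrHom T j.2.1) = l' ≫ PicF.XTmap f (AbDual.ovrHom T j'.2.1) →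
      pu l _ W h (a' j i) = pu l' _ W h' (a' j' i) := by
    intro i ⟨U, u, hu⟩ ⟨U', u', hu'⟩ P l l' W h h' e
    have e1 := congrArg (· ≫ pullback.fst f T.hom) e
    have e2 := congrArg (· ≫ pullback.snd f T.hom) e
    simp only [Category.assoc, XTmap_fst, XTmap_snd, AbDual.ovrHom, Over.homMk_left] at e1 e2
    have e2' : l ≫ pullback.snd f (u ≫ T.hom) ≫ u ≫ T.hom =
        l' ≫ pullback.snd f (u' ≫ T.hom) ≫ u' ≫ T.hom := by
      have := congrArg (· ≫ T.hom) e2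
      simp only [Category.assoc] at this
      exact this
    let T₃ : Over S := AbDual.ovr T (pullback.fst u u' ≫ u)
    let p₁ : T₃ ⟶ AbDual.ovr T u := Over.homMk (pullback.fst u u') (Category.assoc _ _ _).symm
    let p₂ : T₃ ⟶ AbDual.ovr T u' := Over.homMk (pullback.snd u u') (by
      show pullback.snd u u' ≫ u' ≫ T.hom = (pullback.fst u u' ≫ u) ≫ T.hom
      rw [pullback.condition, Category.assoc])
    have hp : p₁ ≫ AbDual.ovrHom T u = p₂ ≫ AbDual.ovrHom T u' := Over.OverMorphism.ext pullback.condition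
    have : LocallyOfFinitePresentation u := hlfp u hu
    have : LocallyOfFinitePresentation u' := hlfp u' hu'
    have hsurj := hH T₃ (p₁ ≫ AbDual.ovrHom T u)
      (show LocallyOfFinitePresentation (pullback.fst u u' ≫ u) from inferInstance)
    let m : P ⟶ PicF.XT f T₃ := pullback.lift (l ≫ pullback.fst f _)
      (pullback.lift (l ≫ pullback.snd f _) (l' ≫ pullback.snd f _) (by
        simpa only [Category.assoc] using e2)) (by
      show (l ≫ pullback.fst f (u ≫ T.hom)) ≫ f = _ ≫ (pullback.fst u u' ≫ u) ≫ T.hom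
      simp only [Category.assoc, pullback.condition, pullback.lift_snd_assoc]
      exact e2' )
    have hm₁ : m ≫ PicF.XTmap f p₁ = l := by
      apply pullback.hom_ext
      · rw [Category.assoc, XTmap_fst, pullback.lift_fst]
      · rw [Category.assoc, XTmap_snd, pullback.lift_snd_assoc]
        exact pullback.lift_fst _ _ _
    have hm₂ : m ≫ PicF.XTmap f p₂ = l' := by
      apply pullback.hom_ext
      · rw [Category.assoc, XTmap_fst, pullback.lift_fst]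
        exact e1
      · rw [Category.assoc, XTmap_snd, pullback.lift_snd_assoc]
        exact pullback.lift_snd _ _ _
    set g := PicF.XTmap f (AbDual.ovrHom T u)
    set g' := PicF.XTmap f (AbDual.ovrHom T u')
    let E := (PicF.XTmap f p₁ ≫ g) ⁻¹ᵁ V i
    have hEE : PicF.XTmap f p₁ ≫ g = PicF.XTmap f p₂ ≫ g' := by rw [← XTmap_comp, hp, XTmap_comp]
    have hWE : W ≤ m ⁻¹ᵁ E := h.trans (le_of_eq (by
      show (l ≫ g) ⁻¹ᵁ V i = (m ≫ PicF.XTmap f p₁ ≫ g) ⁻¹ᵁ V i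
      rw [reassoc_of% hm₁]))
    have := congrArg (pu m E W hWE) (normalised_compat f σ hσ hV _ _ p₁ p₂ hp hsurj
      (hsplit ⟨U, u, hu⟩) (hsplit ⟨U', u', hu'⟩) (hnorm ⟨U, u, hu⟩) (hnorm ⟨U', u', hu'⟩) i E
      le_rfl (le_of_eq (by simp only [E, g, g', hEE])))
    exact ((DFunLike.congr_fun (pu_congr hm₁ _) _).symm.trans (pu_pu _ _ _ _ _).symm).trans
      (this.trans ((pu_pu _ _ _ _ _).trans (DFunLike.congr_fun (pu_congr hm₂ _) _)))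
  choose d hd using fun i => exists_unit_desc (V i) _ _ hcov (fun j => a' j i) (fun j j' P l l' W h h' e => key i j j' l l' W h h' e)
  refine ⟨d, fun i i' W hi hi' => units_ext_cover W _ _ hcov _ _ fun j => ?_⟩
  set g := PicF.XTmap f (AbDual.ovrHom T j.2.1)
  have key2 : ∀ k (hk : W ≤ V k), pu g W (g ⁻¹ᵁ W) le_rfl (ru hk (d k)) =
      ru (g.preimage_mono hk) (a' j k) := fun k hk => by
    rw [← hd k j, ru_pu, pu_ru]
  refine ((map_mul _ _ _).trans (congrArg₂ (· * ·) (key2 i hi) ?_)).trans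
    ((hsplit j i i' (g ⁻¹ᵁ W) (g.preimage_mono hi) (g.preimage_mono hi')).trans (key2 i' hi').symm)
  exact (pu_pu _ _ _ _ _).trans (DFunLike.congr_fun (pu_congr (Category.comp_id _) _) _)

end Groth.Agent.AbDualLib
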