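/-
Invertible modules which agree on an fppf covering of the base and along a section agree.
-/
import Groth.Agent.L26.AbDual.SplitDescent
import Groth.Agent.L26.AV.RelMain
import Groth.Agent.L18.GenLocus
import Groth.Agent.L22.PicGlue.GensIso
import Groth.Agent.L29.LocFree

open CategoryTheory CategoryTheory.Limits AlgebraicGeometry TopologicalSpace Opposite
open Groth.L18.Frame (rs ro rs_rs rs_smul IsFrame pull pull_rs pull_smul exists_frame isUnit_of_isFrame)

universe u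

noncomputable section

namespace Groth.Agent.AbDualLib

/-- Fibres with constant functions give constant functions over any locally noetherian base. -/
theorem surjective_appTop_XTproj {X S : Scheme.{u}} (f : X ⟶ S) [IsProper f] [Flat f] [Surjective f]
    (h : ∀ s, AV.FibConst f s) (T' : Over S) [IsLocallyNoetherian T'.left] :
    Function.Surjective (PicF.XTproj f T').appTop.hom := by
  let ξ := PicF.XTproj f T'
  have hc : ∀ t, AV.FibConst ξ t := fun t => AV.fibConst_snd f T'.hom t (h _)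
  intro x
  obtain ⟨m, hm⟩ := exists_lineFn x
  have huniv : AV.collapsed ξ m = Set.univ := Set.eq_univ_of_forall fun t p p' hp hp' => by
    let τ := T'.left.fromSpecResidueField t
    obtain ⟨w, hw⟩ := hc t ((pullback.fst ξ τ).appTop x)
    obtain ⟨k, hk⟩ := exists_lineFn w
    have e : pullback.fst ξ τ ≫ m = pullback.snd ξ τ ≫ k :=
      lineFn_injective (by rw [lineFn_comp, lineFn_comp, hm, hk]; exact hw.symm)
    obtain ⟨pt⟩ : Nonempty ↥(Spec (T'.left.residueField t)) := inferInstance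
    have hτ : τ pt = t := Scheme.fromSpecResidueField_apply _ _
    obtain ⟨q, hq, hq'⟩ := Scheme.Pullback.exists_preimage_pullback (f := ξ) (g := τ) p pt (hp.trans hτ.symm)
    obtain ⟨r, hr, hr'⟩ := Scheme.Pullback.exists_preimage_pullback (f := ξ) (g := τ) p' pt (hp'.trans hτ.symm)
    rw [← hq, ← hr, ← Scheme.Hom.comp_apply, ← Scheme.Hom.comp_apply, e, Scheme.Hom.comp_apply,
      Scheme.Hom.comp_apply, hq', hr']
  obtain ⟨U, hU, heq⟩ := AV.isOpen_collapsed_and_eq ξ hc m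
  have : U = ⊤ := Opens.ext (hU.trans huniv)
  subst this
  obtain ⟨k, hk⟩ := AV.exists_desc ξ m ⊤ heq
  have : IsIso (ξ ⁻¹ᵁ ⊤).ι := inferInstanceAs (IsIso (PicF.XT f T').topIso.hom)
  have e1 : m = ξ ≫ T'.left.topIso.inv ≫ k := by
    rw [← cancel_epi (ξ ⁻¹ᵁ ⊤).ι, hk, ← morphismRestrict_ι_assoc]
    exact congrArg _ (T'.left.topIso.hom_inv_id_assoc k).symm
  refine ⟨lineFn (T'.left.topIso.inv ≫ k), ?_⟩
  rw [← hm, e1]
  exact (lineFn_comp ξ _).symm

/-- Frames are carried to frames by isomorphisms. -/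
theorem isFrame_map {Z : Scheme.{u}} {M N : Z.Modules} (φ : M ≅ N) {W : Z.Opens} {e : Γ(M, W)}
    (he : IsFrame M W e) : IsFrame N W (φ.hom.app W e) := fun W' h => by
  rw [show (fun a : Γ(Z, W') => a • rs N h (φ.hom.app W e)) = φ.hom.app W' ∘ fun a => a • rs M h e from
    funext fun a => by
      rw [Function.comp_apply, Scheme.Modules.Hom.app_smul]
      exact congrArg (a • ·) (congr($(φ.hom.mapPresheaf.naturality (homOfLE h).op) e)).symm]
  exact (ConcreteCategory.bijective_of_isIso (φ.hom.app W')).comp (he W' h)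

variable {Y Z : Scheme.{u}}

theorem ro_eq_ru {V W : Y.Opens} (h : W ≤ V) (a : Γ(Y, V)ˣ) :
    ro h (a : Γ(Y, V)) = (ru h a : Γ(Y, W)) := (val_ru h a).symm

/-- An isomorphism of pulled back modules gives a splitting of the comparison units. -/
theorem exists_isSplit_of_iso {ι : Type u} {L L' : Y.Modules} {V : ι → Y.Opens} {e : ∀ i, Γ(L, V i)}
    {e' : ∀ i, Γ(L', V i)} (he : ∀ i, IsFrame L (V i) (e i)) (he' : ∀ i, IsFrame L' (V i) (e' i))
    {cL cL' : ∀ i j, Γ(Y, V i ⊓ V j)ˣ}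
    (hcL : ∀ i j, (cL i j : Γ(Y, V i ⊓ V j)) • rs L inf_le_right (e j) = rs L inf_le_left (e i))
    (hcL' : ∀ i j, (cL' i j : Γ(Y, V i ⊓ V j)) • rs L' inf_le_right (e' j) = rs L' inf_le_left (e' i))
    (g : Z ⟶ Y) (φ : (Scheme.Modules.pullback g).obj L ≅ (Scheme.Modules.pullback g).obj L') :
    ∃ a, IsSplit V (fun i j => cL' i j * (cL i j)⁻¹) g a := by
  let M' := (Scheme.Modules.pullback g).obj L'
  have h1 : ∀ i, IsFrame M' (g ⁻¹ᵁ V i) (φ.hom.app _ (pull g L (V i) (e i))) := fun i =>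
    isFrame_map φ ((he i).pullback g L)
  choose a₀ ha₀ using fun i => ((he' i).pullback g L').exists_coeff le_rfl (φ.hom.app _ (pull g L (V i) (e i)))
  simp only [Groth.L18.Frame.rs_self] at ha₀
  have hu : ∀ i, IsUnit (a₀ i) := fun i =>
    isUnit_of_isFrame ((he' i).pullback g L') (by rw [ha₀ i]; exact h1 i)
  refine ⟨fun i => (hu i).unit, fun i j W hi hj => ?_⟩
  have hW : W ≤ g ⁻¹ᵁ (V i ⊓ V j) := le_inf hi hj
  let fr : ∀ {O : Y.Opens}, Γ(Y, O) → W ≤ g ⁻¹ᵁ O → Γ(Z, W) := fun {O} r h => g.appLE O W h r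
  have hnat : ∀ k (hk : W ≤ g ⁻¹ᵁ V k),
      φ.hom.app W (rs _ hk (pull g L (V k) (e k))) = ro hk (a₀ k) • rs M' hk (pull g L' (V k) (e' k)) := by
    intro k hk
    rw [← rs_smul, ha₀ k]
    exact congr($(φ.hom.mapPresheaf.naturality (homOfLE hk).op) (pull g L (V k) (e k)))
  have hrel : ∀ (N : Y.Modules) (d : ∀ k, Γ(N, V k)) (x : Γ(Y, V i ⊓ V j)),
      x • rs N inf_le_right (d j) = rs N inf_le_left (d i) →
      fr x hW • rs ((Scheme.Modules.pullback g).obj N) hj (pull g N (V j) (d j)) =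
        rs ((Scheme.Modules.pullback g).obj N) hi (pull g N (V i) (d i)) := by
    intro N d x hx
    have := congrArg (fun m => rs ((Scheme.Modules.pullback g).obj N) hW (pull g N (V i ⊓ V j) m)) hx
    simp only [pull_smul, rs_smul, ← pull_rs, rs_rs] at this
    exact this
  have key := hnat i hi
  rw [← hrel L e _ (hcL i j), Scheme.Modules.Hom.app_smul, hnat j hj, ← hrel L' e' _ (hcL' i j),
    ← mul_smul, ← mul_smul] at key
  have h2 := ((he' j).pullback g L').inj hj key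
  have h3 : pu g (V i ⊓ V j) W hW (cL i j) * ru hj (hu j).unit =
      ru hi (hu i).unit * pu g (V i ⊓ V j) W hW (cL' i j) := by
    apply Units.ext
    rw [Units.val_mul, Units.val_mul, ← ro_eq_ru, ← ro_eq_ru, val_pu, val_pu]
    exact h2
  rw [map_mul, map_inv, ← mul_assoc, ← h3, mul_comm (pu g (V i ⊓ V j) W hW (cL i j)), mul_inv_cancel_right]

variable {X S : Scheme.{u}} (f : X ⟶ S) (σ : S ⟶ X) (hσ : σ ≫ f = 𝟙 S)

/-- Invertible modules agreeing fppf-locally on the base and along the section are isomorphic. -/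
theorem nonempty_iso_of_cover {T : Over S} {R : Presieve T.left}
    (hR : R ∈ Scheme.fppfPrecoverage T.left)
    (hH : ∀ (T' : Over S) (t : T' ⟶ T), LocallyOfFinitePresentation t.left →
      Function.Surjective (PicF.XTproj f T').appTop.hom)
    {L L' : (PicF.XT f T).Modules} (hL : PicF.IsInvertible L) (hL' : PicF.IsInvertible L')
    (hs : Nonempty ((Scheme.Modules.pullback (PicF.secT f σ hσ T)).obj L ≅
      (Scheme.Modules.pullback (PicF.secT f σ hσ T)).obj L'))
    (hloc : ∀ ⦃U : Scheme.{u}⦄ (u : U ⟶ T.left), R u →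
      Nonempty ((Scheme.Modules.pullback (PicF.XTmap f (AbDual.ovrHom T u))).obj L ≅
        (Scheme.Modules.pullback (PicF.XTmap f (AbDual.ovrHom T u))).obj L')) :
    Nonempty (L ≅ L') := by
  choose W₁ e₁ hW₁ he₁ using exists_frame hL
  choose W₂ e₂ hW₂ he₂ using exists_frame hL'
  let ι := ↥(PicF.XT f T)
  let V : ι → (PicF.XT f T).Opens := fun y => W₁ y ⊓ W₂ y
  have hV : ∀ y, ∃ i, y ∈ V i := fun y => ⟨y, hW₁ y, hW₂ y⟩
  let e : ∀ i, Γ(L, V i) := fun i => rs L inf_le_left (e₁ i)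
  let e' : ∀ i, Γ(L', V i) := fun i => rs L' inf_le_right (e₂ i)
  have he : ∀ i, IsFrame L (V i) (e i) := fun i => (he₁ i).mono inf_le_left
  have he' : ∀ i, IsFrame L' (V i) (e' i) := fun i => (he₂ i).mono inf_le_right
  have hc : ∀ (N : (PicF.XT f T).Modules) (d : ∀ i, Γ(N, V i)), (∀ i, IsFrame N (V i) (d i)) →
      ∀ i j, ∃ x : Γ(PicF.XT f T, V i ⊓ V j)ˣ,
        (x : Γ(PicF.XT f T, V i ⊓ V j)) • rs N inf_le_right (d j) = rs N inf_le_left (d i) := by
    intro N d hd i j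
    obtain ⟨x, hx⟩ := ((hd j).mono (inf_le_right : V i ⊓ V j ≤ V j)).exists_coeff le_rfl (rs N inf_le_left (d i))
    rw [Groth.L18.Frame.rs_self] at hx
    exact ⟨(isUnit_of_isFrame ((hd j).mono (inf_le_right : V i ⊓ V j ≤ V j))
      (by rw [hx]; exact (hd i).mono inf_le_left)).unit, hx⟩
  choose cL hcL using hc L e he
  choose cL' hcL' using hc L' e' he'
  obtain ⟨b, hb⟩ := exists_isSplit_of_iso he he' hcL hcL' _ hs.some
  obtain ⟨d, hd⟩ := exists_isSplit_id f σ hσ hR hH hV hb fun U u hu =>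
    exists_isSplit_of_iso he he' hcL hcL' _ (hloc u hu).some
  let d₁ : ∀ i, Γ(PicF.XT f T, V i)ˣ := d
  let e'' : ∀ i, Γ(L', V i) := fun i => (d₁ i : Γ(PicF.XT f T, V i)) • e' i
  refine Groth.L22.PicGlue.nonempty_iso_of_gens V (e := e) (e' := e'') he
    (fun i => (he' i).smul_unit (d₁ i).isUnit) hV ?_
  intro i j W hi hj x hx
  have hij : W ≤ V i ⊓ V j := le_inf hi hj
  have hcW : ∀ (N : (PicF.XT f T).Modules) (q : ∀ k, Γ(N, V k)) (z : Γ(PicF.XT f T, V i ⊓ V j)ˣ),
      (z : Γ(PicF.XT f T, V i ⊓ V j)) • rs N inf_le_right (q j) = rs N inf_le_left (q i) →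
      (ru hij z : Γ(PicF.XT f T, W)) • rs N hj (q j) = rs N hi (q i) := by
    intro N q z hz
    have := congrArg (rs N hij) hz
    simp only [rs_smul, rs_rs] at this
    rwa [ro_eq_ru] at this
  have h1 := hcW L e (cL i j) (hcL i j)
  have h2 := hcW L' e' (cL' i j) (hcL' i j)
  have hx' : x • rs L hi (e i) = rs L hj (e j) := hx
  rw [← h1, ← mul_smul] at hx'
  have hx1 : x * (ru hij (cL i j) : Γ(PicF.XT f T, W)) = 1 :=
    ((he j).inj hj (a := x * (ru hij (cL i j) : Γ(PicF.XT f T, W))) (b := 1) (by rw [one_smul]; exact hx'))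
  have hx2 : x = (((ru hij (cL i j))⁻¹ : Γ(PicF.XT f T, W)ˣ) : Γ(PicF.XT f T, W)) :=
    eq_comm.1 (Units.inv_eq_of_mul_eq_one_left hx1)
  have hd' : ru hi (d₁ i) * ru hij (cL' i j * (cL i j)⁻¹) = ru hj (d₁ j) := hd i j W hi hj
  show x • rs L' hi (e'' i) = rs L' hj (e'' j)
  simp only [e'', rs_smul]
  rw [ro_eq_ru, ro_eq_ru, ← h2, ← mul_smul, ← mul_smul, hx2, ← Units.val_mul, ← Units.val_mul, ← hd',
    map_mul, map_inv]
  congr 2
  rw [mul_assoc, mul_comm, mul_assoc]

end Groth.Agent.AbDualLib
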