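/-
The monoid of classes of modules, and functoriality of the Pic⁰ classes.
-/
import Groth.Agent.L26.AbDual.Rigid
import Groth.Agent.L29.DCoh.PullTensor
import Groth.Agent.L18.AmplePull
import Groth.Prelude.Def_PicGrp

open CategoryTheory CategoryTheory.Limits AlgebraicGeometry TopologicalSpace Opposite
open Groth.L00.Tensor

universe u

noncomputable section

namespace Groth.Agent.AbDualLib

variable {Y Z : Scheme.{u}}

/-- The class of the structure sheaf. -/
abbrev oneCl (Y : Scheme.{u}) : PicF.Cl Y := PicF.cl (Coh.structureModule Y)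

theorem cl_congr {L M : Y.Modules} (e : L ≅ M) : PicF.cl L = PicF.cl M :=
  (PicGrp.cl_eq_cl_iff L M).2 ⟨e⟩

theorem cl_surjective (c : PicF.Cl Y) : ∃ L, PicF.cl L = c := Quot.exists_rep c

theorem mulCl_comm (a b : PicF.Cl Y) : PicGrp.mulCl a b = PicGrp.mulCl b a := by
  obtain ⟨L, rfl⟩ := cl_surjective a
  obtain ⟨M, rfl⟩ := cl_surjective b
  exact cl_congr (tensorComm L M)

theorem mulCl_assoc (a b c : PicF.Cl Y) :
    PicGrp.mulCl (PicGrp.mulCl a b) c = PicGrp.mulCl a (PicGrp.mulCl b c) := by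
  obtain ⟨L, rfl⟩ := cl_surjective a
  obtain ⟨M, rfl⟩ := cl_surjective b
  obtain ⟨N, rfl⟩ := cl_surjective c
  exact cl_congr (tensorAssoc L M N)

theorem oneCl_mul (a : PicF.Cl Y) : PicGrp.mulCl (oneCl Y) a = a := by
  obtain ⟨L, rfl⟩ := cl_surjective a
  exact cl_congr (tensorUnitLeft L)

theorem mul_oneCl (a : PicF.Cl Y) : PicGrp.mulCl a (oneCl Y) = a := by
  rw [mulCl_comm, oneCl_mul]

theorem pullCl_mulCl (g : Z ⟶ Y) (a b : PicF.Cl Y) :
    PicF.pullCl g (PicGrp.mulCl a b) = PicGrp.mulCl (PicF.pullCl g a) (PicF.pullCl g b) := by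
  obtain ⟨L, rfl⟩ := cl_surjective a
  obtain ⟨M, rfl⟩ := cl_surjective b
  exact (cl_congr (Groth.L29.DC.PullTensor.pullTensor g L M)).symm

theorem pullCl_oneCl (g : Z ⟶ Y) : PicF.pullCl g (oneCl Y) = oneCl Z :=
  cl_congr (Groth.L29.LocFree.pullbackUnitIso g)

theorem isInvertible_of_isInvertibleCl {L : Y.Modules} (h : PicF.IsInvertibleCl (PicF.cl L)) :
    PicF.IsInvertible L := by
  obtain ⟨M, hM, hinv⟩ := h
  exact Groth.L18.Ample.isInvertible_of_iso ((PicGrp.cl_eq_cl_iff M L).1 hM).some hinv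

theorem isInvertibleCl_mulCl {a b : PicF.Cl Y} (ha : PicF.IsInvertibleCl a) (hb : PicF.IsInvertibleCl b) :
    PicF.IsInvertibleCl (PicGrp.mulCl a b) := by
  obtain ⟨L, rfl, hL⟩ := ha
  obtain ⟨M, rfl, hM⟩ := hb
  exact ⟨_, rfl, Groth.L18.GenLoc.isInvertible_tensor hL hM⟩

theorem isInvertibleCl_of_isPicZeroCl {X S : Scheme.{u}} {f : X ⟶ S} {T : Over S} {c : PicF.Cl (PicF.XT f T)}
    (h : AbDual.IsPicZeroCl f T c) : PicF.IsInvertibleCl c := by
  obtain ⟨L, hc, hL, -⟩ := h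
  exact ⟨L, hc, hL⟩

/-- A class is trivial on a scheme with one point as soon as it is invertible. -/
theorem eq_oneCl_of_subsingleton [Subsingleton ↥Y] {c : PicF.Cl Y} (hc : PicF.IsInvertibleCl c) :
    c = oneCl Y := by
  obtain ⟨L, rfl, hL⟩ := hc
  refine (PicGrp.cl_eq_cl_iff _ _).2 ?_
  choose W e hW he using Groth.L18.Frame.exists_frame hL
  refine Groth.L22.PicGlue.nonempty_iso_of_gens W (e := e) (e' := fun y => (1 : Γ(Y, W y))) he
    (fun y V h => ?_) (fun x => ⟨x, hW x⟩) ?_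
  · have : (fun a : Γ(Y, V) => a • Groth.L21.Extend.rs (Coh.structureModule Y) h (1 : Γ(Y, W y))) = id := by
      funext a
      show a * (Y.presheaf.map (homOfLE h).op) 1 = a
      rw [map_one, mul_one]
    rw [this]
    exact Function.bijective_id
  · intro i j V hi hj x hx
    obtain rfl : i = j := Subsingleton.elim _ _
    have hx1 : x = 1 := (he i V hi).1 (hx.trans (one_smul _ _).symm)
    rw [hx1, one_smul]

/-- A tensor inverse of a trivial class is trivial. -/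
theorem eq_oneCl_of_mul_eq {a b : PicF.Cl Y} (h : PicGrp.mulCl a b = oneCl Y) (ha : a = oneCl Y) :
    b = oneCl Y := by
  rwa [ha, oneCl_mul] at h

variable {X S : Scheme.{u}} (f : X ⟶ S) (σ : S ⟶ X) (hσ : σ ≫ f = 𝟙 S)

/-- Classes agreeing fppf-locally and along the section agree. -/
theorem cl_eq_of_cover {T : Over S} {R : Presieve T.left} (hR : R ∈ Scheme.fppfPrecoverage T.left)
    (hH : ∀ (T' : Over S) (t : T' ⟶ T), LocallyOfFinitePresentation t.left →
      Function.Surjective (PicF.XTproj f T').appTop.hom)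
    {c c' : PicF.Cl (PicF.XT f T)} (hc : PicF.IsInvertibleCl c) (hc' : PicF.IsInvertibleCl c')
    (hs : PicF.pullCl (PicF.secT f σ hσ T) c = PicF.pullCl (PicF.secT f σ hσ T) c')
    (hloc : ∀ ⦃U : Scheme.{u}⦄ (u : U ⟶ T.left), R u →
      PicF.pullCl (PicF.XTmap f (AbDual.ovrHom T u)) c = PicF.pullCl (PicF.XTmap f (AbDual.ovrHom T u)) c') :
    c = c' := by
  obtain ⟨L, rfl, hL⟩ := hc
  obtain ⟨L', rfl, hL'⟩ := hc'
  exact (PicGrp.cl_eq_cl_iff L L').2 (nonempty_iso_of_cover f σ hσ hR hH hL hL'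
    ((PicGrp.cl_eq_cl_iff _ _).1 hs) fun U u hu => (PicGrp.cl_eq_cl_iff _ _).1 (hloc u hu))

/-- A rigidified class which agrees fppf-locally with another one differs from it by the restriction of the
latter along the section. -/
theorem mulCl_pullCl_proj_eq {T : Over S} {R : Presieve T.left} (hR : R ∈ Scheme.fppfPrecoverage T.left)
    (hH : ∀ (T' : Over S) (t : T' ⟶ T), LocallyOfFinitePresentation t.left →
      Function.Surjective (PicF.XTproj f T').appTop.hom)
    {c c' : PicF.Cl (PicF.XT f T)} (hc : PicF.IsInvertibleCl c) (hc' : PicF.IsInvertibleCl c')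
    (hs : PicF.pullCl (PicF.secT f σ hσ T) c = oneCl T.left)
    (hloc : ∀ ⦃U : Scheme.{u}⦄ (u : U ⟶ T.left), R u →
      PicF.pullCl (PicF.XTmap f (AbDual.ovrHom T u)) c = PicF.pullCl (PicF.XTmap f (AbDual.ovrHom T u)) c') :
    PicGrp.mulCl c (PicF.pullCl (PicF.XTproj f T) (PicF.pullCl (PicF.secT f σ hσ T) c')) = c' := by
  refine cl_eq_of_cover f σ hσ hR hH
    (isInvertibleCl_mulCl hc (PicLoc.isInvertibleCl_pullCl _ (PicLoc.isInvertibleCl_pullCl _ hc'))) hc' ?_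
    fun U u hu => ?_
  · rw [pullCl_mulCl, hs, oneCl_mul, ← PicLoc.pullCl_comp, show PicF.secT f σ hσ T ≫ PicF.XTproj f T = 𝟙 _ from
      secT_snd f σ hσ T, PicLoc.pullCl_id]
  · rw [pullCl_mulCl, hloc u hu, ← PicLoc.pullCl_comp, show PicF.XTmap f (AbDual.ovrHom T u) ≫ PicF.XTproj f T =
        pullback.snd f _ ≫ u from XTmap_snd f _, PicLoc.pullCl_comp, ← PicLoc.pullCl_comp u,
      show u ≫ PicF.secT f σ hσ T = PicF.secT f σ hσ (AbDual.ovr T u) ≫ PicF.XTmap f (AbDual.ovrHom T u) from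
        (secT_XTmap f σ hσ (AbDual.ovrHom T u)).symm, PicLoc.pullCl_comp, ← hloc u hu, ← PicLoc.pullCl_comp _ _ c,
      secT_XTmap f σ hσ (AbDual.ovrHom T u), PicLoc.pullCl_comp, hs, pullCl_oneCl, pullCl_oneCl, mul_oneCl]

/-- Algebraic equivalence to zero is stable under pullback along morphisms over the field. -/
theorem isAlgEquivZero_pullback (k : Type u) [Field k] (X X' : Scheme.{u}) [X.Over (Spec (CommRingCat.of k))]
    [X'.Over (Spec (CommRingCat.of k))] (e : X' ⟶ X)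
    (he : e ≫ (X ↘ Spec (CommRingCat.of k)) = X' ↘ Spec (CommRingCat.of k)) {L : X.Modules}
    (h : Pic13.IsAlgEquivZero k X L) :
    Pic13.IsAlgEquivZero k X' ((Scheme.Modules.pullback e).obj L) := by
  obtain ⟨T, q, hT, hq, hqc, M, hM, t, t₀, ht, ht₀, ⟨φ⟩, ⟨φ₀⟩⟩ := h
  let e' : Pic13.prodK k X' q ⟶ Pic13.prodK k X q :=
    pullback.map _ _ _ _ e (𝟙 T) (𝟙 _) (by rw [Category.comp_id, he]) (by simp)
  have hsl : ∀ (t : Spec (CommRingCat.of k) ⟶ T) (ht : t ≫ q = 𝟙 _),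
      Pic13.sliceAt k X' q t ht ≫ e' = e ≫ Pic13.sliceAt k X q t ht := fun t ht => by
    apply pullback.hom_ext
    · rw [Category.assoc, pullback.lift_fst, Pic13.sliceAt, pullback.lift_fst_assoc, Category.assoc,
        Pic13.sliceAt, pullback.lift_fst, Category.id_comp, Category.comp_id]
    · rw [Category.assoc, pullback.lift_snd, Pic13.sliceAt, pullback.lift_snd_assoc, Category.assoc,
        Pic13.sliceAt, Category.comp_id, Category.assoc, pullback.lift_snd, ← Category.assoc e, he]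
  refine ⟨T, q, hT, hq, hqc, (Scheme.Modules.pullback e').obj M, PicLoc.isInvertible_pullback e' hM,
    t, t₀, ht, ht₀, ⟨?_⟩, ⟨?_⟩⟩
  · exact ((Scheme.Modules.pullbackComp _ _).app M) ≪≫ (Scheme.Modules.pullbackCongr (hsl t ht)).app M ≪≫
      ((Scheme.Modules.pullbackComp _ _).app M).symm ≪≫ (Scheme.Modules.pullback e).mapIso φ
  · exact ((Scheme.Modules.pullbackComp _ _).app M) ≪≫ (Scheme.Modules.pullbackCongr (hsl t₀ ht₀)).app M ≪≫
      ((Scheme.Modules.pullbackComp _ _).app M).symm ≪≫ (Scheme.Modules.pullback e).mapIso φ₀ ≪≫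
      Groth.L29.LocFree.pullbackUnitIso e

/-- Pullback of Pic⁰ classes. -/
theorem isPicZeroCl_pullCl {X' : Scheme.{u}} (f' : X' ⟶ S) {T T' : Over S} (q : T'.left ⟶ T.left)
    (h : PicF.XT f' T' ⟶ PicF.XT f T) (hh : h ≫ PicF.XTproj f T = PicF.XTproj f' T' ≫ q)
    {c : PicF.Cl (PicF.XT f T)} (hc : AbDual.IsPicZeroCl f T c) :
    AbDual.IsPicZeroCl f' T' (PicF.pullCl h c) := by
  obtain ⟨L, rfl, hL, hfib⟩ := hc
  refine ⟨_, rfl, PicLoc.isInvertible_pullback h hL, fun t Ω _ _ τ hτ => ?_⟩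
  have hr : Set.range (τ ≫ q).base = {q t} := by
    rw [Scheme.Hom.comp_base, TopCat.coe_comp, Set.range_comp, hτ, Set.image_singleton]
  let e : pullback (PicF.XTproj f' T') τ ⟶ pullback (PicF.XTproj f T) (τ ≫ q) :=
    pullback.lift (pullback.fst _ τ ≫ h) (pullback.snd _ τ)
      (by rw [Category.assoc, hh, pullback.condition_assoc])
  have key := @isAlgEquivZero_pullback Ω _ _ _ ⟨pullback.snd _ _⟩ ⟨pullback.snd _ _⟩ e
    (pullback.lift_snd _ _ _) _ (hfib (q t) Ω (τ ≫ q) hr)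
  let iso : (Scheme.Modules.pullback e).obj ((Scheme.Modules.pullback (pullback.fst (PicF.XTproj f T) (τ ≫ q))).obj L) ≅
      (Scheme.Modules.pullback (pullback.fst (PicF.XTproj f' T') τ)).obj ((Scheme.Modules.pullback h).obj L) :=
    (Scheme.Modules.pullbackComp _ _).app L ≪≫
      (Scheme.Modules.pullbackCongr (pullback.lift_fst _ _ _)).app L ≪≫
      ((Scheme.Modules.pullbackComp _ _).app L).symm
  obtain ⟨P, p, h1, h2, h3, M, hM, a, a₀, ha, ha₀, ⟨φ⟩, h4⟩ := key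
  exact ⟨P, p, h1, h2, h3, M, hM, a, a₀, ha, ha₀, ⟨φ ≪≫ iso⟩, h4⟩

theorem isPicZeroCl_XTmap {T T' : Over S} (g : T' ⟶ T) {c : PicF.Cl (PicF.XT f T)}
    (hc : AbDual.IsPicZeroCl f T c) : AbDual.IsPicZeroCl f T' (PicF.pullCl (PicF.XTmap f g) c) :=
  isPicZeroCl_pullCl f f g.left _ (XTmap_snd f g) hc

theorem isPicZeroCl_bcMap {A B : Over S} (a : A ⟶ B) (T : Over S) {c : PicF.Cl (PicF.XT B.hom T)}
    (hc : AbDual.IsPicZeroCl B.hom T c) : AbDual.IsPicZeroCl A.hom T (PicF.pullCl (AbDual.bcMap a T) c) :=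
  isPicZeroCl_pullCl B.hom A.hom (𝟙 _) _
    ((pullback.lift_snd _ _ _).trans (by rfl)) hc

end Groth.Agent.AbDualLib
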