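/-
Constant functions for abelian schemes, and the standard maps between products.
-/
import Groth.Agent.L26.AbDual.Classes
import Groth.Agent.L26.AV.SmoothField
import Mathlib.AlgebraicGeometry.Geometrically.Integral
import Mathlib.CategoryTheory.Monoidal.Cartesian.Over
import Mathlib.CategoryTheory.Monoidal.Cartesian.Grp

open CategoryTheory CategoryTheory.Limits AlgebraicGeometry
open MonoidalCategory CartesianMonoidalCategory MonObj

universe u

noncomputable section

namespace Groth.Agent.AbDualLib

/-- Functions on products with abelian schemes come from the base. -/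
theorem surjective_XTproj_of_smooth {S : Scheme.{u}} [IsLocallyNoetherian S] (A T : Over S)
    [IsProper A.hom] [Smooth A.hom] [GeometricallyConnected A.hom] [LocallyOfFiniteType T.hom]
    (T' : Over S) (t : T' ⟶ T) (ht : LocallyOfFinitePresentation t.left) :
    Function.Surjective (PicF.XTproj A.hom T').appTop.hom := by
  have : LocallyOfFiniteType T'.hom := by rw [← Over.w t]; infer_instance
  have : IsLocallyNoetherian T'.left := LocallyOfFiniteType.isLocallyNoetherian T'.hom
  have := AV.geometricallyReduced_of_smooth A.hom
  exact surjective_appTop_XTproj A.hom (fun s => AV.fibConst_of_geometrically A.hom s) T'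

/-- Functions on products with proper geometrically integral varieties come from the other factor. -/
theorem surjective_XTproj_of_field {K : Type u} [Field K] (A T : Over (Spec (CommRingCat.of K)))
    [IsProper A.hom] [GeometricallyIntegral A.hom] [LocallyOfFiniteType T.hom]
    (T' : Over (Spec (CommRingCat.of K))) (t : T' ⟶ T) (ht : LocallyOfFinitePresentation t.left) :
    Function.Surjective (PicF.XTproj A.hom T').appTop.hom := by
  have : LocallyOfFiniteType T'.hom := by rw [← Over.w t]; infer_instance
  have : IsLocallyNoetherian T'.left := LocallyOfFiniteType.isLocallyNoetherian T'.hom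
  exact surjective_appTop_XTproj A.hom (fun s => AV.fibConst_of_geometrically A.hom s) T'

variable {S : Scheme.{u}}

/-- The section of a product along the unit. -/
theorem secT_eq_lift (A T : Over S) [GrpObj A] :
    PicF.secT A.hom η[A].left (Over.w η[A]) T = (lift (toUnit T ≫ η[A]) (𝟙 T)).left := by
  apply pullback.hom_ext
  · refine (pullback.lift_fst _ _ _).trans ?_
    show _ = (lift (toUnit T ≫ η[A]) (𝟙 T) ≫ fst A T).left
    rw [lift_fst, Over.comp_left, Over.toUnit_left]
  · refine (pullback.lift_snd _ _ _).trans ?_
    show _ = (lift (toUnit T ≫ η[A]) (𝟙 T) ≫ snd A T).left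
    rw [lift_snd, Over.id_left]

theorem symmetry_eq_lift (A B : Over S) :
    (pullbackSymmetry A.hom B.hom).hom = (lift (snd A B) (fst A B)).left := by
  apply pullback.hom_ext
  · refine (pullbackSymmetry_hom_comp_fst _ _).trans ?_
    show _ = (lift (snd A B) (fst A B) ≫ fst B A).left
    rw [lift_fst]; rfl
  · refine (pullbackSymmetry_hom_comp_snd _ _).trans ?_
    show _ = (lift (snd A B) (fst A B) ≫ snd B A).left
    rw [lift_snd]; rfl

theorem bcMap_symmetry {A B : Over S} (a : A ⟶ B) (T : Over S) :
    AbDual.bcMap a T ≫ (pullbackSymmetry B.hom T.hom).hom =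
      (pullbackSymmetry A.hom T.hom).hom ≫ PicF.XTmap T.hom a := by
  apply pullback.hom_ext
  · rw [Category.assoc, pullbackSymmetry_hom_comp_fst, Category.assoc, XTmap_fst,
      pullbackSymmetry_hom_comp_fst]
    exact (pullback.lift_snd _ _ _).trans (Category.comp_id _)
  · rw [Category.assoc, pullbackSymmetry_hom_comp_snd, Category.assoc, XTmap_snd,
      pullbackSymmetry_hom_comp_snd_assoc]
    exact pullback.lift_fst _ _ _

theorem pullCl_left_comp {P Q R : Over S} (a : P ⟶ Q) (b : Q ⟶ R) (c : PicF.Cl R.left) :
    PicF.pullCl a.left (PicF.pullCl b.left c) = PicF.pullCl (a ≫ b).left c :=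
  (PicLoc.pullCl_comp _ _ c).symm

theorem XTmap_symmetry {A A' B : Over S} (f : A' ⟶ A) :
    PicF.XTmap B.hom f ≫ (pullbackSymmetry B.hom A.hom).hom =
      (pullbackSymmetry B.hom A'.hom).hom ≫ AbDual.bcMap f B := by
  apply pullback.hom_ext
  · rw [Category.assoc, pullbackSymmetry_hom_comp_fst, XTmap_snd, Category.assoc]
    refine Eq.trans ?_ (congrArg (_ ≫ ·) (pullback.lift_fst _ _ _)).symm
    exact (pullbackSymmetry_hom_comp_fst_assoc _ _ _).symm
  · rw [Category.assoc, pullbackSymmetry_hom_comp_snd, XTmap_fst, Category.assoc]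
    refine Eq.trans ?_ (congrArg (_ ≫ ·) (pullback.lift_snd _ _ _)).symm
    rw [Category.comp_id, pullbackSymmetry_hom_comp_snd]

theorem bcMap_snd {A B : Over S} (a : A ⟶ B) (T : Over S) :
    AbDual.bcMap a T ≫ PicF.XTproj B.hom T = PicF.XTproj A.hom T :=
  (pullback.lift_snd _ _ _).trans (Category.comp_id _)

end Groth.Agent.AbDualLib
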