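/-
`O = f_* O` over an arbitrary base, for proper flat morphisms with a section over a noetherian base.
-/
import Groth.Agent.L26.AbDual.Rigid
import Groth.Agent.L19.Limit.BaseChange
import Mathlib.RingTheory.Adjoin.Basic
import Mathlib.RingTheory.FiniteType
import Mathlib.Algebra.Category.Ring.FilteredColimits

open CategoryTheory CategoryTheory.Limits AlgebraicGeometry TopologicalSpace Opposite

universe u

noncomputable section

namespace Groth.Agent.AbDualLib

section Affine

variable (A : CommRingCat.{u}) {R : CommRingCat.{u}} (φ : A ⟶ R)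

/-- The subrings of `R` generated by finitely many elements over `A`. -/
def stage (s : Finset ↥R) : Subring R :=
  Subring.closure (Set.range φ.hom ∪ ↑s)

theorem stage_mono {s t : Finset ↥R} (h : s ≤ t) : stage A φ s ≤ stage A φ t :=
  Subring.closure_mono (Set.union_subset_union_right _ (Finset.coe_subset.2 h))

theorem mem_stage (x : R) : x ∈ stage A φ {x} :=
  Subring.subset_closure (Or.inr (by simp))

/-- The map from `A` to a stage. -/
def stageHom (s : Finset ↥R) : A ⟶ CommRingCat.of (stage A φ s) :=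
  CommRingCat.ofHom (φ.hom.codRestrict _ fun a => Subring.subset_closure (Or.inl ⟨a, rfl⟩))

theorem stageHom_comp (s : Finset ↥R) :
    stageHom A φ s ≫ CommRingCat.ofHom (stage A φ s).subtype = φ := rfl

/-- The inclusion of subrings, as a morphism. -/
def subIncl {R : CommRingCat.{u}} {S T : Subring R} (h : S ≤ T) : CommRingCat.of S ⟶ CommRingCat.of T :=
  CommRingCat.ofHom (Subring.inclusion h)

theorem subIncl_id {R : CommRingCat.{u}} (S : Subring R) : subIncl (le_refl S) = 𝟙 _ :=
  CommRingCat.hom_ext (RingHom.ext fun _ => Subtype.ext rfl)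

theorem subIncl_comp {R : CommRingCat.{u}} {S T V : Subring R} (h : S ≤ T) (h' : T ≤ V) :
    subIncl (h.trans h') = subIncl h ≫ subIncl h' :=
  CommRingCat.hom_ext (RingHom.ext fun _ => Subtype.ext rfl)

theorem subIncl_subtype {R : CommRingCat.{u}} {S T : Subring R} (h : S ≤ T) :
    subIncl h ≫ CommRingCat.ofHom T.subtype = CommRingCat.ofHom S.subtype :=
  CommRingCat.hom_ext (RingHom.ext fun _ => rfl)

theorem isNoetherianRing_stage [IsNoetherianRing A] (s : Finset ↥R) : IsNoetherianRing (stage A φ s) := by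
  letI := φ.hom.toAlgebra
  have e : (Algebra.adjoin A (↑s : Set R)).toSubring = stage A φ s := by
    rw [stage, Algebra.adjoin_eq_ring_closure]
    rfl
  have hft : Algebra.FiniteType A (Algebra.adjoin A (↑s : Set R)) :=
    (Subalgebra.fg_iff_finiteType _).1 ⟨s, rfl⟩
  have := Algebra.FiniteType.isNoetherianRing A (Algebra.adjoin A (↑s : Set R))
  exact isNoetherianRing_of_ringEquiv (Algebra.adjoin A (↑s : Set R)) (RingEquiv.subringCongr e)

/-- The system of the stages. -/
def stages : Finset ↥R ⥤ CommRingCat.{u} where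
  obj s := CommRingCat.of (stage A φ s)
  map h := subIncl (stage_mono A φ h.le)
  map_id s := subIncl_id (stage A φ s)
  map_comp h h' := subIncl_comp (stage_mono A φ h.le) (stage_mono A φ h'.le)

/-- The cocone of the stages. -/
def stagesCocone : Cocone (stages A φ) where
  pt := R
  ι := { app := fun s => CommRingCat.ofHom (stage A φ s).subtype, naturality := fun _ _ h => (subIncl_subtype (stage_mono A φ h.le)).trans (Category.comp_id _).symm }

/-- `R` is the colimit of its stages. -/
def isColimitStages : IsColimit (stagesCocone A φ) := by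
  classical
  haveI : ReflectsFilteredColimits (forget CommRingCat) :=
    ⟨fun _ => reflectsColimitsOfShape_of_reflectsIsomorphisms⟩
  refine ReflectsColimit.reflects (F := forget CommRingCat) (Nonempty.some ⟨?_⟩) |>.some
  refine Types.FilteredColimit.isColimitOf' _ _ (fun x => ⟨{x}, ⟨x, mem_stage A φ x⟩, rfl⟩) ?_
  intro i x y e
  exact ⟨i, 𝟙 i, congrArg _ (Subtype.ext e)⟩

/-- The system of spectra of the stages. -/
abbrev specStages : (Finset ↥R)ᵒᵖ ⥤ Scheme.{u} := (stages A φ).op ⋙ Scheme.Spec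

/-- `Spec R` is the limit of the spectra of its stages. -/
def isLimitSpecStages : IsLimit (Scheme.Spec.mapCone (stagesCocone A φ).op) :=
  isLimitOfPreserves Scheme.Spec (isColimitStages A φ).op

/-- Functions on a base change to an affine scheme come from the base. -/
theorem surjective_appTop_of_isPullback [IsNoetherianRing A] {X : Scheme.{u}} (f : X ⟶ Spec A)
    [IsProper f] [Flat f] [Surjective f] (h : ∀ s, AV.FibConst f s)
    {P : Scheme.{u}} {p : P ⟶ Spec R} {q : P ⟶ X} (H : IsPullback q p f (Spec.map φ)) :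
    Function.Surjective p.appTop.hom := by
  classical
  let i : (Finset ↥R)ᵒᵖ := op ∅
  let D := specStages A φ
  let c := Scheme.Spec.mapCone (stagesCocone A φ).op
  haveI : ∀ s, IsAffine (D.obj s) := fun s => inferInstanceAs (IsAffine (Spec _))
  haveI : ∀ {s t} (m : s ⟶ t), IsAffineHom (D.map m) := fun m => inferInstance
  let a := Spec.map (stageHom A φ ∅)
  let g : pullback f a ⟶ D.obj i := pullback.snd f a
  let π₀ : Spec R ⟶ D.obj i := c.π.app i
  have hca : π₀ ≫ a = Spec.map φ := by
    show Spec.map _ ≫ Spec.map _ = _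
    rw [← Spec.map_comp]
    rfl
  have H' : IsPullback (pullback.snd π₀ g ≫ pullback.fst f a) (pullback.fst π₀ g) f (Spec.map φ) := by
    have h1 := (IsPullback.of_hasPullback π₀ g).flip.paste_horiz (IsPullback.of_hasPullback f a)
    exact hca ▸ h1
  have hsurj : Function.Surjective (pullback.fst π₀ g).appTop.hom := by
    haveI hqc : QuasiCompact g := inferInstanceAs (QuasiCompact (pullback.snd f a))
    haveI hqs : QuasiSeparated g := inferInstanceAs (QuasiSeparated (pullback.snd f a))
    haveI : ∀ j, CompactSpace ((Groth.L19.Limit.bcDiagram D g).obj j) := fun j =>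
      @QuasiCompact.compactSpace_of_compactSpace _ _ (pullback.fst (D.map j.hom) g)
        (MorphismProperty.pullback_fst (P := @QuasiCompact) _ _ hqc) inferInstance
    haveI : ∀ j, QuasiSeparatedSpace ((Groth.L19.Limit.bcDiagram D g).obj j) := fun j =>
      @quasiSeparatedSpace_of_quasiSeparated _ _ (pullback.fst (D.map j.hom) g) inferInstance
        (MorphismProperty.pullback_fst (P := @QuasiSeparated) _ _ hqs)
    intro w
    obtain ⟨j, wj, hwj⟩ := exists_appTop_π_eq_of_isLimit _ _
      (Groth.L19.Limit.isLimitBcCone g (isLimitSpecStages A φ)) w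
    haveI : IsNoetherianRing (stage A φ j.left.unop) := isNoetherianRing_stage A φ _
    let T' : Over (Spec A) := Over.mk (Spec.map (stageHom A φ j.left.unop))
    haveI : IsLocallyNoetherian T'.left :=
      inferInstanceAs (IsLocallyNoetherian (Spec (CommRingCat.of (stage A φ j.left.unop))))
    let d : T'.left ⟶ D.obj i := D.map j.hom
    have hd : d ≫ a = T'.hom := by
      show Spec.map _ ≫ Spec.map _ = Spec.map _
      rw [← Spec.map_comp]
      rfl
    have He : IsPullback (pullback.snd d g ≫ pullback.fst f a) (pullback.fst d g) f T'.hom := by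
      have h1 := (IsPullback.of_hasPullback d g).flip.paste_horiz (IsPullback.of_hasPullback f a)
      exact hd ▸ h1
    let e : pullback d g ⟶ PicF.XT f T' := He.isoPullback.hom
    haveI : IsIso e := inferInstanceAs (IsIso He.isoPullback.hom)
    haveI : IsIso e.appTop := inferInstanceAs (IsIso (e.app ⊤))
    obtain ⟨w', hw'⟩ := (ConcreteCategory.bijective_of_isIso e.appTop).2 wj
    obtain ⟨r, hr⟩ := surjective_appTop_XTproj f h T' w'
    let πj : Spec R ⟶ T'.left := c.π.app j.left
    refine ⟨πj.appTop r, ?_⟩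
    rw [hwj, ← hw', ← hr]
    let lj : pullback π₀ g ⟶ pullback d g := (Groth.L19.Limit.bcCone D c g).π.app j
    show (πj.appTop ≫ (pullback.fst π₀ g).appTop) r =
      ((PicF.XTproj f T').appTop ≫ e.appTop ≫ lj.appTop) r
    refine ConcreteCategory.congr_hom ?_ r
    rw [← Scheme.Hom.comp_appTop, ← Scheme.Hom.comp_appTop, ← Scheme.Hom.comp_appTop, Category.assoc]
    have he : e ≫ PicF.XTproj f T' = pullback.fst d g := He.isoPullback_hom_snd
    rw [he]
    exact congrArg (fun m => Scheme.Hom.appTop m) (Groth.L19.Limit.isPullback_bcCone D c g j).w.symm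
  have hiso : (H.isoIsPullback _ _ H').hom ≫ pullback.fst π₀ g = p :=
    IsPullback.isoIsPullback_hom_snd _ _ _ _
  haveI : IsIso ((H.isoIsPullback _ _ H').hom.appTop) :=
    inferInstanceAs (IsIso ((H.isoIsPullback _ _ H').hom.app ⊤))
  rw [← hiso, Scheme.Hom.comp_appTop, CommRingCat.hom_comp]
  exact (ConcreteCategory.bijective_of_isIso (H.isoIsPullback _ _ H').hom.appTop).2.comp hsurj

end Affine

variable {X S : Scheme.{u}} (f : X ⟶ S)

/-- Functions on `X_T` come from `T`, for any base scheme `T`. -/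
theorem surjective_appTop_XTproj' [IsLocallyNoetherian S] [IsProper f] [Flat f] [Surjective f]
    (h : ∀ s, AV.FibConst f s) (σ : S ⟶ X) (hσ : σ ≫ f = 𝟙 S) (T : Over S) :
    Function.Surjective (PicF.XTproj f T).appTop.hom := by
  intro w
  refine ⟨(PicF.secT f σ hσ T).appTop w, ?_⟩
  have hnb : ∀ t : T.left, ∃ (V : S.Opens) (hV : IsAffineOpen V) (U : T.left.Opens) (hU : IsAffineOpen U),
      t ∈ U ∧ U ≤ T.hom ⁻¹ᵁ V := by
    intro t
    obtain ⟨_, ⟨V, hV, rfl⟩, htV, -⟩ := S.isBasis_affineOpens.exists_subset_of_mem_open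
      (Set.mem_univ (T.hom t)) isOpen_univ
    obtain ⟨_, ⟨U, hU, rfl⟩, htU, hUV⟩ := T.left.isBasis_affineOpens.exists_subset_of_mem_open
      (show t ∈ T.hom ⁻¹ᵁ V from htV) (T.hom ⁻¹ᵁ V).2
    exact ⟨V, hV, U, hU, htU, hUV⟩
  choose V hV U hU htU hUV using hnb
  let R : Presieve T.left := Presieve.ofArrows _ fun t => (hU t).fromSpec
  have hR : R ∈ Scheme.fppfPrecoverage T.left := by
    refine Scheme.zariskiPrecoverage_le_fppfPrecoverage _ ((Scheme.ofArrows_mem_precoverage_iff _).2 ⟨fun t => ?_, fun t => inferInstance⟩)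
    refine ⟨t, ?_⟩
    obtain ⟨z, hz⟩ : t ∈ Set.range (hU t).fromSpec := by rw [(hU t).range_fromSpec]; exact htU t
    exact ⟨z, hz⟩
  refine fun_ext ⊤ _ _ (ofArrows_XTmap_mem f hR) _ _ ?_
  rintro ⟨U', u, ⟨t⟩⟩
  let T₁ : Over S := AbDual.ovr T (hU t).fromSpec
  let j : T₁ ⟶ T := AbDual.ovrHom T (hU t).fromSpec
  let g := pullback.snd f (hV t).fromSpec
  haveI : IsNoetherianRing Γ(S, V t) := IsLocallyNoetherian.component_noetherian ⟨V t, hV t⟩
  have hg : ∀ s, AV.FibConst g s := fun s => AV.fibConst_snd f _ s (h _)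
  have hfac : Spec.map (T.hom.appLE (V t) (U t) (hUV t)) ≫ (hV t).fromSpec = (hU t).fromSpec ≫ T.hom :=
    IsAffineOpen.SpecMap_appLE_fromSpec _ _ _ _
  let q : PicF.XT f T₁ ⟶ pullback f (hV t).fromSpec :=
    pullback.lift (pullback.fst f T₁.hom) (pullback.snd f T₁.hom ≫ Spec.map (T.hom.appLE (V t) (U t) (hUV t)))
      (by rw [Category.assoc, hfac]; exact pullback.condition)
  have H : IsPullback q (PicF.XTproj f T₁) g (Spec.map (T.hom.appLE (V t) (U t) (hUV t))) := by
    refine IsPullback.of_right ?_ (pullback.lift_snd _ _ _) (IsPullback.of_hasPullback f (hV t).fromSpec)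
    rw [pullback.lift_fst, hfac]
    exact IsPullback.of_hasPullback _ _
  obtain ⟨r, hr⟩ := surjective_appTop_of_isPullback _ _ g hg H ((PicF.XTmap f j).appTop w)
  show (PicF.XTmap f j).appTop ((PicF.XTproj f T).appTop ((PicF.secT f σ hσ T).appTop w)) =
    (PicF.XTmap f j).appTop w
  have e1 : (PicF.secT f σ hσ T₁).appTop ((PicF.XTmap f j).appTop w) = r := by
    rw [← hr]
    show ((PicF.XTproj f T₁).appTop ≫ (PicF.secT f σ hσ T₁).appTop) r = r
    rw [← Scheme.Hom.comp_appTop, show PicF.secT f σ hσ T₁ ≫ PicF.XTproj f T₁ = 𝟙 _ from secT_snd f σ hσ T₁,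
      Scheme.Hom.id_appTop]
    rfl
  have e2 : ∀ x, (PicF.XTmap f j).appTop ((PicF.XTproj f T).appTop x) =
      (PicF.XTproj f T₁).appTop (j.left.appTop x) := fun x => by
    show ((PicF.XTproj f T).appTop ≫ (PicF.XTmap f j).appTop) x = (j.left.appTop ≫ (PicF.XTproj f T₁).appTop) x
    rw [← Scheme.Hom.comp_appTop, ← Scheme.Hom.comp_appTop, XTmap_snd]
  have e3 : j.left.appTop ((PicF.secT f σ hσ T).appTop w) =
      (PicF.secT f σ hσ T₁).appTop ((PicF.XTmap f j).appTop w) := by
    show ((PicF.secT f σ hσ T).appTop ≫ j.left.appTop) w =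
      ((PicF.XTmap f j).appTop ≫ (PicF.secT f σ hσ T₁).appTop) w
    rw [← Scheme.Hom.comp_appTop, ← Scheme.Hom.comp_appTop, secT_XTmap]
  rw [e2, e3, e1, hr]

/-- `O_T = (f_T)_* O` on every open, for any base scheme `T`. -/
theorem isIso_app_XTproj [IsLocallyNoetherian S] [IsProper f] [Flat f] [Surjective f]
    (h : ∀ s, AV.FibConst f s) (σ : S ⟶ X) (hσ : σ ≫ f = 𝟙 S) (T : Over S) (W : T.left.Opens) :
    IsIso ((PicF.XTproj f T).app W) := by
  let p := PicF.XTproj f T
  rw [ConcreteCategory.isIso_iff_bijective]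
  have hs : PicF.secT f σ hσ T ≫ p = 𝟙 _ := secT_snd f σ hσ T
  refine ⟨Function.LeftInverse.injective (g := (PicF.secT f σ hσ T).appLE (p ⁻¹ᵁ W) W
    (le_of_eq (by rw [← Scheme.Hom.comp_preimage, hs]; rfl))) fun x => ?_, fun w => ?_⟩
  · show (PicF.secT f σ hσ T).appLE (p ⁻¹ᵁ W) W _ (p.app W x) = x
    rw [appLE_app, appLE_hom_congr hs]
    show (𝟙 T.left : T.left ⟶ T.left).appLE W W le_rfl x = x
    simp only [Scheme.Hom.appLE, Scheme.Hom.id_app, CategoryTheory.comp_apply]
    erw [T.left.presheaf.map_id]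
    rfl
  · let T₁ : Over S := AbDual.ovr T W.ι
    let j : T₁ ⟶ T := AbDual.ovrHom T W.ι
    have hpre : (⊤ : (PicF.XT f T₁).Opens) ≤ PicF.XTmap f j ⁻¹ᵁ (p ⁻¹ᵁ W) := fun z _ => by
      show (PicF.XTmap f j ≫ p) z ∈ W
      rw [show PicF.XTmap f j ≫ p = PicF.XTproj f T₁ ≫ W.ι from XTmap_snd f j]
      exact ((PicF.XTproj f T₁) z).2
    obtain ⟨r, hr⟩ := surjective_appTop_XTproj' f h σ hσ T₁ ((PicF.XTmap f j).appLE (p ⁻¹ᵁ W) ⊤ hpre w)
    obtain ⟨x, hx⟩ := (ι_appLE_bijective W).2 r
    refine ⟨x, ?_⟩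
    have hopen : IsOpenImmersion (PicF.XTmap f j) :=
      MorphismProperty.of_isPullback (P := @IsOpenImmersion)
        (IsPullback.of_right (h₁₂ := pullback.fst f T.hom) (by
          rw [XTmap_fst]; exact IsPullback.of_hasPullback f T₁.hom)
          (XTmap_snd f j) (IsPullback.of_hasPullback f T.hom)).flip
        (show IsOpenImmersion j.left from inferInstanceAs (IsOpenImmersion W.ι))
    have hrange : p ⁻¹ᵁ W ≤ (PicF.XTmap f j).opensRange := by
      intro z hz
      obtain ⟨y, hy, -⟩ := Scheme.Pullback.exists_preimage_pullback (f := pullback.snd f T.hom) (g := W.ι) z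
        ⟨p z, hz⟩ rfl
      let H := IsPullback.of_hasPullback (pullback.snd f T.hom) W.ι
      let l : pullback (pullback.snd f T.hom) W.ι ⟶ PicF.XT f T₁ :=
        pullback.lift (pullback.fst _ _ ≫ pullback.fst f T.hom) (pullback.snd _ _) (by
          show (_ ≫ pullback.fst f T.hom) ≫ f = _ ≫ W.ι ≫ T.hom
          rw [Category.assoc, pullback.condition, pullback.condition_assoc])
      refine ⟨l y, ?_⟩
      show (l ≫ PicF.XTmap f j) y = z
      rw [show l ≫ PicF.XTmap f j = pullback.fst _ _ from ?_, hy]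
      apply pullback.hom_ext
      · rw [Category.assoc, XTmap_fst, pullback.lift_fst]
      · rw [Category.assoc, XTmap_snd, pullback.lift_snd_assoc, pullback.condition]
        rfl
    have hbij : Function.Injective ((PicF.XTmap f j).appLE (p ⁻¹ᵁ W) ⊤ hpre).hom := by
      intro a b hab
      have heq : (⊤ : (PicF.XT f T₁).Opens) = PicF.XTmap f j ⁻¹ᵁ (p ⁻¹ᵁ W) := le_antisymm hpre le_top
      rw [Scheme.Hom.appLE] at hab
      haveI := (PicF.XTmap f j).isIso_app (p ⁻¹ᵁ W) hrange
      have := ConcreteCategory.bijective_of_isIso ((PicF.XTmap f j).app (p ⁻¹ᵁ W))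
      refine this.1 ((ConcreteCategory.bijective_of_isIso
        ((PicF.XT f T₁).presheaf.map (eqToHom heq).op)).1 ?_)
      exact hab
    refine hbij ?_
    show (PicF.XTmap f j).appLE _ ⊤ hpre (p.app W x) = _
    rw [appLE_app, ← hr, ← hx]
    show _ = (PicF.XTproj f T₁).appTop (W.ι.appLE W ⊤ _ x)
    rw [appTop_appLE]
    exact ConcreteCategory.congr_hom (appLE_hom_congr (XTmap_snd f j) _) x

end Groth.Agent.AbDualLib
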