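/-
Rigidified Pic⁰ classes on abelian schemes are primitive.
-/
import Groth.Agent.L26.AbDual.Setting
import Groth.Agent.L26.AbDual.Universal
import Groth.Agent.L26.AV.Collapse
import Groth.Agent.L26.AV.GroupSep
import Groth.Agent.L22.GeomConn.Irred

open CategoryTheory CategoryTheory.Limits AlgebraicGeometry TopologicalSpace Opposite
open MonoidalCategory CartesianMonoidalCategory MonObj

universe u

noncomputable section

namespace Groth.Agent.AbDualLib

variable {S : Scheme.{u}}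

theorem XTmap_eq_whiskerLeft (A : Over S) {T T' : Over S} (g : T' ⟶ T) :
    PicF.XTmap A.hom g = (A ◁ g).left := by
  apply pullback.hom_ext
  · rw [XTmap_fst]
    show _ = (A ◁ g ≫ fst A T).left
    rw [whiskerLeft_fst]
    rfl
  · rw [XTmap_snd]
    show _ = (A ◁ g ≫ snd A T).left
    rw [whiskerLeft_snd]
    rfl

theorem bcMap_eq_whiskerRight {A B : Over S} (a : A ⟶ B) (T : Over S) :
    AbDual.bcMap a T = (a ▷ T).left := by
  apply pullback.hom_ext
  · refine (pullback.lift_fst _ _ _).trans ?_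
    show _ = (a ▷ T ≫ fst B T).left
    rw [whiskerRight_fst]
    rfl
  · refine (pullback.lift_snd _ _ _).trans ?_
    show _ = (a ▷ T ≫ snd B T).left
    rw [whiskerRight_snd, Category.comp_id]
    rfl

/-- A connected scheme over an algebraically closed field stays connected after field extension. -/
theorem geometricallyConnected_of_algClosed {Ω : Type u} [Field Ω] [IsAlgClosed Ω] {P : Scheme.{u}}
    (q : P ⟶ Spec (CommRingCat.of Ω)) [ConnectedSpace P] : GeometricallyConnected q := by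
  haveI : ConnectedSpace ↥(FBase.bc q Ω) := by
    have hi : IsIso (Spec.map (CommRingCat.ofHom (algebraMap Ω Ω))) := by
      rw [show CommRingCat.ofHom (algebraMap Ω Ω) = 𝟙 _ from rfl, Spec.map_id]
      infer_instance
    haveI : IsIso (pullback.fst q (Spec.map (CommRingCat.ofHom (algebraMap Ω Ω)))) := inferInstance
    exact (asIso (pullback.fst q (Spec.map (CommRingCat.ofHom (algebraMap Ω Ω))))).inv.homeomorph.surjective.connectedSpace
      (Scheme.Hom.continuous _)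
  exact Groth.L22.GeomConn.geometricallyConnected_of_sepClosed q Ω

/-- The trivial class is a Pic⁰ class. -/
theorem isPicZeroCl_oneCl {X : Scheme.{u}} (f : X ⟶ S) (T : Over S) :
    AbDual.IsPicZeroCl f T (oneCl (PicF.XT f T)) := by
  refine ⟨Coh.structureModule _, rfl, Groth.L18.Ample.isInvertible_structureModule _, fun t Ω _ _ τ hτ => ?_⟩
  let F := pullback (PicF.XTproj f T) τ
  refine ⟨Spec (CommRingCat.of Ω), 𝟙 _, (inferInstanceAs (ConnectedSpace (PrimeSpectrum Ω))), inferInstance,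
    inferInstance, Coh.structureModule _, Groth.L18.Ample.isInvertible_structureModule _, 𝟙 _, 𝟙 _,
    Category.id_comp _, Category.id_comp _, ⟨?_⟩, ⟨?_⟩⟩
  · exact Groth.L29.LocFree.pullbackUnitIso _ ≪≫ (Groth.L29.LocFree.pullbackUnitIso _).symm
  · exact Groth.L29.LocFree.pullbackUnitIso _

/-- The `S`-scheme of a variety over a field, with the field over `S` by `τ₀`. -/
abbrev overPt {Ω : Type u} [Field Ω] (τ₀ : Spec (CommRingCat.of Ω) ⟶ S) {P : Scheme.{u}}
    (q : P ⟶ Spec (CommRingCat.of Ω)) : Over S := Over.mk (q ≫ τ₀)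

/-- A rational point of a variety over a field, over `S`. -/
abbrev ptHom {Ω : Type u} [Field Ω] (τ₀ : Spec (CommRingCat.of Ω) ⟶ S) {P : Scheme.{u}}
    (q : P ⟶ Spec (CommRingCat.of Ω)) (b : Spec (CommRingCat.of Ω) ⟶ P) (hb : b ≫ q = 𝟙 _) :
    Over.mk τ₀ ⟶ overPt τ₀ q :=
  Over.homMk b (by
    show b ≫ q ≫ τ₀ = τ₀
    rw [reassoc_of% hb])

/-- A connected family of classes containing the trivial one consists of classes algebraically equivalent to
zero. -/
theorem isPicZeroCl_of_family {X : Scheme.{u}} (f : X ⟶ S) {Ω : Type u} [Field Ω] [IsAlgClosed Ω]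
    (τ₀ : Spec (CommRingCat.of Ω) ⟶ S) {P : Scheme.{u}} (q : P ⟶ Spec (CommRingCat.of Ω))
    [ConnectedSpace P] [LocallyOfFiniteType q] [QuasiCompact q] (c : PicF.Cl (PicF.XT f (overPt τ₀ q)))
    (hc : PicF.IsInvertibleCl c) (t₀ : Spec (CommRingCat.of Ω) ⟶ P) (ht₀ : t₀ ≫ q = 𝟙 _)
    (h0 : PicF.pullCl (PicF.XTmap f (ptHom τ₀ q t₀ ht₀)) c = oneCl _) :
    AbDual.IsPicZeroCl f (overPt τ₀ q) c := by
  obtain ⟨M, rfl, hM⟩ := hc
  refine ⟨M, rfl, hM, fun p Ω' _ _ τ' hτ' => ?_⟩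
  let ξ : PicF.XT f (overPt τ₀ q) ⟶ P := pullback.snd f (q ≫ τ₀)
  let F' := pullback ξ τ'
  haveI := geometricallyConnected_of_algClosed q
  let q' : pullback q (τ' ≫ q) ⟶ Spec (CommRingCat.of Ω') := pullback.snd q (τ' ≫ q)
  haveI : GeometricallyConnected q' := inferInstanceAs (GeometricallyConnected (pullback.snd q (τ' ≫ q)))
  haveI : ConnectedSpace ↥(pullback q (τ' ≫ q)) := by
    haveI : Subsingleton ↥(Spec (CommRingCat.of Ω')) := inferInstanceAs (Subsingleton (PrimeSpectrum Ω'))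
    exact GeometricallyConnected.connectedSpace_of_subsingleton q'
  let oF : F'.Over (Spec (CommRingCat.of Ω')) := ⟨pullback.snd ξ τ'⟩
  letI := oF
  let m : pullback (pullback.snd ξ τ') q' ⟶ PicF.XT f (overPt τ₀ q) :=
    pullback.lift (pullback.fst (pullback.snd ξ τ') q' ≫ pullback.fst ξ τ' ≫ pullback.fst f (q ≫ τ₀))
      (pullback.snd (pullback.snd ξ τ') q' ≫ pullback.fst q (τ' ≫ q)) (by
        simp only [Category.assoc, Over.mk_hom]
        rw [show pullback.fst ξ τ' ≫ pullback.fst f (q ≫ τ₀) ≫ f = pullback.snd ξ τ' ≫ τ' ≫ q ≫ τ₀ by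
          rw [pullback.condition, ← pullback.condition_assoc (f := ξ) (g := τ')],
          pullback.condition_assoc (f := pullback.snd ξ τ') (g := q')]
        show pullback.snd _ q' ≫ pullback.snd q (τ' ≫ q) ≫ _ = _
        rw [pullback.condition_assoc (f := q) (g := τ' ≫ q)]
        simp only [Category.assoc])
  let tt : Spec (CommRingCat.of Ω') ⟶ pullback q (τ' ≫ q) := pullback.lift τ' (𝟙 _) (Category.id_comp _).symm
  let tt₀ : Spec (CommRingCat.of Ω') ⟶ pullback q (τ' ≫ q) :=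
    pullback.lift ((τ' ≫ q) ≫ t₀) (𝟙 _) (by rw [Category.assoc, ht₀, Category.comp_id, Category.id_comp])
  have hs : ∀ (b : Spec (CommRingCat.of Ω') ⟶ pullback q (τ' ≫ q)) (hb : b ≫ q' = 𝟙 _),
      (Pic13.sliceAt Ω' F' q' b hb ≫ m) ≫ pullback.fst f (q ≫ τ₀) =
          pullback.fst ξ τ' ≫ pullback.fst f (q ≫ τ₀) ∧
        (Pic13.sliceAt Ω' F' q' b hb ≫ m) ≫ pullback.snd f (q ≫ τ₀) =
          pullback.snd ξ τ' ≫ b ≫ pullback.fst q (τ' ≫ q) := fun b hb => by
    have hw : 𝟙 F' ≫ pullback.snd ξ τ' = (pullback.snd ξ τ' ≫ b) ≫ q' := by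
      rw [Category.id_comp, Category.assoc, hb, Category.comp_id]
    constructor
    · show (pullback.lift (𝟙 F') (pullback.snd ξ τ' ≫ b) hw ≫ m) ≫ _ = _
      rw [Category.assoc]
      erw [pullback.lift_fst, pullback.lift_fst_assoc]
      exact Category.id_comp _
    · show (pullback.lift (𝟙 F') (pullback.snd ξ τ' ≫ b) hw ≫ m) ≫ _ = _
      rw [Category.assoc]
      erw [pullback.lift_snd, pullback.lift_snd_assoc]
      exact Category.assoc _ _ _
  refine ⟨_, q', inferInstance, inferInstance, inferInstance, (Scheme.Modules.pullback m).obj M,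
    PicLoc.isInvertible_pullback m hM, tt, tt₀, pullback.lift_snd _ _ _, pullback.lift_snd _ _ _,
    (PicGrp.cl_eq_cl_iff _ _).1 ?_, (PicGrp.cl_eq_cl_iff _ _).1 ?_⟩
  · show PicF.pullCl (Pic13.sliceAt Ω' F' q' tt _) (PicF.pullCl m (PicF.cl M)) =
      PicF.pullCl (pullback.fst ξ τ') (PicF.cl M)
    rw [← PicLoc.pullCl_comp]
    refine congrArg (fun g => PicF.pullCl g (PicF.cl M)) ?_
    apply pullback.hom_ext
    · exact (hs tt _).1
    · refine (hs tt _).2.trans ?_
      rw [pullback.lift_fst]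
      exact (pullback.condition (f := ξ) (g := τ')).symm
  · show PicF.pullCl (Pic13.sliceAt Ω' F' q' tt₀ _) (PicF.pullCl m (PicF.cl M)) = oneCl F'
    rw [← PicLoc.pullCl_comp]
    let w : F' ⟶ PicF.XT f (Over.mk τ₀) :=
      pullback.lift (pullback.fst ξ τ' ≫ pullback.fst f (q ≫ τ₀)) (pullback.snd ξ τ' ≫ τ' ≫ q) (by
        rw [Category.assoc, pullback.condition]
        simp only [Category.assoc, Over.mk_hom]
        exact pullback.condition_assoc (f := ξ) (g := τ') _)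
    rw [show Pic13.sliceAt Ω' F' q' tt₀ _ ≫ m = w ≫ PicF.XTmap f (ptHom τ₀ q t₀ ht₀) from ?_,
      PicLoc.pullCl_comp, h0, pullCl_oneCl]
    apply pullback.hom_ext
    · refine (hs tt₀ _).1.trans ?_
      rw [Category.assoc, XTmap_fst, pullback.lift_fst]
    · refine (hs tt₀ _).2.trans ?_
      refine Eq.trans ?_ ((congrArg (w ≫ ·) (XTmap_snd f (ptHom τ₀ q t₀ ht₀))).symm.trans
        (Category.assoc _ _ _).symm)
      erw [pullback.lift_fst, pullback.lift_snd_assoc]
      simp only [Category.assoc]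
      rfl

/-- The normalized family through the restriction of a Pic⁰ class to a geometric point. -/
theorem exists_family {X : Scheme.{u}} (f : X ⟶ S) {T : Over S} {c : PicF.Cl (PicF.XT f T)}
    (hc : AbDual.IsPicZeroCl f T c) {Ω : Type u} [Field Ω] [IsAlgClosed Ω]
    (τ : Spec (CommRingCat.of Ω) ⟶ T.left) (t : T.left) (hτ : Set.range τ.base = {t}) :
    ∃ (P : Scheme.{u}) (q : P ⟶ Spec (CommRingCat.of Ω)), ConnectedSpace P ∧ LocallyOfFiniteType q ∧
      QuasiCompact q ∧ ∃ cP : PicF.Cl (PicF.XT f (overPt (τ ≫ T.hom) q)),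
        AbDual.IsPicZeroCl f (overPt (τ ≫ T.hom) q) cP ∧
        ∃ (t₁ t₀ : Spec (CommRingCat.of Ω) ⟶ P) (h₁ : t₁ ≫ q = 𝟙 _) (h₀ : t₀ ≫ q = 𝟙 _),
          PicF.pullCl (PicF.XTmap f (ptHom (τ ≫ T.hom) q t₁ h₁)) cP =
              PicF.pullCl (PicF.XTmap f (AbDual.ovrHom T τ)) c ∧
            PicF.pullCl (PicF.XTmap f (ptHom (τ ≫ T.hom) q t₀ h₀)) cP = oneCl _ := by
  obtain ⟨L, rfl, hL, hfib⟩ := hc
  obtain ⟨P, q, hP, hq, hqc, M, hM, t₁, t₀, ht₁, ht₀, ⟨φ₁⟩, ⟨φ₀⟩⟩ := hfib t Ω τ hτ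
  let ξ : PicF.XT f T ⟶ T.left := pullback.snd f T.hom
  let F := pullback ξ τ
  let oF : F.Over (Spec (CommRingCat.of Ω)) := ⟨pullback.snd ξ τ⟩
  letI := oF
  let eF : PicF.XT f (AbDual.ovr T τ) ⟶ F :=
    pullback.lift (PicF.XTmap f (AbDual.ovrHom T τ)) (pullback.snd f (τ ≫ T.hom))
      (XTmap_snd f (AbDual.ovrHom T τ))
  let l₁ : PicF.XT f (overPt (τ ≫ T.hom) q) ⟶ PicF.XT f T :=
    pullback.lift (pullback.fst f (q ≫ τ ≫ T.hom)) (pullback.snd f (q ≫ τ ≫ T.hom) ≫ q ≫ τ)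
      (by rw [pullback.condition]; simp only [Category.assoc])
  let l₂ : PicF.XT f (overPt (τ ≫ T.hom) q) ⟶ F :=
    pullback.lift l₁ (pullback.snd f (q ≫ τ ≫ T.hom) ≫ q)
      (by rw [show l₁ ≫ ξ = _ from pullback.lift_snd _ _ _, Category.assoc])
  let h : PicF.XT f (overPt (τ ≫ T.hom) q) ⟶ Pic13.prodK Ω F q :=
    pullback.lift l₂ (pullback.snd f (q ≫ τ ≫ T.hom)) (pullback.lift_snd _ _ _)
  have hslice : ∀ b hb, PicF.XTmap f (ptHom (τ ≫ T.hom) q b hb) ≫ h = eF ≫ Pic13.sliceAt Ω F q b hb := by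
    intro b hb
    apply pullback.hom_ext
    · rw [Category.assoc, pullback.lift_fst, Category.assoc, Pic13.sliceAt, pullback.lift_fst,
        Category.comp_id]
      apply pullback.hom_ext
      · rw [Category.assoc, pullback.lift_fst, pullback.lift_fst]
        apply pullback.hom_ext
        · rw [Category.assoc, pullback.lift_fst]
          exact (XTmap_fst f _).trans (XTmap_fst f _).symm
        · rw [Category.assoc, pullback.lift_snd, XTmap_snd]
          refine (reassoc_of% (XTmap_snd f (ptHom (τ ≫ T.hom) q b hb))) (q ≫ τ) |>.trans ?_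
          show pullback.snd _ _ ≫ b ≫ q ≫ τ = pullback.snd _ _ ≫ τ
          rw [reassoc_of% hb]
      · rw [Category.assoc, pullback.lift_snd, pullback.lift_snd]
        refine (reassoc_of% (XTmap_snd f (ptHom (τ ≫ T.hom) q b hb))) q |>.trans ?_
        show pullback.snd _ _ ≫ b ≫ q = _
        rw [hb, Category.comp_id]
        rfl
    · rw [Category.assoc, pullback.lift_snd, Category.assoc, Pic13.sliceAt, pullback.lift_snd]
      refine (XTmap_snd f (ptHom (τ ≫ T.hom) q b hb)).trans ?_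
      show pullback.snd _ _ ≫ b = eF ≫ pullback.snd ξ τ ≫ b
      rw [pullback.lift_snd_assoc]
      rfl
  have e0 : PicF.pullCl (PicF.XTmap f (ptHom (τ ≫ T.hom) q t₀ ht₀)) (PicF.pullCl h (PicF.cl M)) = oneCl _ := by
    rw [← PicLoc.pullCl_comp, hslice, PicLoc.pullCl_comp]
    exact (congrArg (PicF.pullCl eF) ((PicGrp.cl_eq_cl_iff _ _).2 ⟨φ₀⟩)).trans (pullCl_oneCl _)
  refine ⟨P, q, hP, hq, hqc, PicF.pullCl h (PicF.cl M),
    isPicZeroCl_of_family f (τ ≫ T.hom) q _ ⟨_, rfl, PicLoc.isInvertible_pullback h hM⟩ t₀ ht₀ e0,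
    t₁, t₀, ht₁, ht₀, ?_, e0⟩
  rw [← PicLoc.pullCl_comp, hslice, PicLoc.pullCl_comp]
  refine Eq.trans (congrArg (PicF.pullCl eF) ((PicGrp.cl_eq_cl_iff _ _).2 ⟨φ₁⟩)) ?_
  show PicF.pullCl eF (PicF.pullCl (pullback.fst ξ τ) (PicF.cl L)) = _
  rw [← PicLoc.pullCl_comp, pullback.lift_fst]

/-- A geometric point at any point. -/
theorem exists_geomPoint {Y : Scheme.{u}} (y : Y) :
    ∃ (K : Type u) (_ : Field K) (_ : IsAlgClosed K) (p : Spec (CommRingCat.of K) ⟶ Y), ∀ z, p z = y :=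
  ⟨AlgebraicClosure (Y.residueField y), inferInstance, inferInstance,
    Spec.map (CommRingCat.ofHom (algebraMap (Y.residueField y) (AlgebraicClosure (Y.residueField y)))) ≫
      Y.fromSpecResidueField y, fun z => by
    rw [Scheme.Hom.comp_apply]
    exact Scheme.fromSpecResidueField_apply _ _⟩

section Main

variable (X Xt : Over S) [GrpObj X]

/-- The morphism `(x, (y, t)) ↦ (x y, t)`. -/
abbrev shift (T : Over S) : X ⊗ (X ⊗ T) ⟶ X ⊗ T :=
  lift (fst X (X ⊗ T) * (snd X (X ⊗ T) ≫ fst X T)) (snd X (X ⊗ T) ≫ snd X T)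

variable {X Xt}

theorem shift_natural {T T' : Over S} (j : T' ⟶ T) :
    X ◁ (X ◁ j) ≫ shift X T = shift X T' ≫ X ◁ j := by
  apply CartesianMonoidalCategory.hom_ext
  · simp [MonObj.comp_mul]
  · simp

theorem slice_shift (T : Over S) :
    X ◁ lift (toUnit T ≫ η[X]) (𝟙 T) ≫ shift X T = 𝟙 (X ⊗ T) := by
  apply CartesianMonoidalCategory.hom_ext
  · simp [MonObj.comp_mul, ← Hom.one_def, MonObj.one_comp, MonObj.comp_one]
  · simp

theorem isPicZeroCl_shift (T : Over S) {c : PicF.Cl (PicF.XT X.hom T)} (hc : AbDual.IsPicZeroCl X.hom T c) :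
    AbDual.IsPicZeroCl X.hom (X ⊗ T) (PicF.pullCl (shift X T).left c) :=
  isPicZeroCl_pullCl X.hom X.hom (snd X T).left _ (by
    show (shift X T ≫ snd X T).left = (snd X (X ⊗ T) ≫ snd X T).left
    rw [lift_snd]) hc

variable [GrpObj Xt] (φ : ∀ T : Over S, PicF.Cl (PicF.XT X.hom T) → (T ⟶ Xt))

/-- `(y, t) ↦` the class of the translate of `c_t` by `y`. -/
abbrev transl (T : Over S) (c : PicF.Cl (PicF.XT X.hom T)) : X ⊗ T ⟶ Xt :=
  φ (X ⊗ T) (PicF.pullCl (shift X T).left c)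

theorem transl_natural (hX : AbDual.IsDualAV Scheme.fppfPrecoverage X Xt φ) {T T' : Over S} (j : T' ⟶ T)
    {c : PicF.Cl (PicF.XT X.hom T)} (hc : AbDual.IsPicZeroCl X.hom T c) :
    transl φ T' (PicF.pullCl (PicF.XTmap X.hom j) c) = X ◁ j ≫ transl φ T c := by
  rw [transl, transl, ← hX.relPic.natural _ _ (X ◁ j) _ (isPicZeroCl_shift T hc)]
  refine congrArg (φ (X ⊗ T')) ?_
  rw [XTmap_eq_whiskerLeft, XTmap_eq_whiskerLeft]
  erw [pullCl_left_comp (shift X T') (X ◁ j), pullCl_left_comp (X ◁ (X ◁ j)) (shift X T)]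
  rw [shift_natural]

variable [IsLocallyNoetherian S] [IsProper X.hom] [Smooth X.hom] [GeometricallyConnected X.hom]


theorem fibConst_abelian (s : S) : AV.FibConst X.hom s :=
  haveI := AV.geometricallyReduced_of_smooth X.hom
  AV.fibConst_of_geometrically X.hom s

/-- Translation does not move a class lying in a connected family with the trivial one. -/
theorem transl_const_of_family (hX : AbDual.IsDualAV Scheme.fppfPrecoverage X Xt φ) {Ω : Type u} [Field Ω]
    [IsAlgClosed Ω] (τ₀ : Spec (CommRingCat.of Ω) ⟶ S) {P : Scheme.{u}} (q : P ⟶ Spec (CommRingCat.of Ω))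
    [ConnectedSpace P] [LocallyOfFiniteType q] {cP : PicF.Cl (PicF.XT X.hom (overPt τ₀ q))}
    (hcP : AbDual.IsPicZeroCl X.hom (overPt τ₀ q) cP) (t₁ t₀ : Spec (CommRingCat.of Ω) ⟶ P)
    (h₁ : t₁ ≫ q = 𝟙 _) (h₀ : t₀ ≫ q = 𝟙 _)
    (e0 : PicF.pullCl (PicF.XTmap X.hom (ptHom τ₀ q t₀ h₀)) cP = oneCl _) (x x' : ↥(X ⊗ Over.mk τ₀).left) :
    (transl φ _ (PicF.pullCl (PicF.XTmap X.hom (ptHom τ₀ q t₁ h₁)) cP)).left x =
      (transl φ _ (PicF.pullCl (PicF.XTmap X.hom (ptHom τ₀ q t₁ h₁)) cP)).left x' := by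
  let TP := overPt τ₀ q
  let ξ := (snd X TP).left
  let v := (snd Xt TP).left
  let D := lift (transl φ TP cP) (snd X TP)
  haveI : IsLocallyNoetherian TP.left := LocallyOfFiniteType.isLocallyNoetherian q
  haveI : IsProper ξ := inferInstanceAs (IsProper (pullback.snd X.hom TP.hom))
  haveI : Flat ξ := inferInstanceAs (Flat (pullback.snd X.hom TP.hom))
  haveI : IsSeparated v := by
    haveI h0 : IsSeparated (pullback.snd Xt.hom τ₀) :=
      haveI : GrpObj ((Over.pullback τ₀).obj Xt) := Functor.grpObjObj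
      AV.isSeparated_of_grpObj ((Over.pullback τ₀).obj Xt)
    let l : pullback Xt.hom (q ≫ τ₀) ⟶ pullback Xt.hom τ₀ :=
      pullback.lift (pullback.fst _ _) (pullback.snd _ _ ≫ q) (by rw [pullback.condition, Category.assoc])
    exact MorphismProperty.of_isPullback (P := @IsSeparated) (IsPullback.of_right (h₁₂ := pullback.fst Xt.hom τ₀)
      (by rw [pullback.lift_fst]; exact IsPullback.of_hasPullback Xt.hom (q ≫ τ₀))
      (pullback.lift_snd _ _ _ : l ≫ pullback.snd Xt.hom τ₀ = _) (IsPullback.of_hasPullback Xt.hom τ₀)) h0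
  haveI : ConnectedSpace ↥TP.left := ‹ConnectedSpace P›
  haveI : Subsingleton ↥(Spec (CommRingCat.of Ω)) := inferInstanceAs (Subsingleton (PrimeSpectrum Ω))
  obtain ⟨pt⟩ : Nonempty ↥(Spec (CommRingCat.of Ω)) := inferInstance
  let i := fun b hb => X ◁ ptHom τ₀ q b hb
  have hsnd : ∀ b hb, (i b hb).left ≫ ξ = (snd X (Over.mk τ₀)).left ≫ b := fun b hb => by
    show (X ◁ ptHom τ₀ q b hb ≫ snd X TP).left = _
    rw [whiskerLeft_snd]
    rfl
  have hfibre : ∀ (z : ↥(X ⊗ TP).left) b hb, ξ z = b pt → ∃ y, (i b hb).left y = z := by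
    intro z b hb hz
    have H : IsPullback (PicF.XTmap X.hom (ptHom τ₀ q b hb)) (pullback.snd X.hom τ₀)
        (pullback.snd X.hom TP.hom) b := by
      refine IsPullback.of_right (h₁₂ := pullback.fst X.hom TP.hom) ?_
        (XTmap_snd X.hom (ptHom τ₀ q b hb)) (IsPullback.of_hasPullback X.hom TP.hom)
      rw [XTmap_fst]
      show IsPullback _ _ X.hom (b ≫ q ≫ τ₀)
      rw [reassoc_of% hb]
      exact IsPullback.of_hasPullback X.hom τ₀
    obtain ⟨w, hw, -⟩ := Scheme.Pullback.exists_preimage_pullback (f := pullback.snd X.hom TP.hom) (g := b) z pt hz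
    refine ⟨H.isoPullback.inv w, ?_⟩
    show (X ◁ ptHom τ₀ q b hb).left _ = _
    rw [← XTmap_eq_whiskerLeft, ← hw]
    exact congrArg (fun m => m w) H.isoPullback_inv_fst
  let η₁ := φ (𝟙_ (Over S)) (oneCl (PicF.XT X.hom (𝟙_ (Over S))))
  have hone : transl φ (Over.mk τ₀) (oneCl _) = toUnit _ ≫ η₁ := by
    rw [transl, ← hX.relPic.natural _ _ (toUnit (X ⊗ Over.mk τ₀)) _ (isPicZeroCl_oneCl X.hom _), pullCl_oneCl]
    exact congrArg _ (pullCl_oneCl _)
  have hD0 : i t₀ h₀ ≫ D = snd X (Over.mk τ₀) ≫ lift (toUnit _ ≫ η₁) (ptHom τ₀ q t₀ h₀) := by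
    rw [comp_lift, comp_lift, ← transl_natural φ hX _ hcP, e0, hone, whiskerLeft_snd, ← Category.assoc,
      comp_toUnit]
  have hmem : t₀ pt ∈ AV.collapsed ξ D.left := by
    intro z z' hz hz'
    obtain ⟨y, rfl⟩ := hfibre z t₀ h₀ hz
    obtain ⟨y', rfl⟩ := hfibre z' t₀ h₀ hz'
    show ((i t₀ h₀).left ≫ D.left) y = ((i t₀ h₀).left ≫ D.left) y'
    rw [← Over.comp_left, hD0, Over.comp_left, Scheme.Hom.comp_apply, Scheme.Hom.comp_apply]
    exact congrArg _ (Subsingleton.elim (α := ↥(Spec (CommRingCat.of Ω))) _ _)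
  have huniv := IsClopen.eq_univ (AV.isClopen_collapsed ξ (fun p => AV.fibConst_snd X.hom TP.hom p (fibConst_abelian _))
    v D.left (by rw [← Over.comp_left, lift_snd])) ⟨_, hmem⟩
  have hξ : ∀ y, ξ ((i t₁ h₁).left y) = t₁ pt := fun y => by
    rw [← Scheme.Hom.comp_apply, hsnd, Scheme.Hom.comp_apply]
    exact congrArg _ (Subsingleton.elim (α := ↥(Spec (CommRingCat.of Ω))) _ _)
  have key : D.left ((i t₁ h₁).left x) = D.left ((i t₁ h₁).left x') :=
    (Set.eq_univ_iff_forall.1 huniv (t₁ pt)) _ _ (hξ x) (hξ x')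
  have e : transl φ _ (PicF.pullCl (PicF.XTmap X.hom (ptHom τ₀ q t₁ h₁)) cP) = i t₁ h₁ ≫ D ≫ fst Xt TP := by
    rw [transl_natural φ hX _ hcP, lift_fst]
  rw [e]
  exact congrArg (fst Xt TP).left key

/-- Translates of a Pic⁰ class are constant on the fibre over a geometric point. -/
theorem transl_collapsed_at (hX : AbDual.IsDualAV Scheme.fppfPrecoverage X Xt φ) (T : Over S)
    {c : PicF.Cl (PicF.XT X.hom T)} (hc : AbDual.IsPicZeroCl X.hom T c) {Ω : Type u} [Field Ω] [IsAlgClosed Ω]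
    (τ : Spec (CommRingCat.of Ω) ⟶ T.left) (t : T.left) (hτ : ∀ z, τ z = t) :
    t ∈ AV.collapsed (snd X T).left (transl φ T c).left := by
  obtain ⟨pt⟩ : Nonempty ↥(Spec (CommRingCat.of Ω)) := inferInstance
  have hpt : τ pt = t := hτ pt
  have hr : Set.range τ.base = {t} :=
    Set.ext fun y => ⟨fun ⟨z, hz⟩ => hz ▸ hτ z, fun hy => ⟨pt, hpt.trans hy.symm⟩⟩
  obtain ⟨P, q, hP, hq, hqc, cP, hcP, t₁, t₀, h₁, h₀, e1, e0⟩ := exists_family X.hom hc τ t hr
  haveI := hP
  haveI := hq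
  intro x x' hx hx'
  have key := transl_const_of_family φ hX (τ ≫ T.hom) q hcP t₁ t₀ h₁ h₀ e0
  have hlift : ∀ z : ↥(X ⊗ T).left, (snd X T).left z = t → ∃ y, (X ◁ AbDual.ovrHom T τ).left y = z := by
    intro z hz
    obtain ⟨w, hw, -⟩ := Scheme.Pullback.exists_preimage_pullback (f := pullback.snd X.hom T.hom) (g := τ) z pt
      (hz.trans hpt.symm)
    let e : pullback (pullback.snd X.hom T.hom) τ ⟶ PicF.XT X.hom (AbDual.ovr T τ) :=
      pullback.lift (pullback.fst _ τ ≫ pullback.fst X.hom T.hom) (pullback.snd _ τ) (by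
        rw [Category.assoc, pullback.condition, pullback.condition_assoc]
        rfl)
    refine ⟨e w, ?_⟩
    rw [← XTmap_eq_whiskerLeft, ← hw, ← Scheme.Hom.comp_apply]
    refine congrArg (fun (m : pullback (pullback.snd X.hom T.hom) τ ⟶ PicF.XT X.hom T) => m w) ?_
    apply pullback.hom_ext
    · rw [Category.assoc, XTmap_fst, pullback.lift_fst]
    · rw [Category.assoc, XTmap_snd, pullback.lift_snd_assoc]
      exact (pullback.condition (f := pullback.snd X.hom T.hom) (g := τ)).symm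
  obtain ⟨y, rfl⟩ := hlift x hx
  obtain ⟨y', rfl⟩ := hlift x' hx'
  have hn : transl φ _ (PicF.pullCl (PicF.XTmap X.hom (AbDual.ovrHom T τ)) c) =
      X ◁ AbDual.ovrHom T τ ≫ transl φ T c := transl_natural φ hX _ hc
  show (X ◁ AbDual.ovrHom T τ ≫ transl φ T c).left y = (X ◁ AbDual.ovrHom T τ ≫ transl φ T c).left y'
  rw [← hn, ← e1]
  exact key y y'

/-- Translates of a Pic⁰ class are constant on the fibres over the parameters. -/
theorem transl_collapsed (hX : AbDual.IsDualAV Scheme.fppfPrecoverage X Xt φ) (T : Over S)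
    {c : PicF.Cl (PicF.XT X.hom T)} (hc : AbDual.IsPicZeroCl X.hom T c) :
    AV.collapsed (snd X T).left (transl φ T c).left = Set.univ :=
  Set.eq_univ_of_forall fun t => by
    obtain ⟨Ω, _, _, τ, hτ⟩ := exists_geomPoint t
    exact transl_collapsed_at φ hX T hc τ t hτ

/-- The translates of a Pic⁰ class are all equal. -/
theorem transl_eq (hX : AbDual.IsDualAV Scheme.fppfPrecoverage X Xt φ) (T : Over S)
    {c : PicF.Cl (PicF.XT X.hom T)} (hc : AbDual.IsPicZeroCl X.hom T c) :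
    transl φ T c = snd X T ≫ φ T c := by
  let ξ := (snd X T).left
  haveI : UniversallyClosed ξ := inferInstanceAs (UniversallyClosed (pullback.snd X.hom T.hom))
  haveI : Surjective ξ := inferInstanceAs (Surjective (pullback.snd X.hom T.hom))
  obtain ⟨U, k, hU, hk⟩ := AV.exists_isOpen_collapsed_desc ξ
    (fun W => isIso_app_XTproj X.hom fibConst_abelian η[X].left (Over.w η[X]) T W) (transl φ T c).left
  have : U = ⊤ := Opens.ext (hU.trans (transl_collapsed φ hX T hc))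
  subst this
  haveI : IsIso (ξ ⁻¹ᵁ ⊤).ι := inferInstanceAs (IsIso (X ⊗ T).left.topIso.hom)
  have e1 : (transl φ T c).left = ξ ≫ T.left.topIso.inv ≫ k := by
    rw [← cancel_epi (ξ ⁻¹ᵁ ⊤).ι, hk, ← morphismRestrict_ι_assoc]
    exact congrArg _ (T.left.topIso.hom_inv_id_assoc k).symm
  let s : T ⟶ X ⊗ T := lift (toUnit T ≫ η[X]) (𝟙 T)
  have hs : s ≫ transl φ T c = φ T c := by
    rw [transl, ← hX.relPic.natural _ _ s _ (isPicZeroCl_shift T hc), XTmap_eq_whiskerLeft]
    erw [pullCl_left_comp (X ◁ s) (shift X T), slice_shift, Over.id_left, PicLoc.pullCl_id]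
  have hsξ : s.left ≫ ξ = 𝟙 T.left := by
    rw [← Over.comp_left, lift_snd, Over.id_left]
  ext1
  show _ = ξ ≫ (φ T c).left
  rw [← hs, Over.comp_left, e1, ← Category.assoc s.left, hsξ, Category.id_comp]

/-- Rigidified Pic⁰ classes are primitive. -/
theorem pullCl_mu_eq (hX : AbDual.IsDualAV Scheme.fppfPrecoverage X Xt φ) (T : Over S)
    {c : PicF.Cl (PicF.XT X.hom T)} (hc : AbDual.IsPicZeroCl X.hom T c)
    (hrig : PicF.pullCl (PicF.secT X.hom η[X].left (Over.w η[X]) T) c = oneCl _) :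
    PicF.pullCl (AbDual.bcMap μ[X] T) c =
      PicGrp.mulCl (PicF.pullCl (AbDual.bcMap (fst X X) T) c) (PicF.pullCl (AbDual.bcMap (snd X X) T) c) := by
  let b := PicF.pullCl (X ◁ snd X T).left c
  have hb : AbDual.IsPicZeroCl X.hom (X ⊗ T) b := by
    have := isPicZeroCl_XTmap X.hom (snd X T) hc
    rwa [XTmap_eq_whiskerLeft] at this
  have hφ : φ (X ⊗ T) b = φ (X ⊗ T) (PicF.pullCl (shift X T).left c) := by
    have := hX.relPic.natural T (X ⊗ T) (snd X T) c hc
    rw [XTmap_eq_whiskerLeft] at this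
    exact this.trans (transl_eq φ hX T hc).symm
  obtain ⟨R, hR, hloc⟩ := hX.relPic.locallyInjective (X ⊗ T) _ _ hb (isPicZeroCl_shift T hc) hφ
  have key := mulCl_pullCl_proj_eq X.hom η[X].left (Over.w η[X]) hR
    (fun T' _ _ => surjective_appTop_XTproj' X.hom fibConst_abelian η[X].left (Over.w η[X]) T')
    (isInvertibleCl_of_isPicZeroCl hb) (isInvertibleCl_of_isPicZeroCl (isPicZeroCl_shift T hc)) ?_ hloc
  swap
  · have : lift (toUnit (X ⊗ T) ≫ η[X]) (𝟙 (X ⊗ T)) ≫ X ◁ snd X T =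
        snd X T ≫ lift (toUnit T ≫ η[X]) (𝟙 T) := by
      apply CartesianMonoidalCategory.hom_ext <;> simp
    rw [secT_eq_lift]
    erw [pullCl_left_comp (lift (toUnit (X ⊗ T) ≫ η[X]) (𝟙 (X ⊗ T))) (X ◁ snd X T)]
    rw [this, Over.comp_left, PicLoc.pullCl_comp, ← secT_eq_lift, hrig]
    exact pullCl_oneCl _
  have hσ : PicF.pullCl (PicF.secT X.hom η[X].left (Over.w η[X]) (X ⊗ T)) (PicF.pullCl (shift X T).left c) = c := by
    rw [secT_eq_lift]
    erw [pullCl_left_comp (lift (toUnit (X ⊗ T) ≫ η[X]) (𝟙 (X ⊗ T))) (shift X T)]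
    have : lift (toUnit (X ⊗ T) ≫ η[X]) (𝟙 (X ⊗ T)) ≫ shift X T = 𝟙 (X ⊗ T) := by
      apply CartesianMonoidalCategory.hom_ext
      · simp [MonObj.comp_mul, ← Hom.one_def]
      · simp
    rw [this, Over.id_left, PicLoc.pullCl_id]
  rw [hσ] at key
  have e1 : μ[X] ▷ T = (α_ X X T).hom ≫ shift X T := by
    apply CartesianMonoidalCategory.hom_ext
    · rw [whiskerRight_fst, Category.assoc, lift_fst, MonObj.comp_mul, associator_hom_fst,
        associator_hom_snd_fst, ← MonObj.comp_mul, Hom.mul_def, lift_fst_snd, Category.id_comp]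
    · simp
  have e2 : fst X X ▷ T = (α_ X X T).hom ≫ X ◁ snd X T := by
    apply CartesianMonoidalCategory.hom_ext <;> simp
  have e3 : snd X X ▷ T = (α_ X X T).hom ≫ snd X (X ⊗ T) := by
    apply CartesianMonoidalCategory.hom_ext <;> simp
  rw [bcMap_eq_whiskerRight, bcMap_eq_whiskerRight, bcMap_eq_whiskerRight, e1, e2, e3, Over.comp_left,
    Over.comp_left, Over.comp_left, PicLoc.pullCl_comp, PicLoc.pullCl_comp, PicLoc.pullCl_comp, ← key,
    pullCl_mulCl]
  rfl

end Main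

end Groth.Agent.AbDualLib
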