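/-
Pullback of rigidified Pic⁰ classes is additive; consequences for points and transposes.
-/
import Groth.Agent.L26.AbDual.Primitive

open CategoryTheory CategoryTheory.Limits AlgebraicGeometry TopologicalSpace Opposite
open MonoidalCategory CartesianMonoidalCategory MonObj GrpObj

universe u

noncomputable section

namespace Groth.Agent.AbDualLib

variable {S : Scheme.{u}}

/-- Morphisms are determined on an fppf covering. -/
theorem hom_ext_of_mem {Y Z : Scheme.{u}} {R : Presieve Y} (hR : R ∈ Scheme.fppfPrecoverage Y) {a b : Y ⟶ Z}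
    (h : ∀ ⦃U : Scheme.{u}⦄ (u : U ⟶ Y), R u → u ≫ a = u ≫ b) : a = b := by
  have hs : Presieve.IsSheafFor (CategoryTheory.yoneda.obj Z) (Sieve.generate R : Presieve Y) :=
    GrothendieckTopology.Subcanonical.isSheaf_of_isRepresentable (J := Scheme.fppfTopology)
      (CategoryTheory.yoneda.obj Z) _ (Scheme.fppfPrecoverage.generate_mem_toGrothendieck hR)
  refine hs.isSeparatedFor.ext fun U k hk => ?_
  obtain ⟨W, l, u, hu, rfl⟩ := hk
  show (l ≫ u) ≫ a = (l ≫ u) ≫ b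
  rw [Category.assoc, Category.assoc, h u hu]

section Rel

variable (X Xt : Over S) [GrpObj Xt] (φ : ∀ T : Over S, PicF.Cl (PicF.XT X.hom T) → (T ⟶ Xt))

variable {X Xt φ}

/-- Morphisms out of a representing object are determined on the classes. -/
theorem dual_hom_ext (hX : AbDual.IsDualAV Scheme.fppfPrecoverage X Xt φ) {Z : Over S} {a b : Xt ⟶ Z}
    (h : ∀ (T : Over S) (c : PicF.Cl (PicF.XT X.hom T)), AbDual.IsPicZeroCl X.hom T c → φ T c ≫ a = φ T c ≫ b) :
    a = b := by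
  obtain ⟨R, hR, hs⟩ := hX.relPic.locallySurjective Xt (𝟙 Xt)
  ext1
  refine hom_ext_of_mem hR fun U u hu => ?_
  obtain ⟨c, hc, e⟩ := hs u hu
  have := h _ c hc
  rw [e, Category.comp_id] at this
  exact congrArg CommaMorphism.left this

theorem map_mulCl (hX : AbDual.IsDualAV Scheme.fppfPrecoverage X Xt φ) {T : Over S}
    {c c' : PicF.Cl (PicF.XT X.hom T)} (hc : AbDual.IsPicZeroCl X.hom T c) (hc' : AbDual.IsPicZeroCl X.hom T c') :
    φ T (PicGrp.mulCl c c') = φ T c * φ T c' := by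
  obtain ⟨L, rfl⟩ := cl_surjective c
  obtain ⟨M, rfl⟩ := cl_surjective c'
  exact hX.mul T L M hc hc'

theorem map_oneCl (hX : AbDual.IsDualAV Scheme.fppfPrecoverage X Xt φ) (T : Over S) :
    φ T (oneCl _) = 1 := by
  have h := map_mulCl hX (isPicZeroCl_oneCl X.hom T) (isPicZeroCl_oneCl X.hom T)
  rw [oneCl_mul] at h
  exact left_eq_mul.1 h

/-- Rigidified classes with the same point are equal. -/
theorem eq_of_map_eq [GrpObj X] [IsLocallyNoetherian S] [IsProper X.hom] [Smooth X.hom] [GeometricallyConnected X.hom]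
    (hX : AbDual.IsDualAV Scheme.fppfPrecoverage X Xt φ) {T : Over S} {c c' : PicF.Cl (PicF.XT X.hom T)}
    (hc : AbDual.IsPicZeroCl X.hom T c) (hc' : AbDual.IsPicZeroCl X.hom T c')
    (h : PicF.pullCl (PicF.secT X.hom η[X].left (Over.w η[X]) T) c = oneCl _)
    (h' : PicF.pullCl (PicF.secT X.hom η[X].left (Over.w η[X]) T) c' = oneCl _)
    (e : φ T c = φ T c') : c = c' := by
  obtain ⟨R, hR, hloc⟩ := hX.relPic.locallyInjective T c c' hc hc' e
  exact cl_eq_of_cover X.hom η[X].left (Over.w η[X]) hR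
    (fun T' _ _ => surjective_appTop_XTproj' X.hom fibConst_abelian η[X].left (Over.w η[X]) T')
    (isInvertibleCl_of_isPicZeroCl hc) (isInvertibleCl_of_isPicZeroCl hc') (h.trans h'.symm) hloc

end Rel

/-- Points agreeing where a given invertible class on the base is trivial are equal. -/
theorem hom_ext_of_trivial {T Z : Over S} {d : PicF.Cl T.left} (hd : PicF.IsInvertibleCl d) {a b : T ⟶ Z}
    (h : ∀ (T' : Over S) (j : T' ⟶ T), PicF.pullCl j.left d = oneCl _ → j ≫ a = j ≫ b) : a = b := by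
  obtain ⟨M, rfl, hM⟩ := hd
  choose W hW φW using hM
  apply Over.OverMorphism.ext
  refine (T.left.openCoverOfIsOpenCover W (eq_top_iff.2 fun y _ =>
    TopologicalSpace.Opens.mem_iSup.2 ⟨y, hW y⟩)).hom_ext _ _ fun y => ?_
  exact congrArg CommaMorphism.left (h (AbDual.ovr T (W y).ι) (AbDual.ovrHom T (W y).ι)
    ((PicGrp.cl_eq_cl_iff _ _).2
      ⟨((Scheme.Modules.restrictFunctorIsoPullback (W y).ι).app M).symm ≪≫ (φW y).some⟩))

section Add

variable {X Xt : Over S} [GrpObj X] [GrpObj Xt] [IsLocallyNoetherian S] [IsProper X.hom] [Smooth X.hom]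
  [GeometricallyConnected X.hom]
  {φ : ∀ T : Over S, PicF.Cl (PicF.XT X.hom T) → (T ⟶ Xt)}

/-- The pullback of a rigidified Pic⁰ class along a product of two morphisms is the product of the pullbacks. -/
theorem pullCl_mul_eq (hX : AbDual.IsDualAV Scheme.fppfPrecoverage X Xt φ) {Y : Over S} (f g : Y ⟶ X) {T : Over S}
    {c : PicF.Cl (PicF.XT X.hom T)} (hc : AbDual.IsPicZeroCl X.hom T c)
    (hrig : PicF.pullCl (PicF.secT X.hom η[X].left (Over.w η[X]) T) c = oneCl _) :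
    PicF.pullCl (AbDual.bcMap (f * g) T) c =
      PicGrp.mulCl (PicF.pullCl (AbDual.bcMap f T) c) (PicF.pullCl (AbDual.bcMap g T) c) := by
  have h := congrArg (PicF.pullCl (lift f g ▷ T).left) (pullCl_mu_eq φ hX T hc hrig)
  rw [pullCl_mulCl] at h
  simp only [bcMap_eq_whiskerRight] at h ⊢
  erw [pullCl_left_comp (lift f g ▷ T) (μ[X] ▷ T), pullCl_left_comp (lift f g ▷ T) (fst X X ▷ T),
    pullCl_left_comp (lift f g ▷ T) (snd X X ▷ T)] at h
  rw [← comp_whiskerRight, ← comp_whiskerRight, ← comp_whiskerRight, lift_fst, lift_snd] at h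
  exact h

/-- The pullback of a rigidified class along the constant morphism is trivial. -/
theorem pullCl_one_eq {Y T : Over S} {c : PicF.Cl (PicF.XT X.hom T)}
    (hrig : PicF.pullCl (PicF.secT X.hom η[X].left (Over.w η[X]) T) c = oneCl _) :
    PicF.pullCl (AbDual.bcMap (1 : Y ⟶ X) T) c = oneCl _ := by
  have e : (1 : Y ⟶ X) ▷ T = snd Y T ≫ lift (toUnit T ≫ η[X]) (𝟙 T) := by
    apply CartesianMonoidalCategory.hom_ext <;> simp [Hom.one_def]
  rw [bcMap_eq_whiskerRight, e, Over.comp_left, PicLoc.pullCl_comp, ← secT_eq_lift, hrig]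
  exact pullCl_oneCl _

theorem pullCl_inv_mul (hX : AbDual.IsDualAV Scheme.fppfPrecoverage X Xt φ) {Y : Over S} (f : Y ⟶ X) {T : Over S}
    {c : PicF.Cl (PicF.XT X.hom T)} (hc : AbDual.IsPicZeroCl X.hom T c)
    (hrig : PicF.pullCl (PicF.secT X.hom η[X].left (Over.w η[X]) T) c = oneCl _) :
    PicGrp.mulCl (PicF.pullCl (AbDual.bcMap f⁻¹ T) c) (PicF.pullCl (AbDual.bcMap f T) c) = oneCl _ := by
  rw [← pullCl_mul_eq hX f⁻¹ f hc hrig, inv_mul_cancel, pullCl_one_eq hrig]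

theorem rig_pullCl {T T' : Over S} (j : T' ⟶ T) (c : PicF.Cl (PicF.XT X.hom T))
    (h : PicF.pullCl j.left (PicF.pullCl (PicF.secT X.hom η[X].left (Over.w η[X]) T) c) = oneCl _) :
    PicF.pullCl (PicF.secT X.hom η[X].left (Over.w η[X]) T') (PicF.pullCl (PicF.XTmap X.hom j) c) = oneCl _ := by
  rwa [← PicLoc.pullCl_comp, secT_XTmap, PicLoc.pullCl_comp]

theorem bcMap_XTmap {Y : Over S} (f : Y ⟶ X) {T T' : Over S} (j : T' ⟶ T) :
    PicF.XTmap Y.hom j ≫ AbDual.bcMap f T = AbDual.bcMap f T' ≫ PicF.XTmap X.hom j := by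
  rw [XTmap_eq_whiskerLeft, XTmap_eq_whiskerLeft, bcMap_eq_whiskerRight, bcMap_eq_whiskerRight,
    ← Over.comp_left, ← Over.comp_left, whisker_exchange]

/-- The point of a pullback along a product of morphisms is the product of the points. -/
theorem map_pullCl_mul (hX : AbDual.IsDualAV Scheme.fppfPrecoverage X Xt φ) {Y Yt : Over S} [GrpObj Yt]
    {ψ : ∀ T : Over S, PicF.Cl (PicF.XT Y.hom T) → (T ⟶ Yt)}
    (hY : AbDual.IsDualAV Scheme.fppfPrecoverage Y Yt ψ) (f g : Y ⟶ X) (T : Over S)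
    {c : PicF.Cl (PicF.XT X.hom T)} (hc : AbDual.IsPicZeroCl X.hom T c) :
    ψ T (PicF.pullCl (AbDual.bcMap (f * g) T) c) =
      ψ T (PicF.pullCl (AbDual.bcMap f T) c) * ψ T (PicF.pullCl (AbDual.bcMap g T) c) := by
  refine hom_ext_of_trivial (PicLoc.isInvertibleCl_pullCl (PicF.secT X.hom η[X].left (Over.w η[X]) T)
    (isInvertibleCl_of_isPicZeroCl hc)) fun T' j hj => ?_
  have hc' := isPicZeroCl_XTmap X.hom j hc
  have hn : ∀ k : Y ⟶ X, j ≫ ψ T (PicF.pullCl (AbDual.bcMap k T) c) =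
      ψ T' (PicF.pullCl (AbDual.bcMap k T') (PicF.pullCl (PicF.XTmap X.hom j) c)) := fun k => by
    rw [← hY.relPic.natural T T' j _ (isPicZeroCl_bcMap k T hc), ← PicLoc.pullCl_comp, ← PicLoc.pullCl_comp,
      bcMap_XTmap]
  rw [MonObj.comp_mul, hn, hn, hn, pullCl_mul_eq hX f g hc' (rig_pullCl j c hj),
    map_mulCl hY (isPicZeroCl_bcMap f T' hc') (isPicZeroCl_bcMap g T' hc')]

theorem map_pullCl_one (hX : AbDual.IsDualAV Scheme.fppfPrecoverage X Xt φ) {Y Yt : Over S} [GrpObj Yt]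
    {ψ : ∀ T : Over S, PicF.Cl (PicF.XT Y.hom T) → (T ⟶ Yt)}
    (hY : AbDual.IsDualAV Scheme.fppfPrecoverage Y Yt ψ) (T : Over S)
    {c : PicF.Cl (PicF.XT X.hom T)} (hc : AbDual.IsPicZeroCl X.hom T c) :
    ψ T (PicF.pullCl (AbDual.bcMap (1 : Y ⟶ X) T) c) = 1 := by
  have h := map_pullCl_mul hX hY (1 : Y ⟶ X) 1 T hc
  rw [_root_.one_mul] at h
  exact left_eq_mul.1 h

theorem map_pullCl_inv (hX : AbDual.IsDualAV Scheme.fppfPrecoverage X Xt φ) {Y Yt : Over S} [GrpObj Yt]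
    {ψ : ∀ T : Over S, PicF.Cl (PicF.XT Y.hom T) → (T ⟶ Yt)}
    (hY : AbDual.IsDualAV Scheme.fppfPrecoverage Y Yt ψ) (f : Y ⟶ X) (T : Over S)
    {c : PicF.Cl (PicF.XT X.hom T)} (hc : AbDual.IsPicZeroCl X.hom T c) :
    ψ T (PicF.pullCl (AbDual.bcMap f⁻¹ T) c) = (ψ T (PicF.pullCl (AbDual.bcMap f T) c))⁻¹ := by
  have h := map_pullCl_mul hX hY f⁻¹ f T hc
  rw [inv_mul_cancel, map_pullCl_one hX hY T hc] at h
  exact eq_inv_of_mul_eq_one_left h.symm

theorem bcMap_id (T : Over S) : AbDual.bcMap (𝟙 X) T = 𝟙 _ := by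
  rw [bcMap_eq_whiskerRight, id_whiskerRight]
  rfl

theorem bcMap_comp {P Q : Over S} (a : P ⟶ Q) (b : Q ⟶ X) (T : Over S) :
    AbDual.bcMap (a ≫ b) T = AbDual.bcMap a T ≫ AbDual.bcMap b T := by
  rw [bcMap_eq_whiskerRight, bcMap_eq_whiskerRight, bcMap_eq_whiskerRight, comp_whiskerRight, Over.comp_left]

end Add

end Groth.Agent.AbDualLib
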