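/-
Cancellation of invertible classes, and products of Pic⁰ classes.
-/
import Groth.Agent.L26.AbDual.Primitive

open CategoryTheory CategoryTheory.Limits AlgebraicGeometry TopologicalSpace Opposite
open Groth.L18.Frame (rs ro rs_rs rs_smul IsFrame exists_frame isUnit_of_isFrame)
open Groth.L18.GenLoc (tens tens_rs tens_smul_left tens_smul_right isFrame_tens)

universe u

noncomputable section

namespace Groth.Agent.AbDualLib

variable {Y : Scheme.{u}}

/-- Invertible modules with isomorphic products with an invertible module are isomorphic. -/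
theorem nonempty_iso_of_tensor {N N' L : Y.Modules} (hN : PicF.IsInvertible N) (hN' : PicF.IsInvertible N')
    (hL : PicF.IsInvertible L) (ψ : CohB1.tensorMod N L ≅ CohB1.tensorMod N' L) : Nonempty (N ≅ N') := by
  choose W₁ e₁ hW₁ he₁ using exists_frame hN
  choose W₂ e₂ hW₂ he₂ using exists_frame hN'
  choose W₃ e₃ hW₃ he₃ using exists_frame hL
  let V : Y → Y.Opens := fun y => W₁ y ⊓ W₂ y ⊓ W₃ y
  let n : ∀ y, Γ(N, V y) := fun y => rs N (inf_le_left.trans inf_le_left) (e₁ y)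
  let n' : ∀ y, Γ(N', V y) := fun y => rs N' (inf_le_left.trans inf_le_right) (e₂ y)
  let l : ∀ y, Γ(L, V y) := fun y => rs L inf_le_right (e₃ y)
  have hn : ∀ y, IsFrame N (V y) (n y) := fun y => (he₁ y).mono _
  have hn' : ∀ y, IsFrame N' (V y) (n' y) := fun y => (he₂ y).mono _
  have hl : ∀ y, IsFrame L (V y) (l y) := fun y => (he₃ y).mono _
  choose u hu using fun y => (isFrame_tens (hn' y) (hl y)).exists_coeff le_rfl
    (ψ.hom.app (V y) (tens N L (V y) (n y) (l y)))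
  simp only [Groth.L18.Frame.rs_self] at hu
  have hu' : ∀ y, IsUnit (u y) := fun y => isUnit_of_isFrame (isFrame_tens (hn' y) (hl y))
    (by rw [hu y]; exact isFrame_map ψ (isFrame_tens (hn y) (hl y)))
  refine Groth.L22.PicGlue.nonempty_iso_of_gens V (e := n) (e' := fun y => u y • n' y) hn
    (fun y => (hn' y).smul_unit (hu' y)) (fun y => ⟨y, ⟨hW₁ y, hW₂ y⟩, hW₃ y⟩) ?_
  intro i j W hi hj x hx
  obtain ⟨z, hz⟩ := (hl i).exists_coeff hi (rs L hj (l j))
  have key : ∀ k (hk : W ≤ V k), ψ.hom.app W (tens N L W (rs N hk (n k)) (rs L hk (l k))) =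
      tens N' L W (rs N' hk (u k • n' k)) (rs L hk (l k)) := by
    intro k hk
    rw [← tens_rs, ← tens_rs, tens_smul_left, hu k]
    exact congr($(ψ.hom.mapPresheaf.naturality (homOfLE hk).op) (tens N L (V k) (n k) (l k)))
  have hz' : IsUnit z := isUnit_of_isFrame ((hl i).mono hi) (by rw [hz]; exact (hl j).mono hj)
  have hx' : x • rs N hi (n i) = rs N hj (n j) := hx
  have h := key j hj
  rw [← hx', ← hz, tens_smul_left, tens_smul_right, Scheme.Modules.Hom.app_smul, Scheme.Modules.Hom.app_smul,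
    key i hi, tens_smul_right, ← mul_smul, mul_comm, mul_smul] at h
  have h1 : x • rs N' hi (u i • n' i) = rs N' hj (u j • n' j) := by
    obtain ⟨a, ha⟩ := ((hn' i).mono hi).exists_coeff le_rfl (x • rs N' hi (u i • n' i))
    obtain ⟨b, hb⟩ := ((hn' i).mono hi).exists_coeff le_rfl (rs N' hj (u j • n' j))
    rw [Groth.L18.Frame.rs_self] at ha hb
    have h2 := h
    rw [← tens_smul_left x, ← ha, ← hb, tens_smul_left, tens_smul_left, ← mul_smul, ← mul_smul,
      ← Groth.L18.Frame.rs_self (CohB1.tensorMod N' L) le_rfl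
        (tens N' L W (rs N' hi (n' i)) (rs L hi (l i)))] at h2
    have h3 := (isFrame_tens ((hn' i).mono hi) ((hl i).mono hi)).inj le_rfl h2
    rw [← ha, ← hb, hz'.mul_left_cancel h3]
  exact h1

theorem mulCl_right_cancel {a b c : PicF.Cl Y} (ha : PicF.IsInvertibleCl a) (hb : PicF.IsInvertibleCl b)
    (hc : PicF.IsInvertibleCl c) (h : PicGrp.mulCl a c = PicGrp.mulCl b c) : a = b := by
  obtain ⟨L, rfl, hL⟩ := ha
  obtain ⟨M, rfl, hM⟩ := hb
  obtain ⟨N, rfl, hN⟩ := hc
  exact (PicGrp.cl_eq_cl_iff _ _).2 (nonempty_iso_of_tensor hL hM hN ((PicGrp.cl_eq_cl_iff _ _).1 h).some)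

open Pic13 in
/-- Algebraic equivalence to zero is stable under tensor products. -/
theorem isAlgEquivZero_tensor (k : Type u) [Field k] [IsAlgClosed k] (X : Scheme.{u})
    [X.Over (Spec (CommRingCat.of k))] {L L' : X.Modules} (h : IsAlgEquivZero k X L) (h' : IsAlgEquivZero k X L') :
    IsAlgEquivZero k X (CohB1.tensorMod L L') := by
  obtain ⟨P, q, hP, hq, hqc, M, hM, t, t₀, ht, ht₀, hφ, hφ₀⟩ := h
  obtain ⟨P', q', hP', hq', hqc', M', hM', t', t₀', ht', ht₀', hφ', hφ₀'⟩ := h'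
  haveI := geometricallyConnected_of_algClosed q
  haveI := geometricallyConnected_of_algClosed q'
  let r : pullback q q' ⟶ Spec (CommRingCat.of k) := pullback.fst q q' ≫ q
  haveI : ConnectedSpace ↥(pullback q q') := inferInstance
  let p₁ : prodK k X r ⟶ prodK k X q :=
    pullback.lift (pullback.fst _ _) (pullback.snd _ r ≫ pullback.fst q q') (by
      rw [pullback.condition, Category.assoc])
  let p₂ : prodK k X r ⟶ prodK k X q' :=
    pullback.lift (pullback.fst _ _) (pullback.snd _ r ≫ pullback.snd q q') (by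
      rw [pullback.condition, Category.assoc]
      exact congrArg (pullback.snd _ r ≫ ·) pullback.condition)
  let T := pullback.lift t t' (by rw [ht, ht'])
  let T₀ := pullback.lift t₀ t₀' (by rw [ht₀, ht₀'])
  have hT : T ≫ r = 𝟙 _ := by rw [pullback.lift_fst_assoc, ht]
  have hT₀ : T₀ ≫ r = 𝟙 _ := by rw [pullback.lift_fst_assoc, ht₀]
  have key : ∀ (a : Spec (CommRingCat.of k) ⟶ pullback q q') (ha : a ≫ r = 𝟙 _) (b b') (hb : b ≫ q = 𝟙 _)
      (hb' : b' ≫ q' = 𝟙 _), a ≫ pullback.fst q q' = b → a ≫ pullback.snd q q' = b' →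
      PicF.pullCl (sliceAt k X r a ha) (PicGrp.mulCl (PicF.pullCl p₁ (PicF.cl M)) (PicF.pullCl p₂ (PicF.cl M'))) =
        PicGrp.mulCl (PicF.pullCl (sliceAt k X q b hb) (PicF.cl M)) (PicF.pullCl (sliceAt k X q' b' hb') (PicF.cl M')) := by
    intro a ha b b' hb hb' e e'
    rw [pullCl_mulCl, ← PicLoc.pullCl_comp, ← PicLoc.pullCl_comp]
    congr 2 <;>
      (apply pullback.hom_ext <;> simp [sliceAt, p₁, p₂, ← e, ← e'] <;>
        first
        | (erw [pullback.lift_fst, pullback.lift_fst, pullback.lift_fst]; done)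
        | (erw [pullback.lift_fst, pullback.lift_fst]; done)
        | (erw [pullback.lift_snd, pullback.lift_snd, pullback.lift_snd_assoc]; simp only [Category.assoc]))
  refine ⟨_, r, inferInstance, inferInstance, inferInstance,
    CohB1.tensorMod ((Scheme.Modules.pullback p₁).obj M) ((Scheme.Modules.pullback p₂).obj M'),
    Groth.L18.GenLoc.isInvertible_tensor (PicLoc.isInvertible_pullback p₁ hM) (PicLoc.isInvertible_pullback p₂ hM'),
    T, T₀, hT, hT₀, (PicGrp.cl_eq_cl_iff _ _).1 ?_, (PicGrp.cl_eq_cl_iff _ _).1 ?_⟩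
  · refine (key T hT t t' ht ht' (pullback.lift_fst _ _ _) (pullback.lift_snd _ _ _)).trans ?_
    rw [← PicGrp.mulCl_cl]
    exact congrArg₂ PicGrp.mulCl ((PicGrp.cl_eq_cl_iff _ _).2 hφ) ((PicGrp.cl_eq_cl_iff _ _).2 hφ')
  · refine (key T₀ hT₀ t₀ t₀' ht₀ ht₀' (pullback.lift_fst _ _ _) (pullback.lift_snd _ _ _)).trans ?_
    refine (congrArg₂ PicGrp.mulCl ((PicGrp.cl_eq_cl_iff _ _).2 hφ₀) ((PicGrp.cl_eq_cl_iff _ _).2 hφ₀')).trans ?_
    exact oneCl_mul _

/-- Products of Pic⁰ classes. -/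
theorem isPicZeroCl_mulCl {X S : Scheme.{u}} {f : X ⟶ S} {T : Over S} {c c' : PicF.Cl (PicF.XT f T)}
    (hc : AbDual.IsPicZeroCl f T c) (hc' : AbDual.IsPicZeroCl f T c') :
    AbDual.IsPicZeroCl f T (PicGrp.mulCl c c') := by
  obtain ⟨L, rfl, hL, hfib⟩ := hc
  obtain ⟨L', rfl, hL', hfib'⟩ := hc'
  refine ⟨_, rfl, Groth.L18.GenLoc.isInvertible_tensor hL hL', fun t Ω _ _ τ hτ => ?_⟩
  letI : (pullback (PicF.XTproj f T) τ).Over (Spec (CommRingCat.of Ω)) := ⟨pullback.snd (PicF.XTproj f T) τ⟩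
  obtain ⟨P, p, h1, h2, h3, M, hM, a, a₀, ha, ha₀, ⟨φ⟩, h4⟩ :=
    isAlgEquivZero_tensor Ω _ (hfib t Ω τ hτ) (hfib' t Ω τ hτ)
  exact ⟨P, p, h1, h2, h3, M, hM, a, a₀, ha, ha₀,
    ⟨φ ≪≫ (Groth.L29.DC.PullTensor.pullTensor (pullback.fst (PicF.XTproj f T) τ) L L')⟩, h4⟩

end Groth.Agent.AbDualLib
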