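/-
Base change of dual abelian schemes.
-/
import Groth.Agent.L26.AbDual.Additive
import Groth.Agent.L26.KL.Finite
import Groth.Prelude.Def_AgPol

set_option autoImplicit false
set_option linter.style.haveILetI false
set_option backward.isDefEq.respectTransparency false
set_option backward.isDefEq.respectTransparency.types false

universe u

open CategoryTheory CategoryTheory.Limits MonoidalCategory CartesianMonoidalCategory MonObj GrpObj AlgebraicGeometry
open Groth.Agent.AbDualLib

noncomputable section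

namespace Groth.Agent.AbDualBC

/-- Pullback of Pic⁰ classes along a map of families over different bases. -/
theorem isPicZeroCl_pullCl' {X X' S S' : Scheme.{u}} (f : X ⟶ S) (f' : X' ⟶ S') {T : Over S} {T' : Over S'}
    (q : T'.left ⟶ T.left)
    (h : PicF.XT f' T' ⟶ PicF.XT f T) (hh : h ≫ PicF.XTproj f T = PicF.XTproj f' T' ≫ q)
    {c : PicF.Cl (PicF.XT f T)} (hc : AbDual.IsPicZeroCl f T c) :
    AbDual.IsPicZeroCl f' T' (PicF.pullCl h c) := by
  obtain ⟨L, rfl, hL, hfib⟩ := hc
  refine ⟨_, rfl, PicLoc.isInvertible_pullback h hL, fun t Ω _ _ τ hτ => ?_⟩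
  have hr : Set.range (τ ≫ q).base = {q t} := by
    rw [Scheme.Hom.comp_base, TopCat.coe_comp, Set.range_comp, hτ, Set.image_singleton]
  let e : pullback (PicF.XTproj f' T') τ ⟶ pullback (PicF.XTproj f T) (τ ≫ q) :=
    pullback.lift (pullback.fst _ τ ≫ h) (pullback.snd _ τ)
      (by rw [Category.assoc, hh, pullback.condition_assoc])
  have key := @isAlgEquivZero_pullback Ω _ _ _ ⟨pullback.snd _ _⟩ ⟨pullback.snd _ _⟩ e
    (pullback.lift_snd _ _ _) _ (hfib (q t) Ω (τ ≫ q) hr)
  let iso : (Scheme.Modules.pullback e).obj ((Scheme.Modules.pullback (pullback.fst (PicF.XTproj f T) (τ ≫ q))).obj L) ≅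
      (Scheme.Modules.pullback (pullback.fst (PicF.XTproj f' T') τ)).obj ((Scheme.Modules.pullback h).obj L) :=
    (Scheme.Modules.pullbackComp _ _).app L ≪≫
      (Scheme.Modules.pullbackCongr (pullback.lift_fst _ _ _)).app L ≪≫
      ((Scheme.Modules.pullbackComp _ _).app L).symm
  obtain ⟨P, p, h1, h2, h3, M, hM, a, a₀, ha, ha₀, ⟨φ⟩, h4⟩ := key
  exact ⟨P, p, h1, h2, h3, M, hM, a, a₀, ha, ha₀, ⟨φ ≪≫ iso⟩, h4⟩

variable {S R : Scheme.{u}} (q : R ⟶ S) (A : Over S)

/-- An object over the new base, over the old one. -/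
abbrev dn (U : Over R) : Over S := Over.mk (U.hom ≫ q)

/-- A morphism over the new base, over the old one. -/
abbrev dnMap {U V : Over R} (g : U ⟶ V) : dn q U ⟶ dn q V :=
  Over.homMk g.left (by show g.left ≫ V.hom ≫ q = U.hom ≫ q; rw [← Category.assoc, Over.w g])

/-- A class on the base change, over the old base. -/
abbrev dnCl (U : Over R) (c : PicF.Cl (PicF.XT (Red.bc q A).hom U)) : PicF.Cl (PicF.XT A.hom (dn q U)) :=
  PicF.pullCl (AgPol.bcXTIso q A U).inv c

theorem inv_proj (U : Over R) :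
    (AgPol.bcXTIso q A U).inv ≫ PicF.XTproj (Red.bc q A).hom U = PicF.XTproj A.hom (dn q U) := by
  dsimp only [AgPol.bcXTIso, PicF.XTproj]
  exact pullbackLeftPullbackSndIso_inv_snd_snd A.hom q U.hom

theorem XTmap_inv {U V : Over R} (g : U ⟶ V) :
    PicF.XTmap A.hom (dnMap q g) ≫ (AgPol.bcXTIso q A V).inv =
      (AgPol.bcXTIso q A U).inv ≫ PicF.XTmap (Red.bc q A).hom g := by
  rw [Iso.comp_inv_eq, Category.assoc]
  apply pullback.hom_ext
  · dsimp only [AgPol.bcXTIso]
    simp [PicF.XTmap]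
  · dsimp only [AgPol.bcXTIso]
    simp [PicF.XTmap]

theorem dnCl_XTmap {U V : Over R} (g : U ⟶ V) (c : PicF.Cl (PicF.XT (Red.bc q A).hom V)) :
    dnCl q A U (PicF.pullCl (PicF.XTmap (Red.bc q A).hom g) c) =
      PicF.pullCl (PicF.XTmap A.hom (dnMap q g)) (dnCl q A V c) := by
  rw [dnCl, dnCl, ← PicLoc.pullCl_comp, ← PicLoc.pullCl_comp, XTmap_inv]

theorem isPicZeroCl_dnCl {U : Over R} {c : PicF.Cl (PicF.XT (Red.bc q A).hom U)}
    (hc : AbDual.IsPicZeroCl (Red.bc q A).hom U c) : AbDual.IsPicZeroCl A.hom (dn q U) (dnCl q A U c) :=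
  isPicZeroCl_pullCl' (Red.bc q A).hom A.hom (𝟙 _) _ ((inv_proj q A U).trans (Category.comp_id _).symm) hc

theorem isPicZeroCl_up {U : Over R} {c : PicF.Cl (PicF.XT A.hom (dn q U))}
    (hc : AbDual.IsPicZeroCl A.hom (dn q U) c) :
    AbDual.IsPicZeroCl (Red.bc q A).hom U (PicF.pullCl (AgPol.bcXTIso q A U).hom c) := by
  refine isPicZeroCl_pullCl' A.hom (Red.bc q A).hom (T := dn q U) (𝟙 _) _ ?_ hc
  rw [← inv_proj q A U, Iso.hom_inv_id_assoc]
  exact (Category.comp_id _).symm

theorem dnCl_up (U : Over R) (c : PicF.Cl (PicF.XT A.hom (dn q U))) :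
    dnCl q A U (PicF.pullCl (AgPol.bcXTIso q A U).hom c) = c := by
  rw [dnCl, ← PicLoc.pullCl_comp, Iso.inv_hom_id, PicLoc.pullCl_id]

theorem up_dnCl (U : Over R) (c : PicF.Cl (PicF.XT (Red.bc q A).hom U)) :
    PicF.pullCl (AgPol.bcXTIso q A U).hom (dnCl q A U c) = c := by
  rw [dnCl, ← PicLoc.pullCl_comp, Iso.hom_inv_id, PicLoc.pullCl_id]

variable {A} (At : Over S) (φ : AgPol.DualMap A At)

theorem bcDual_fst (U : Over R) (c : PicF.Cl (PicF.XT (Red.bc q A).hom U)) :
    (AgPol.bcDual q A At φ U c).left ≫ pullback.fst At.hom q = (φ (dn q U) (dnCl q A U c)).left :=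
  pullback.lift_fst _ _ _

theorem down_bcDual (U : Over R) (c : PicF.Cl (PicF.XT (Red.bc q A).hom U)) :
    KLFinite.down q (AgPol.bcDual q A At φ U c) = φ (dn q U) (dnCl q A U c) :=
  Over.OverMorphism.ext (bcDual_fst q At φ U c)

theorem down_injective {B : Over S} {U : Over R} {f g : U ⟶ Red.bc q B}
    (h : KLFinite.down q f = KLFinite.down q g) : f = g :=
  Over.OverMorphism.ext (pullback.hom_ext (congrArg CommaMorphism.left h) ((Over.w f).trans (Over.w g).symm))

theorem dn_comp_down {B : Over S} {U V : Over R} (h : U ⟶ V) (f : V ⟶ Red.bc q B) :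
    KLFinite.down q (h ≫ f) = dnMap q h ≫ KLFinite.down q f :=
  Over.OverMorphism.ext (Category.assoc _ _ _)

variable {At φ}

/-- The base change of a dual is a dual. -/
theorem isDualAV_bc [GrpObj At] (h : AbDual.IsDualAV Scheme.fppfPrecoverage A At φ) :
    AbDual.IsDualAV Scheme.fppfPrecoverage (Red.bc q A) (Red.bc q At) (AgPol.bcDual q A At φ) where
  relPic :=
  { natural := fun T T' g c hc => down_injective q (by
      rw [down_bcDual, dn_comp_down, down_bcDual, dnCl_XTmap,
        h.relPic.natural _ _ _ _ (isPicZeroCl_dnCl q A hc)])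
    locallySurjective := fun T g => by
      obtain ⟨P, hP, hs⟩ := h.relPic.locallySurjective (dn q T) (KLFinite.down q g)
      refine ⟨P, hP, fun U u hu => ?_⟩
      obtain ⟨c, hc, he⟩ := hs u hu
      let e : dn q (AbDual.ovr T u) ⟶ AbDual.ovr (dn q T) u := Over.homMk (𝟙 U) (by
        show 𝟙 U ≫ u ≫ T.hom ≫ q = (u ≫ T.hom) ≫ q
        rw [Category.id_comp, Category.assoc])
      refine ⟨PicF.pullCl (AgPol.bcXTIso q A (AbDual.ovr T u)).hom (PicF.pullCl (PicF.XTmap A.hom e) c),
        isPicZeroCl_up q A (isPicZeroCl_XTmap _ e hc), down_injective q ?_⟩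
      rw [down_bcDual, dnCl_up, h.relPic.natural _ _ e c hc, he, dn_comp_down]
      exact Over.OverMorphism.ext (Category.id_comp _)
    locallyInjective := fun T c c' hc hc' e0 => by
      have e1 := congrArg (KLFinite.down q) e0
      rw [down_bcDual, down_bcDual] at e1
      obtain ⟨P, hP, hs⟩ := h.relPic.locallyInjective (dn q T) _ _ (isPicZeroCl_dnCl q A hc)
        (isPicZeroCl_dnCl q A hc') e1
      refine ⟨P, hP, fun U u hu => ?_⟩
      let e : dn q (AbDual.ovr T u) ⟶ AbDual.ovr (dn q T) u := Over.homMk (𝟙 U) (by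
        show 𝟙 U ≫ u ≫ T.hom ≫ q = (u ≫ T.hom) ≫ q
        rw [Category.id_comp, Category.assoc])
      have h3 : PicF.XTmap A.hom (dnMap q (AbDual.ovrHom T u)) =
          PicF.XTmap A.hom e ≫ PicF.XTmap A.hom (AbDual.ovrHom (dn q T) u) := by
        rw [← XTmap_comp]
        exact congrArg (PicF.XTmap A.hom) (Over.OverMorphism.ext (Category.id_comp u).symm)
      have h2 : PicF.pullCl (PicF.XTmap A.hom (dnMap q (AbDual.ovrHom T u))) (dnCl q A T c) =
          PicF.pullCl (PicF.XTmap A.hom (dnMap q (AbDual.ovrHom T u))) (dnCl q A T c') := by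
        rw [h3]
        refine (PicLoc.pullCl_comp _ _ _).trans (Eq.trans ?_ (PicLoc.pullCl_comp _ _ _).symm)
        rw [hs u hu]
      rw [← dnCl_XTmap, ← dnCl_XTmap] at h2
      exact (up_dnCl q A _ _).symm.trans ((congrArg _ h2).trans (up_dnCl q A _ _)) }
  mul := fun T L M hL hM => down_injective q (by
    rw [KLFinite.down_mul, down_bcDual, down_bcDual, down_bcDual,
      ← map_mulCl h (isPicZeroCl_dnCl q A hL) (isPicZeroCl_dnCl q A hM)]
    refine congrArg (φ _) ?_
    rw [dnCl, dnCl, dnCl, ← pullCl_mulCl]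
    rfl)

end Groth.Agent.AbDualBC
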