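/-
Degrees of composites of isogenies, through the ranks of their kernels.
-/
import Groth.Agent.L26.KL.RankScheme
import Groth.Prelude.Def_AlgGrp

set_option autoImplicit false
set_option linter.style.haveILetI false
set_option backward.isDefEq.respectTransparency false
set_option backward.isDefEq.respectTransparency.types false

universe u

open CategoryTheory CategoryTheory.Limits MonoidalCategory CartesianMonoidalCategory MonObj GrpObj AlgebraicGeometry

noncomputable section

namespace Groth.Agent.DegTower

variable {k : Type u} [Field k] {X Y Z : Over (Spec (CommRingCat.of k))} [GrpObj Z]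

/-- The point of the unit section. -/
abbrev one (Z : Over (Spec (CommRingCat.of k))) [GrpObj Z] : ↥Z.left :=
  η[Z].left (IsLocalRing.closedPoint k)

/-- A kernel of a finite homomorphism is finite and its rank is the degree at the unit. -/
theorem kernel_finrank {N : Over (Spec (CommRingCat.of k))} (q : X ⟶ Z) [IsFinite q.left] [Flat q.left] (i : N ⟶ X)
    (hN : AlgGrp.IsKernel i q) (s : ↥(Spec (CommRingCat.of k))) :
    IsFinite N.hom ∧ Scheme.Hom.finrank N.hom s = Scheme.Hom.finrank q.left (one Z) := by
  have h : IsPullback i.left N.hom q.left η[Z].left := by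
    have h0 := hN.map (Over.forget _)
    have e : N.hom = (toUnit N).left := Over.toUnit_left.symm
    rw [e]
    exact h0
  haveI : IsFinite N.hom := MorphismProperty.of_isPullback (P := @IsFinite) h ‹_›
  refine ⟨‹_›, ?_⟩
  haveI : Flat N.hom := MorphismProperty.of_isPullback (P := @Flat) h ‹_›
  rw [Scheme.Hom.finrank_of_isPullback _ _ _ _ h.flip.flip s,
    @Subsingleton.elim _ (inferInstanceAs (Subsingleton (PrimeSpectrum k))) s (IsLocalRing.closedPoint k)]
  rfl

/-- The degree of a composite at the unit. -/
theorem finrank_comp_one (g : X ⟶ Y) [IsFinite g.left] [Flat g.left] {a : ℕ}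
    (hg : ∀ y, Scheme.Hom.finrank g.left y = a) (q : Y ⟶ Z) [IsFinite q.left] [Flat q.left] :
    Scheme.Hom.finrank (g ≫ q).left (one Z) = a * Scheme.Hom.finrank q.left (one Z) := by
  let K := pullback q η[Z]
  have hK0 := IsPullback.of_hasPullback q η[Z]
  have hu : pullback.snd q η[Z] = toUnit K := toUnit_unique _ _
  have hK : AlgGrp.IsKernel (pullback.fst q η[Z]) q := by
    rw [hu] at hK0; exact hK0
  have hK' := IsPullback.of_hasPullback g (pullback.fst q η[Z])
  have hker : AlgGrp.IsKernel (pullback.fst g (pullback.fst q η[Z])) (g ≫ q) := by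
    have h := hK'.flip.paste_horiz hK.flip
    rw [show pullback.snd g (pullback.fst q η[Z]) ≫ toUnit K = toUnit _ from toUnit_unique _ _] at h
    exact h.flip
  haveI : IsFinite (g ≫ q).left := inferInstanceAs (IsFinite (g.left ≫ q.left))
  haveI : Flat (g ≫ q).left := inferInstanceAs (Flat (g.left ≫ q.left))
  obtain ⟨hKf, hKr⟩ := kernel_finrank q _ hK (IsLocalRing.closedPoint k)
  obtain ⟨-, hr⟩ := kernel_finrank (g ≫ q) _ hker (IsLocalRing.closedPoint k)
  have hP := hK'.map (Over.forget _)
  haveI : IsFinite (pullback.snd g (pullback.fst q η[Z])).left := MorphismProperty.of_isPullback (P := @IsFinite) hP ‹_›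
  haveI : Flat (pullback.snd g (pullback.fst q η[Z])).left := MorphismProperty.of_isPullback (P := @Flat) hP (show Flat g.left by infer_instance)
  haveI := hKf
  have h := (KLRank.finrank_comp (pullback.snd g (pullback.fst q η[Z])) (d := a)
    (fun y => (Scheme.Hom.finrank_of_isPullback _ (pullback.snd g (pullback.fst q η[Z])).left g.left (pullback.fst q η[Z]).left hP y).trans (hg _)) (IsLocalRing.closedPoint k)).2
  rw [← hr, h, hKr]

end Groth.Agent.DegTower
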