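/-
The Poincaré class as a bilinear pairing on points, and its symmetry along a polarisation.
-/
import Groth.Agent.L26.AbDual.Additive
import Groth.Agent.L26.AbDual.Cancel
import Groth.Prelude.Def_AgPol

open CategoryTheory CategoryTheory.Limits AlgebraicGeometry TopologicalSpace Opposite
open MonoidalCategory CartesianMonoidalCategory MonObj GrpObj

universe u

noncomputable section

namespace Groth.Agent.AbDualLib

variable {S : Scheme.{u}} {A At : Over S}

/-- The value of the class `ξ` at a pair of points. -/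
abbrev bil (ξ : PicF.Cl (A ⊗ At).left) {T : Over S} (a : T ⟶ A) (b : T ⟶ At) : PicF.Cl T.left :=
  PicF.pullCl (lift a b).left ξ

theorem pullCl_bil (ξ : PicF.Cl (A ⊗ At).left) {T T' : Over S} (h : T' ⟶ T) (a : T ⟶ A) (b : T ⟶ At) :
    PicF.pullCl h.left (bil ξ a b) = bil ξ (h ≫ a) (h ≫ b) := by
  rw [bil, bil, pullCl_left_comp, comp_lift]

theorem bil_whiskerLeft (ξ : PicF.Cl (A ⊗ At).left) {T : Over S} (b : T ⟶ At) :
    PicF.pullCl (PicF.XTmap A.hom b) ξ = bil ξ (fst A T) (snd A T ≫ b) := by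
  rw [XTmap_eq_whiskerLeft, bil]
  refine congrArg (fun h => PicF.pullCl h ξ) (congrArg CommaMorphism.left ?_)
  apply CartesianMonoidalCategory.hom_ext <;> simp

theorem pullCl_bcMap_bil (ξ : PicF.Cl (A ⊗ At).left) {T : Over S} (a : T ⟶ A) (b : T ⟶ At) :
    PicF.pullCl (lift (𝟙 T) b).left (PicF.pullCl (AbDual.bcMap a At) ξ) = bil ξ a b := by
  rw [bcMap_eq_whiskerRight]
  erw [pullCl_left_comp (lift (𝟙 T) b) (a ▷ At)]
  refine congrArg (fun h => PicF.pullCl h ξ) (congrArg CommaMorphism.left ?_)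
  apply CartesianMonoidalCategory.hom_ext <;> simp

theorem pullCl_XTmap_bil (ξ : PicF.Cl (A ⊗ At).left) {T : Over S} (a : T ⟶ A) (b : T ⟶ At) :
    PicF.pullCl (lift a (𝟙 T)).left (PicF.pullCl (PicF.XTmap A.hom b) ξ) = bil ξ a b := by
  rw [XTmap_eq_whiskerLeft]
  erw [pullCl_left_comp (lift a (𝟙 T)) (A ◁ b)]
  refine congrArg (fun h => PicF.pullCl h ξ) (congrArg CommaMorphism.left ?_)
  apply CartesianMonoidalCategory.hom_ext <;> simp

section Poincare

variable [GrpObj A] [GrpObj At] {φ : ∀ T : Over S, PicF.Cl (PicF.XT A.hom T) → (T ⟶ At)}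
  [IsLocallyNoetherian S] [IsProper A.hom] [Smooth A.hom] [GeometricallyConnected A.hom]

theorem bil_one_left {ξ : PicF.Cl (PicF.XT A.hom At)} (hξ : AbDual.IsPoincareCl A At φ ξ) {T : Over S}
    (b : T ⟶ At) : bil ξ 1 b = oneCl _ := by
  have h : PicF.pullCl (PicF.secT A.hom η[A].left (Over.w η[A]) At) ξ = oneCl _ := hξ.2.2
  have e : lift (1 : T ⟶ A) b = b ≫ lift (toUnit At ≫ η[A]) (𝟙 At) := by
    apply CartesianMonoidalCategory.hom_ext <;> simp [Hom.one_def]
  rw [bil, e, Over.comp_left, PicLoc.pullCl_comp, ← secT_eq_lift]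
  exact (congrArg _ h).trans (pullCl_oneCl _)

theorem bil_mul_left (hA : AbDual.IsDualAV Scheme.fppfPrecoverage A At φ) {ξ : PicF.Cl (PicF.XT A.hom At)}
    (hξ : AbDual.IsPoincareCl A At φ ξ) {T : Over S} (a a' : T ⟶ A) (b : T ⟶ At) :
    bil ξ (a * a') b = PicGrp.mulCl (bil ξ a b) (bil ξ a' b) := by
  rw [← pullCl_bcMap_bil, pullCl_mul_eq hA a a' hξ.1 hξ.2.2]
  erw [pullCl_mulCl]
  exact congrArg₂ PicGrp.mulCl (pullCl_bcMap_bil ξ a b) (pullCl_bcMap_bil ξ a' b)

theorem bil_mul_right (hA : AbDual.IsDualAV Scheme.fppfPrecoverage A At φ) {ξ : PicF.Cl (PicF.XT A.hom At)}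
    (hξ : AbDual.IsPoincareCl A At φ ξ) {T : Over S} (a : T ⟶ A) (b b' : T ⟶ At) :
    bil ξ a (b * b') = PicGrp.mulCl (bil ξ a b) (bil ξ a b') := by
  have hr : ∀ c : T ⟶ At, PicF.pullCl (PicF.secT A.hom η[A].left (Over.w η[A]) T)
      (PicF.pullCl (PicF.XTmap A.hom c) ξ) = oneCl _ := fun c =>
    rig_pullCl c ξ ((congrArg _ hξ.2.2).trans (pullCl_oneCl _))
  have hp : ∀ c : T ⟶ At, φ T (PicF.pullCl (PicF.XTmap A.hom c) ξ) = c := fun c => by
    rw [hA.relPic.natural At T c ξ hξ.1, hξ.2.1, Category.comp_id]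
  have e : PicF.pullCl (PicF.XTmap A.hom (b * b')) ξ =
      PicGrp.mulCl (PicF.pullCl (PicF.XTmap A.hom b) ξ) (PicF.pullCl (PicF.XTmap A.hom b') ξ) := by
    refine eq_of_map_eq hA (isPicZeroCl_XTmap _ _ hξ.1)
      (isPicZeroCl_mulCl (isPicZeroCl_XTmap _ _ hξ.1) (isPicZeroCl_XTmap _ _ hξ.1)) (hr _) ?_ ?_
    · rw [pullCl_mulCl, hr, hr, oneCl_mul]
    · rw [map_mulCl hA (isPicZeroCl_XTmap _ _ hξ.1) (isPicZeroCl_XTmap _ _ hξ.1), hp, hp, hp]
  rw [← pullCl_XTmap_bil, e]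
  erw [pullCl_mulCl]
  exact congrArg₂ PicGrp.mulCl (pullCl_XTmap_bil ξ a b) (pullCl_XTmap_bil ξ a b')

/-- The class `(x, a) ↦ ξ(x, lam a)`. -/
abbrev lamCl (ξ : PicF.Cl (PicF.XT A.hom At)) (lam : A ⟶ At) : PicF.Cl (PicF.XT A.hom A) :=
  bil ξ (fst A A) (snd A A ≫ lam)

/-- The class `(x, a) ↦ ξ(a, lam x)`. -/
abbrev lamCl' (ξ : PicF.Cl (PicF.XT A.hom At)) (lam : A ⟶ At) : PicF.Cl (PicF.XT A.hom A) :=
  bil ξ (snd A A) (fst A A ≫ lam)

theorem swap_lamCl (ξ : PicF.Cl (PicF.XT A.hom At)) (lam : A ⟶ At) :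
    PicF.pullCl (lift (snd A A) (fst A A)).left (lamCl ξ lam) = lamCl' ξ lam := by
  erw [pullCl_bil]
  rw [lift_fst, lift_snd_assoc]

/-- The two classes agree over every geometric point. -/
theorem lamCl_symm_at [IsCommMonObj A] (hA : AbDual.IsDualAV Scheme.fppfPrecoverage A At φ)
    {ξ : PicF.Cl (PicF.XT A.hom At)} (hξ : AbDual.IsPoincareCl A At φ ξ) (lam : A ⟶ At)
    (hpol : AgPol.IsPolarization A At φ lam) {Ω : Type u} [Field Ω] [IsAlgClosed Ω]
    (a : Spec (CommRingCat.of Ω) ⟶ A.left) :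
    PicF.pullCl (PicF.XTmap A.hom (AbDual.ovrHom A a)) (lamCl' ξ lam) =
      PicF.pullCl (PicF.XTmap A.hom (AbDual.ovrHom A a)) (lamCl ξ lam) := by
  let t := a ≫ A.hom
  obtain ⟨M, hM, N, hN, ⟨ψ⟩, hφN⟩ := hpol.2 Ω t
  let AΩ := Red.bc t A
  let U : Over S := Over.mk (AΩ.hom ≫ t)
  let j : U ⟶ A := Over.homMk (pullback.fst A.hom t) pullback.condition
  let i := AgPol.bcXTIso t A AΩ
  let cM : PicF.Cl (PicF.XT A.hom U) := PicF.pullCl i.inv (PicF.cl N)
  haveI : LocallyOfFiniteType AΩ.hom := inferInstanceAs (LocallyOfFiniteType (pullback.snd A.hom t))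
  haveI : QuasiCompact AΩ.hom := inferInstanceAs (QuasiCompact (pullback.snd A.hom t))
  haveI : GeometricallyConnected AΩ.hom := inferInstanceAs (GeometricallyConnected (pullback.snd A.hom t))
  haveI : ConnectedSpace ↥AΩ.left := by
    haveI : Subsingleton ↥(Spec (CommRingCat.of Ω)) := inferInstanceAs (Subsingleton (PrimeSpectrum Ω))
    exact GeometricallyConnected.connectedSpace_of_subsingleton AΩ.hom
  -- the Mumford class
  have hNc : PicGrp.mulCl (PicGrp.mulCl (PicF.cl N) (PicF.pullCl (fst AΩ AΩ).left (PicF.cl M)))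
      (PicF.pullCl (snd AΩ AΩ).left (PicF.cl M)) = PicF.pullCl μ[AΩ].left (PicF.cl M) :=
    (PicGrp.cl_eq_cl_iff _ _).2 ⟨ψ⟩
  have hM' : PicF.IsInvertibleCl (PicF.cl M) := ⟨M, rfl, hM.1⟩
  have hN' : PicF.IsInvertibleCl (PicF.cl N) := ⟨N, rfl, hN⟩
  have hM1 : PicF.pullCl η[AΩ].left (PicF.cl M) = oneCl _ :=
    haveI : Subsingleton ↥((𝟙_ (Over (Spec (CommRingCat.of Ω)))).left) :=
      inferInstanceAs (Subsingleton (PrimeSpectrum Ω))
    eq_oneCl_of_subsingleton (PicLoc.isInvertibleCl_pullCl _ hM')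
  have hM1' : ∀ Z : Over (Spec (CommRingCat.of Ω)), PicF.pullCl (1 : Z ⟶ AΩ).left (PicF.cl M) = oneCl _ := by
    intro Z
    rw [Hom.one_def, Over.comp_left, PicLoc.pullCl_comp, hM1]
    exact pullCl_oneCl _
  have hev : ∀ {Z : Over (Spec (CommRingCat.of Ω))} (p q : Z ⟶ AΩ),
      PicGrp.mulCl (PicGrp.mulCl (PicF.pullCl (lift p q).left (PicF.cl N)) (PicF.pullCl p.left (PicF.cl M)))
        (PicF.pullCl q.left (PicF.cl M)) = PicF.pullCl (p * q).left (PicF.cl M) := by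
    intro Z p q
    have h := congrArg (PicF.pullCl (lift p q).left) hNc
    rw [pullCl_mulCl, pullCl_mulCl] at h
    erw [pullCl_left_comp (lift p q) (fst AΩ AΩ), pullCl_left_comp (lift p q) (snd AΩ AΩ),
      pullCl_left_comp (lift p q) μ[AΩ]] at h
    rw [lift_fst, lift_snd] at h
    exact h
  have hswap : PicF.pullCl (lift (snd AΩ AΩ) (fst AΩ AΩ)).left (PicF.cl N) = PicF.cl N := by
    have h1 := hev (snd AΩ AΩ) (fst AΩ AΩ)
    have h2 := hev (fst AΩ AΩ) (snd AΩ AΩ)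
    rw [lift_fst_snd, Over.id_left, PicLoc.pullCl_id, mul_comm (fst AΩ AΩ)] at h2
    refine mulCl_right_cancel (c := PicGrp.mulCl (PicF.pullCl (fst AΩ AΩ).left (PicF.cl M))
      (PicF.pullCl (snd AΩ AΩ).left (PicF.cl M))) (PicLoc.isInvertibleCl_pullCl _ hN') hN'
      (isInvertibleCl_mulCl (PicLoc.isInvertibleCl_pullCl _ hM') (PicLoc.isInvertibleCl_pullCl _ hM')) ?_
    calc _ = PicF.pullCl (snd AΩ AΩ * fst AΩ AΩ).left (PicF.cl M) := by
            rw [← h1, mulCl_assoc, mulCl_comm (PicF.pullCl (fst AΩ AΩ).left (PicF.cl M))]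
      _ = _ := by rw [← h2, mulCl_assoc]
  have hleft : ∀ Z : Over (Spec (CommRingCat.of Ω)), ∀ q : Z ⟶ AΩ,
      PicF.pullCl (lift (1 : Z ⟶ AΩ) q).left (PicF.cl N) = oneCl _ := by
    intro Z q
    have h := hev (1 : Z ⟶ AΩ) q
    rw [hM1', mul_oneCl, _root_.one_mul] at h
    refine mulCl_right_cancel (PicLoc.isInvertibleCl_pullCl _ hN') ⟨_, rfl, Groth.L18.Ample.isInvertible_structureModule _⟩
      (PicLoc.isInvertibleCl_pullCl q.left hM') (h.trans (oneCl_mul _).symm)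
  have hright : ∀ Z : Over (Spec (CommRingCat.of Ω)), ∀ p : Z ⟶ AΩ,
      PicF.pullCl (lift p (1 : Z ⟶ AΩ)).left (PicF.cl N) = oneCl _ := by
    intro Z p
    have e : lift p (1 : Z ⟶ AΩ) = lift (1 : Z ⟶ AΩ) p ≫ lift (snd AΩ AΩ) (fst AΩ AΩ) := by
      rw [comp_lift, lift_fst, lift_snd]
    rw [e, Over.comp_left, PicLoc.pullCl_comp, hswap, hleft]
  -- the morphisms
  have hifst : i.inv ≫ (fst AΩ AΩ).left ≫ pullback.fst A.hom t = pullback.fst A.hom U.hom :=
    pullbackLeftPullbackSndIso_inv_fst _ _ _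
  have hisnd : i.inv ≫ (snd AΩ AΩ).left = pullback.snd A.hom U.hom :=
    pullbackLeftPullbackSndIso_inv_snd_snd _ _ _
  have hihom : i.inv ≫ (fst AΩ AΩ).left ≫ pullback.snd A.hom t = pullback.snd A.hom U.hom ≫ AΩ.hom :=
    (congrArg (i.inv ≫ ·) (pullback.condition (f := AΩ.hom) (g := AΩ.hom))).trans
      ((Category.assoc _ _ _).symm.trans (congrArg (· ≫ AΩ.hom) hisnd))
  -- rigidity of the Mumford class
  have hrig : PicF.pullCl (PicF.secT A.hom η[A].left (Over.w η[A]) U) cM = oneCl _ := by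
    rw [← PicLoc.pullCl_comp]
    have e : PicF.secT A.hom η[A].left (Over.w η[A]) U ≫ i.inv = (lift (1 : AΩ ⟶ AΩ) (𝟙 AΩ)).left := by
      apply pullback.hom_ext
      · apply pullback.hom_ext
        · rw [Category.assoc, Category.assoc]
          refine (congrArg (PicF.secT A.hom η[A].left (Over.w η[A]) U ≫ ·) hifst).trans ?_
          refine (pullback.lift_fst _ _ _).trans ?_
          show _ = (lift (1 : AΩ ⟶ AΩ) (𝟙 AΩ) ≫ fst AΩ AΩ).left ≫ pullback.fst A.hom t
          rw [lift_fst]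
          show _ = (toUnit AΩ ≫ η[AΩ]).left ≫ pullback.fst A.hom t
          rw [Over.comp_left, Category.assoc, Functor.obj.η_def, Over.comp_left, Category.assoc,
            Over.toUnit_left]
          erw [pullback.lift_fst]
          simp
          rfl
        · rw [Category.assoc, Category.assoc]
          refine (congrArg (PicF.secT A.hom η[A].left (Over.w η[A]) U ≫ ·) hihom).trans ?_
          refine ((Category.assoc _ _ _).symm.trans (congrArg (· ≫ AΩ.hom)
            (secT_snd A.hom η[A].left (Over.w η[A]) U))).trans ((Category.id_comp _).trans ?_)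
          show AΩ.hom = (lift (1 : AΩ ⟶ AΩ) (𝟙 AΩ) ≫ fst AΩ AΩ).left ≫ AΩ.hom
          rw [Over.w]
      · rw [Category.assoc]
        refine (congrArg (PicF.secT A.hom η[A].left (Over.w η[A]) U ≫ ·) hisnd).trans ?_
        refine (secT_snd A.hom η[A].left (Over.w η[A]) U).trans ?_
        show _ = (lift (1 : AΩ ⟶ AΩ) (𝟙 AΩ) ≫ snd AΩ AΩ).left
        rw [lift_snd]
        rfl
    rw [e]
    exact hleft AΩ (𝟙 AΩ)
  have hcM : AbDual.IsPicZeroCl A.hom U cM := by
    refine isPicZeroCl_of_family A.hom t AΩ.hom cM (PicLoc.isInvertibleCl_pullCl _ hN') η[AΩ].left (Over.w η[AΩ]) ?_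
    let κ : PicF.XT A.hom (Over.mk t) ⟶ AΩ.left := 𝟙 _
    have e : PicF.XTmap A.hom (ptHom t AΩ.hom η[AΩ].left (Over.w η[AΩ])) ≫ i.inv =
        κ ≫ (lift (𝟙 AΩ) (1 : AΩ ⟶ AΩ)).left := by
      have hl : (lift (𝟙 AΩ) (1 : AΩ ⟶ AΩ)).left ≫ (fst AΩ AΩ).left = 𝟙 _ := by
        rw [← Over.comp_left, lift_fst]; rfl
      have hr : (lift (𝟙 AΩ) (1 : AΩ ⟶ AΩ)).left ≫ (snd AΩ AΩ).left = AΩ.hom ≫ η[AΩ].left := by
        rw [← Over.comp_left, lift_snd, Hom.one_def, Over.comp_left, Over.toUnit_left]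
      apply pullback.hom_ext
      · apply pullback.hom_ext
        · rw [Category.assoc, Category.assoc]
          refine (congrArg (PicF.XTmap A.hom _ ≫ ·) hifst).trans ((XTmap_fst A.hom _).trans ?_)
          rw [Category.id_comp]
          show _ = (lift (𝟙 AΩ) (1 : AΩ ⟶ AΩ)).left ≫ (fst AΩ AΩ).left ≫ pullback.fst A.hom t
          rw [reassoc_of% hl]
          rfl
        · rw [Category.assoc, Category.assoc]
          refine (congrArg (PicF.XTmap A.hom _ ≫ ·) hihom).trans ?_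
          rw [Category.id_comp]
          show _ = (lift (𝟙 AΩ) (1 : AΩ ⟶ AΩ)).left ≫ (fst AΩ AΩ).left ≫ AΩ.hom
          rw [reassoc_of% hl]
          refine (reassoc_of% (XTmap_snd A.hom (ptHom t AΩ.hom η[AΩ].left (Over.w η[AΩ])))) AΩ.hom |>.trans ?_
          show pullback.snd A.hom t ≫ η[AΩ].left ≫ AΩ.hom = _
          rw [Over.w η[AΩ]]
          exact Category.comp_id _
      · rw [Category.assoc]
        refine (congrArg (PicF.XTmap A.hom _ ≫ ·) hisnd).trans ((XTmap_snd A.hom _).trans ?_)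
        rw [Category.id_comp]
        exact hr.symm
    rw [← PicLoc.pullCl_comp, e, PicLoc.pullCl_comp, hright]
    exact pullCl_oneCl _
  have hφM : φ U cM = j ≫ lam := by
    ext1
    have := congrArg (fun h : AΩ ⟶ Red.bc t At => h.left ≫ pullback.fst At.hom t) hφN
    simp only [AgPol.bcDual] at this
    erw [pullback.lift_fst] at this
    refine this.trans ?_
    show pullback.lift (pullback.fst A.hom t ≫ lam.left) (pullback.snd A.hom t) _ ≫ _ = _
    exact pullback.lift_fst _ _ _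
  have h1 : PicF.pullCl (PicF.XTmap A.hom j) (lamCl ξ lam) = cM := by
    have e : lamCl ξ lam = PicF.pullCl (PicF.XTmap A.hom lam) ξ := (bil_whiskerLeft ξ lam).symm
    rw [e]
    refine eq_of_map_eq hA (isPicZeroCl_XTmap _ _ (isPicZeroCl_XTmap _ _ hξ.1)) hcM ?_ hrig ?_
    · refine rig_pullCl j _ ?_
      rw [rig_pullCl lam ξ ((congrArg _ hξ.2.2).trans (pullCl_oneCl _))]
      exact pullCl_oneCl _
    · rw [hA.relPic.natural A U j _ (isPicZeroCl_XTmap _ _ hξ.1), hA.relPic.natural At A lam ξ hξ.1, hξ.2.1,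
        Category.comp_id, hφM]
  let sw : PicF.XT A.hom U ⟶ PicF.XT A.hom U := i.inv ≫ (lift (snd AΩ AΩ) (fst AΩ AΩ)).left ≫ i.hom
  have hsw : PicF.pullCl sw cM = cM := by
    rw [show cM = PicF.pullCl i.inv (PicF.cl N) from rfl, ← PicLoc.pullCl_comp]
    show PicF.pullCl ((i.inv ≫ _ ≫ i.hom) ≫ i.inv) _ = _
    rw [Category.assoc, Category.assoc, i.hom_inv_id, Category.comp_id, PicLoc.pullCl_comp, hswap]
  have hmor : PicF.XTmap A.hom j ≫ (lift (snd A A) (fst A A)).left = sw ≫ PicF.XTmap A.hom j := by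
    have hl1 : (lift (snd AΩ AΩ) (fst AΩ AΩ)).left ≫ (fst AΩ AΩ).left = (snd AΩ AΩ).left := by
      rw [← Over.comp_left, lift_fst]
    have hl2 : (lift (snd AΩ AΩ) (fst AΩ AΩ)).left ≫ (snd AΩ AΩ).left = (fst AΩ AΩ).left := by
      rw [← Over.comp_left, lift_snd]
    have h1 : i.hom ≫ pullback.fst A.hom U.hom = (fst AΩ AΩ).left ≫ pullback.fst A.hom t := by
      rw [← hifst, i.hom_inv_id_assoc]
    have h2 : i.hom ≫ pullback.snd A.hom U.hom = (snd AΩ AΩ).left := by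
      rw [← hisnd, i.hom_inv_id_assoc]
    apply pullback.hom_ext
    · rw [Category.assoc, Category.assoc, XTmap_fst]
      show _ ≫ (lift (snd A A) (fst A A) ≫ fst A A).left = (i.inv ≫ _ ≫ i.hom) ≫ _
      rw [lift_fst, Category.assoc, Category.assoc, h1, reassoc_of% hl1, reassoc_of% hisnd]
      exact XTmap_snd A.hom j
    · rw [Category.assoc, Category.assoc, XTmap_snd]
      show _ ≫ (lift (snd A A) (fst A A) ≫ snd A A).left = (i.inv ≫ _ ≫ i.hom) ≫ _
      rw [lift_snd, Category.assoc, Category.assoc, reassoc_of% h2, reassoc_of% hl2]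
      exact (XTmap_fst A.hom j).trans hifst.symm
  have hUU : PicF.pullCl (PicF.XTmap A.hom j) (lamCl' ξ lam) = PicF.pullCl (PicF.XTmap A.hom j) (lamCl ξ lam) := by
    rw [← swap_lamCl ξ lam]
    erw [← PicLoc.pullCl_comp]
    rw [hmor, PicLoc.pullCl_comp, h1, hsw]
  let b : AbDual.ovr A a ⟶ U := Over.homMk (pullback.lift a (𝟙 _) (Category.id_comp _).symm) (by
    show pullback.lift a (𝟙 _) _ ≫ pullback.snd A.hom t ≫ t = _
    rw [pullback.lift_snd_assoc, Category.id_comp]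
    rfl)
  have hb : AbDual.ovrHom A a = b ≫ j := by
    ext1
    exact (pullback.lift_fst _ _ _).symm
  rw [hb, XTmap_comp, PicLoc.pullCl_comp, PicLoc.pullCl_comp, hUU]

/-- The transposed class lies in Pic⁰. -/
theorem isPicZeroCl_lamCl' [IsCommMonObj A] (hA : AbDual.IsDualAV Scheme.fppfPrecoverage A At φ)
    {ξ : PicF.Cl (PicF.XT A.hom At)} (hξ : AbDual.IsPoincareCl A At φ ξ) (lam : A ⟶ At)
    (hpol : AgPol.IsPolarization A At φ lam) : AbDual.IsPicZeroCl A.hom A (lamCl' ξ lam) := by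
  have h1 : AbDual.IsPicZeroCl A.hom A (lamCl ξ lam) := by
    rw [lamCl, ← bil_whiskerLeft]
    exact isPicZeroCl_XTmap _ _ hξ.1
  obtain ⟨L, hL, hLinv, hfib⟩ := h1
  obtain ⟨L', hL'⟩ := cl_surjective (lamCl' ξ lam)
  refine ⟨L', hL', isInvertible_of_isInvertibleCl (hL' ▸ PicLoc.isInvertibleCl_pullCl _
    (isInvertibleCl_of_isPicZeroCl hξ.1)), fun t Ω _ _ τ hτ => ?_⟩
  let e : pullback (PicF.XTproj A.hom A) τ ⟶ PicF.XT A.hom (AbDual.ovr A τ) :=
    pullback.lift (pullback.fst _ τ ≫ pullback.fst A.hom A.hom) (pullback.snd _ τ) (by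
      rw [Category.assoc, pullback.condition, pullback.condition_assoc]
      rfl)
  have he : e ≫ PicF.XTmap A.hom (AbDual.ovrHom A τ) = pullback.fst (PicF.XTproj A.hom A) τ := by
    apply pullback.hom_ext
    · rw [Category.assoc, XTmap_fst, pullback.lift_fst]
    · rw [Category.assoc, XTmap_snd, pullback.lift_snd_assoc]
      exact (pullback.condition (f := PicF.XTproj A.hom A) (g := τ)).symm
  have key : PicF.pullCl (pullback.fst (PicF.XTproj A.hom A) τ) (PicF.cl L') =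
      PicF.pullCl (pullback.fst (PicF.XTproj A.hom A) τ) (PicF.cl L) := by
    rw [← he, PicLoc.pullCl_comp, PicLoc.pullCl_comp, hL', hL, lamCl_symm_at hA hξ lam hpol τ]
  letI : (pullback (PicF.XTproj A.hom A) τ).Over (Spec (CommRingCat.of Ω)) :=
    ⟨pullback.snd (PicF.XTproj A.hom A) τ⟩
  obtain ⟨P, p, h1, h2, h3, M, hM, a, a₀, ha, ha₀, ⟨ψ⟩, h4⟩ := hfib t Ω τ hτ
  exact ⟨P, p, h1, h2, h3, M, hM, a, a₀, ha, ha₀, ⟨ψ ≪≫ ((PicGrp.cl_eq_cl_iff _ _).1 key.symm).some⟩, h4⟩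

/-- A polarisation is symmetric. -/
theorem map_lamCl' [IsCommMonObj A] [IsCommMonObj At] (hA : AbDual.IsDualAV Scheme.fppfPrecoverage A At φ)
    {ξ : PicF.Cl (PicF.XT A.hom At)} (hξ : AbDual.IsPoincareCl A At φ ξ) (lam : A ⟶ At)
    (hpol : AgPol.IsPolarization A At φ lam) : φ A (lamCl' ξ lam) = lam := by
  have h1 : AbDual.IsPicZeroCl A.hom A (lamCl ξ lam) := by
    rw [lamCl, ← bil_whiskerLeft]
    exact isPicZeroCl_XTmap _ _ hξ.1
  have h2 := isPicZeroCl_lamCl' hA hξ lam hpol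
  have h1v : φ A (lamCl ξ lam) = lam := by
    rw [lamCl, ← bil_whiskerLeft, hA.relPic.natural At A lam ξ hξ.1, hξ.2.1, Category.comp_id]
  set lam' := φ A (lamCl' ξ lam) with hlam'
  haveI : IsMonHom lam := hpol.1
  have hv1 : η[A] ≫ lam' = η[A] ≫ lam := by
    have hl : PicF.pullCl (PicF.XTmap A.hom η[A]) (lamCl' ξ lam) = oneCl _ := by
      rw [XTmap_eq_whiskerLeft]
      erw [pullCl_bil]
      rw [whiskerLeft_snd, whiskerLeft_fst_assoc, show snd A (𝟙_ (Over S)) ≫ η[A] = 1 by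
        rw [Hom.one_def]; congr 1; exact toUnit_unique _ _]
      exact bil_one_left hξ _
    rw [hlam', ← hA.relPic.natural A _ η[A] _ h2, hl, map_oneCl hA, IsMonHom.one_hom, Hom.one_def,
      toUnit_unit, Category.id_comp]
  let d := lam' * lam⁻¹
  have hd : ∀ {Ω : Type u} [Field Ω] [IsAlgClosed Ω] (a : Spec (CommRingCat.of Ω) ⟶ A.left),
      AbDual.ovrHom A a ≫ d = 1 := by
    intro Ω _ _ a
    rw [MonObj.comp_mul, GrpObj.comp_inv, mul_inv_eq_one, hlam', ← hA.relPic.natural A _ _ _ h2,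
      lamCl_symm_at hA hξ lam hpol a, hA.relPic.natural A _ _ _ h1, h1v]
  have hval : ∀ x, d.left x = η[At].left (A.hom x) := by
    intro x
    obtain ⟨Ω, _, _, a, ha⟩ := exists_geomPoint x
    obtain ⟨pt⟩ : Nonempty ↥(Spec (CommRingCat.of Ω)) := inferInstance
    have h := congrArg (fun m : AbDual.ovr A a ⟶ At => m.left pt) (hd a)
    rw [Hom.one_def] at h
    simp only [Over.comp_left, Over.toUnit_left, Scheme.Hom.comp_apply] at h
    show d.left x = _
    refine Eq.trans ?_ (h.trans ?_)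
    · rw [← ha pt]; rfl
    · rw [← ha pt]; rfl
  have : Surjective A.hom := inferInstance
  obtain ⟨s, hs, hds⟩ := AV.exists_section_of_collapsed_univ A.hom fibConst_abelian At.hom d.left (Over.w d)
    (Set.eq_univ_of_forall fun t x x' hx hx' => by rw [hval, hval, hx, hx'])
  have hd1 : η[A] ≫ d = 1 := by
    rw [MonObj.comp_mul, GrpObj.comp_inv, hv1, mul_inv_cancel]
  have : d = 1 := by
    ext1
    have hs' : s = η[At].left := by
      have := congrArg CommaMorphism.left hd1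
      change η[A].left ≫ d.left = ((1 : 𝟙_ (Over S) ⟶ At)).left at this
      rw [hds, ← Category.assoc, Over.w η[A], Hom.one_def, toUnit_unit, Category.id_comp] at this
      exact (Category.id_comp s).symm.trans this
    rw [hds, hs', Hom.one_def, Over.comp_left, Over.toUnit_left]
  exact mul_inv_eq_one.1 this

end Poincare

end Groth.Agent.AbDualLib
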