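/-
The homomorphism attached to an ample module is an isogeny.
-/
import Groth.Agent.L00.TransIsog
import Groth.Agent.L26.KL.Finite
import Groth.Agent.L26.Pic0.AlgEquiv
import Groth.Agent.L26.Poincare.Pairing
import Groth.Agent.L18.AmpleOps
import Groth.Agent.L26.KL.Exists
import Groth.Agent.S19775

set_option autoImplicit false
set_option linter.style.haveILetI false
set_option backward.isDefEq.respectTransparency false
set_option backward.isDefEq.respectTransparency.types false

universe u

open CategoryTheory CategoryTheory.Limits MonoidalCategory CartesianMonoidalCategory MonObj GrpObj AlgebraicGeometry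
open Groth.Agent.AV Groth.Agent.AbDualLib Groth.Agent.Poincare Groth.Agent.Poincare.Rosati DegreeForm
open Groth.L08.Cube (trK exists_inverseCl)

noncomputable section

namespace Groth.Agent.LamSurj

attribute [local instance] Groth.L08.Cube.clMonoid InterPic.picLaw

variable {k : Type u} [Field k] {A At : Over (Spec (CommRingCat.of k))}
  [GrpObj A] [IsCommMonObj A] [IsProper A.hom] [GeometricallyIntegral A.hom]

/-- The defining relation of the Mumford class. -/
theorem mumCl_spec (M : A.left.Modules) (hM : PicF.IsInvertible M) :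
    (Pairing.mumCl M hM : PicF.Cl (A ⊗ A).left) * PicF.pullCl (fst A A).left (PicF.cl M) *
        PicF.pullCl (snd A A).left (PicF.cl M) = PicF.pullCl μ[A].left (PicF.cl M) := by
  have h := congrArg (fun z => (Additive.toMul z).1) (F_mul M hM (fst A A) (snd A A))
  change PicF.pullCl (fst A A * snd A A).left (PicF.cl M) =
    PicF.pullCl (fst A A).left (PicF.cl M) * PicF.pullCl (snd A A).left (PicF.cl M) * Pairing.mumCl M hM at h
  rw [show fst A A * snd A A = μ[A] by rw [show fst A A * snd A A = lift (fst A A) (snd A A) ≫ μ[A] from rfl,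
    lift_fst_snd, Category.id_comp]] at h
  rw [h, _root_.mul_assoc, _root_.mul_comm]

/-- The homomorphism of a module is attached to it. -/
theorem isLambda_lamOf (φ : AgPol.DualMap A At) (M : A.left.Modules) (hM : PicF.IsInvertible M) :
    AgPol.IsLambda A At φ M (Pairing.lamOf φ M hM) := by
  obtain ⟨N, hN⟩ := cl_surjective (Pairing.mumCl M hM)
  refine ⟨N, isInvertible_of_isInvertibleCl (hN ▸ (Orth.bil M hM (fst A A) (snd A A)).toMul.2),
    (PicGrp.cl_eq_cl_iff _ _).1 ?_, by rw [hN]⟩
  show (PicF.cl N : PicF.Cl (A ⊗ A).left) * PicF.pullCl (fst A A).left (PicF.cl M) *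
    PicF.pullCl (snd A A).left (PicF.cl M) = PicF.pullCl μ[A].left (PicF.cl M)
  rw [hN, mumCl_spec]

variable [GrpObj At] [IsProper At.hom] [GeometricallyIntegral At.hom]

theorem mum_eq {Y : Scheme.{u}} (m a n t : PicF.Cl Y) (h : m * a = t) (han : a * n = 1) : m = t * n := by
  rw [← h, _root_.mul_assoc, han, _root_.mul_one]

/-- The homomorphism of an ample module is surjective. -/
theorem surjective_lamOf {φ : AgPol.DualMap A At} (hA : AbDual.IsDualAV Scheme.fppfPrecoverage A At φ)
    (M : A.left.Modules) (hMa : CohB1.IsAmple M) :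
    Surjective (Pairing.lamOf φ M hMa.1).left := ⟨fun a => by
  haveI : Smooth A.hom :=
    haveI : GrpObj (Over.mk A.hom) := inferInstanceAs (GrpObj A)
    smooth_of_grpObj A.hom
  haveI : GeometricallyConnected A.hom := Isogeny.geometricallyConnected A.hom
  obtain ⟨Ω, _, _, p, hp⟩ := exists_geomPoint a
  let σ := p ≫ At.hom
  let y : Over.mk σ ⟶ At := Over.homMk p rfl
  obtain ⟨c, hc, hy⟩ := Groth.L00.TransIsog.exists_class hA σ y
  let X := Red.bc σ A
  haveI : IsProper X.hom := inferInstanceAs (IsProper (pullback.snd A.hom σ))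
  haveI : GeometricallyIntegral X.hom := inferInstanceAs (GeometricallyIntegral (pullback.snd A.hom σ))
  haveI : IsCommMonObj X := isCommMonObj_of_isProper_of_geometricallyIntegral X
  let pr : X.left ⟶ A.left := pullback.fst A.hom σ
  -- the class is translation invariant
  obtain ⟨L, hL, hLi, hfib⟩ := hc
  haveI : Subsingleton ↥(Spec (CommRingCat.of Ω)) := inferInstanceAs (Subsingleton (PrimeSpectrum Ω))
  have hr : Set.range (𝟙 (Spec (CommRingCat.of Ω)) : Spec (CommRingCat.of Ω) ⟶ _).base = {IsLocalRing.closedPoint Ω} :=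
    Set.ext fun z => ⟨fun _ => Subsingleton.elim z _, fun h => ⟨z, rfl⟩⟩
  have hk := hfib (IsLocalRing.closedPoint Ω) Ω (𝟙 (Spec (CommRingCat.of Ω))) hr
  let e : X.left ⟶ pullback (PicF.XTproj A.hom (Over.mk σ)) (𝟙 (Spec (CommRingCat.of Ω))) :=
    pullback.lift (𝟙 X.left) X.hom (by rw [Category.id_comp, Category.comp_id]; rfl)
  have key := @isAlgEquivZero_pullback Ω _ _ _ ⟨pullback.snd _ _⟩ ⟨X.hom⟩ e (pullback.lift_snd _ _ _) _ hk
  have hfix := Groth.Agent.Pic0.fixed_of_algEquiv (A := X) _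
    (Groth.L18.Ample.isInvertible_pullback _ (Groth.L18.Ample.isInvertible_pullback _ hLi)) key
  -- Mumford
  haveI : IsAffineHom pr := MorphismProperty.pullback_fst A.hom σ inferInstance
  have hMX : CohB1.IsAmple ((Scheme.Modules.pullback pr).obj M) := Groth.L18.Ample.isAmple_pullback_of_isAffineHom pr hMa
  obtain ⟨b, ⟨N, rfl, hN⟩, hMN⟩ := exists_inverseCl (⟨_, rfl, hMX.1⟩ : PicF.IsInvertibleCl (PicF.cl ((Scheme.Modules.pullback pr).obj M)))
  obtain ⟨x, hx⟩ := Groth.Agent.Pic0.exists_translate_of_isAmple (A := X) _ N _ hMX hN hMN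
    (Groth.L18.Ample.isInvertible_pullback _ (Groth.L18.Ample.isInvertible_pullback _ hLi)) hfix
  have hce : PicF.cl ((Scheme.Modules.pullback e).obj ((Scheme.Modules.pullback
      (pullback.fst (PicF.XTproj A.hom (Over.mk σ)) (𝟙 (Spec (CommRingCat.of Ω))))).obj L)) = c := by
    show PicF.pullCl e (PicF.pullCl _ (PicF.cl L)) = c
    rw [← PicLoc.pullCl_comp, pullback.lift_fst, ← hL]
    exact PicLoc.pullCl_id _
  rw [hce] at hx
  let x' : Over.mk σ ⟶ A := Over.homMk (x.left ≫ pr) (by
    show (x.left ≫ pr) ≫ A.hom = σ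
    rw [Category.assoc, pullback.condition, ← Category.assoc]
    exact (congrArg (· ≫ σ) (Over.w x)).trans (Category.id_comp _))
  have hval : PicF.pullCl (PicF.XTmap A.hom x') (Pairing.mumCl M hMa.1) = c := by
    have h := congrArg (PicF.pullCl (A ◁ x').left) (mumCl_spec M hMa.1)
    rw [Groth.L08.Cube.pullCl_mul, Groth.L08.Cube.pullCl_mul] at h
    erw [pullCl_left_comp (A ◁ x') (fst A A), pullCl_left_comp (A ◁ x') (snd A A), pullCl_left_comp (A ◁ x') μ[A]] at h
    rw [whiskerLeft_fst, whiskerLeft_snd, KLLib.whiskerLeft_comp_mul] at h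
    rw [XTmap_eq_whiskerLeft]
    have e1 : PicF.pullCl (snd A (Over.mk σ) ≫ x').left (PicF.cl M) = 1 := by
      haveI : Subsingleton ↥(Over.mk σ).left := inferInstanceAs (Subsingleton ↥(Spec (CommRingCat.of Ω)))
      rw [Over.comp_left, PicLoc.pullCl_comp,
        eq_oneCl_of_subsingleton (PicLoc.isInvertibleCl_pullCl x'.left ⟨M, rfl, hMa.1⟩)]
      exact pullCl_oneCl _
    have e2 : (fst A (Over.mk σ) * (snd A (Over.mk σ) ≫ x') : A ⊗ Over.mk σ ⟶ A).left = (trK x).left ≫ pr := by
      let id' : Over.mk (X.hom ≫ σ) ⟶ A := KLFinite.down σ (𝟙 X)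
      have h1 : (KLFinite.down σ (trK x) : _ ⟶ A) = KLFinite.down σ (𝟙 X) * KLFinite.down σ (toUnit X ≫ x) :=
        KLFinite.down_mul σ _ _
      let w : A ⊗ Over.mk σ ⟶ Over.mk (X.hom ≫ σ) := Over.homMk (𝟙 X.left) (by
        exact (Category.id_comp _).trans (Over.w (snd A (Over.mk σ))))
      have h2 : w ≫ KLFinite.down σ (trK x) = fst A (Over.mk σ) * (snd A (Over.mk σ) ≫ x') := by
        rw [h1, MonObj.comp_mul]
        refine congrArg₂ (· * ·) (Over.OverMorphism.ext ?_) (Over.OverMorphism.ext ?_)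
        · show 𝟙 _ ≫ 𝟙 _ ≫ pr = _
          rw [Category.id_comp, Category.id_comp]; rfl
        · show 𝟙 _ ≫ ((toUnit X).left ≫ x.left) ≫ pr = _ ≫ x.left ≫ pr
          rw [Category.id_comp, Category.assoc]; rfl
      rw [← h2]
      exact Category.id_comp _
    rw [e1, _root_.mul_one, e2, PicLoc.pullCl_comp] at h
    rw [hx]
    exact mum_eq (Y := X.left) _ _ _ _ h hMN
  refine ⟨x'.left (IsLocalRing.closedPoint Ω), ?_⟩
  have hl : x' ≫ Pairing.lamOf φ M hMa.1 = y := by
    rw [← hA.relPic.natural A (Over.mk σ) x' _ (Pairing.isPicZeroCl_mumCl M hMa.1), hval, hy]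
  rw [← Scheme.Hom.comp_apply, ← Over.comp_left, hl]
  exact hp _⟩

/-- The kernel of the homomorphism of an ample module is finite. -/
theorem exists_kernel {φ : AgPol.DualMap A At} (hA : AbDual.IsDualAV Scheme.fppfPrecoverage A At φ)
    (M : A.left.Modules) (hMa : CohB1.IsAmple M) :
    ∃ (K : Over (Spec (CommRingCat.of k))) (i : K ⟶ A), ThetaGrp.IsKL A M i ∧ IsFinite K.hom ∧
      AlgGrp.IsKernel i (Pairing.lamOf φ M hMa.1) := by
  haveI : Smooth A.hom :=
    haveI : GrpObj (Over.mk A.hom) := inferInstanceAs (GrpObj A)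
    smooth_of_grpObj A.hom
  haveI : GeometricallyConnected A.hom := Isogeny.geometricallyConnected A.hom
  obtain ⟨K, i, hK⟩ := KLLib.exists_isKL k A M hMa.1
  exact ⟨K, i, hK, KLFinite.isFinite M (Groth.L18.Ample.isRelAmple_of_isAmple hMa) hMa.1 K i hK,
    Groth.Agent.S19775.result k A At φ hA M hMa.1 _ (isLambda_lamOf φ M hMa.1) K i hK⟩

end Groth.Agent.LamSurj
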