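/-
Existence of transposes.
-/
import Groth.Agent.L26.AbDual.Additive
import Groth.Prelude.Def_AgPol

set_option autoImplicit false
set_option linter.style.haveILetI false
set_option backward.isDefEq.respectTransparency false
set_option backward.isDefEq.respectTransparency.types false

universe u

open CategoryTheory CategoryTheory.Limits MonoidalCategory CartesianMonoidalCategory MonObj GrpObj AlgebraicGeometry
open Groth.Agent.AbDualLib

noncomputable section

namespace Groth.Agent.AbDualTr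

variable {S : Scheme.{u}} {A B At Bt : Over S} [GrpObj At] [GrpObj Bt]
  {φA : AgPol.DualMap A At} {φB : AgPol.DualMap B Bt}
  (hA : AbDual.IsDualAV Scheme.fppfPrecoverage A At φA) (hB : AbDual.IsDualAV Scheme.fppfPrecoverage B Bt φB)
  (f : A ⟶ B)

theorem bc_XT {T T' : Over S} (j : T' ⟶ T) :
    PicF.XTmap A.hom j ≫ AbDual.bcMap f T = AbDual.bcMap f T' ≫ PicF.XTmap B.hom j := by
  apply pullback.hom_ext <;> simp [PicF.XTmap, AbDual.bcMap]

include hA hB

/-- Classes with the same point have pullbacks with the same point. -/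
theorem agree {W : Over S} {c c' : PicF.Cl (PicF.XT B.hom W)} (hc : AbDual.IsPicZeroCl B.hom W c)
    (hc' : AbDual.IsPicZeroCl B.hom W c') (h : φB W c = φB W c') :
    φA W (PicF.pullCl (AbDual.bcMap f W) c) = φA W (PicF.pullCl (AbDual.bcMap f W) c') := by
  obtain ⟨R, hR, hs⟩ := hB.relPic.locallyInjective W c c' hc hc' h
  refine Over.OverMorphism.ext (hom_ext_of_mem hR fun U u hu => ?_)
  have e : ∀ d, AbDual.IsPicZeroCl B.hom W d →
      AbDual.ovrHom W u ≫ φA W (PicF.pullCl (AbDual.bcMap f W) d) =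
        φA (AbDual.ovr W u) (PicF.pullCl (AbDual.bcMap f _) (PicF.pullCl (PicF.XTmap B.hom (AbDual.ovrHom W u)) d)) :=
    fun d hd => by
      rw [← hA.relPic.natural W _ _ _ (isPicZeroCl_bcMap f W hd), ← PicLoc.pullCl_comp, ← PicLoc.pullCl_comp,
        bc_XT]
  have := (e c hc).trans ((congrArg (fun d => φA _ (PicF.pullCl (AbDual.bcMap f _) d)) (hs u hu)).trans (e c' hc').symm)
  exact congrArg CommaMorphism.left this

/-- The transpose of a morphism exists. -/
theorem exists_transpose : ∃ ft : Bt ⟶ At, AbDual.IsTranspose f φA φB ft := by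
  obtain ⟨R, hR, hs⟩ := hB.relPic.locallySurjective Bt (𝟙 Bt)
  choose c hc hce using fun (U : Scheme.{u}) (u : U ⟶ Bt.left) (hu : R u) => hs u hu
  have hsheaf : Presieve.IsSheafFor (CategoryTheory.yoneda.obj At.left) R := by
    rw [Presieve.isSheafFor_iff_generate]
    exact GrothendieckTopology.Subcanonical.isSheaf_of_isRepresentable (J := Scheme.fppfTopology)
      (CategoryTheory.yoneda.obj At.left) _ (Scheme.fppfPrecoverage.generate_mem_toGrothendieck hR)
  let m : ∀ (U : Scheme.{u}) (u : U ⟶ Bt.left), R u → (AbDual.ovr Bt u ⟶ At) := fun U u hu =>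
    φA _ (PicF.pullCl (AbDual.bcMap f _) (c U u hu))
  have hpull : ∀ {W : Over S} {U : Scheme.{u}} (u : U ⟶ Bt.left) (hu : R u) (a : W ⟶ AbDual.ovr Bt u),
      φB W (PicF.pullCl (PicF.XTmap B.hom a) (c U u hu)) = a ≫ AbDual.ovrHom Bt u ∧
      a ≫ m U u hu = φA W (PicF.pullCl (AbDual.bcMap f W) (PicF.pullCl (PicF.XTmap B.hom a) (c U u hu))) :=
    fun {W U} u hu a => by
      refine ⟨?_, ?_⟩
      · rw [hB.relPic.natural _ _ a _ (hc U u hu), hce, Category.comp_id]
      · rw [← hA.relPic.natural _ _ a _ (isPicZeroCl_bcMap f _ (hc U u hu)), ← PicLoc.pullCl_comp,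
          ← PicLoc.pullCl_comp, bc_XT]
  let fam : Presieve.FamilyOfElements (CategoryTheory.yoneda.obj At.left) R := fun U u hu => (m U u hu).left
  have hfam : fam.Compatible := by
    intro Z₁ Z₂ W g₁ g₂ u₁ u₂ h₁ h₂ hw
    let W' : Over S := AbDual.ovr Bt (g₁ ≫ u₁)
    let a₁ : W' ⟶ AbDual.ovr Bt u₁ := Over.homMk g₁ (by
      show g₁ ≫ u₁ ≫ Bt.hom = (g₁ ≫ u₁) ≫ Bt.hom
      rw [Category.assoc])
    let a₂ : W' ⟶ AbDual.ovr Bt u₂ := Over.homMk g₂ (by
      show g₂ ≫ u₂ ≫ Bt.hom = (g₁ ≫ u₁) ≫ Bt.hom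
      rw [hw, Category.assoc])
    obtain ⟨p₁, q₁⟩ := hpull u₁ h₁ a₁
    obtain ⟨p₂, q₂⟩ := hpull u₂ h₂ a₂
    have e := agree hA hB f (isPicZeroCl_XTmap _ a₁ (hc _ u₁ h₁)) (isPicZeroCl_XTmap _ a₂ (hc _ u₂ h₂))
      (p₁.trans (Eq.trans (Over.OverMorphism.ext (by show g₁ ≫ u₁ = g₂ ≫ u₂; exact hw)) p₂.symm))
    exact congrArg CommaMorphism.left (q₁.trans (e.trans q₂.symm))
  let ft0 : Bt.left ⟶ At.left := hsheaf.amalgamate fam hfam
  have hval : ∀ (U : Scheme.{u}) (u : U ⟶ Bt.left) (hu : R u), u ≫ ft0 = (m U u hu).left :=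
    fun U u hu => hsheaf.valid_glue hfam u hu
  let ft : Bt ⟶ At := Over.homMk ft0 (hom_ext_of_mem hR fun U u hu => by
    rw [← Category.assoc, hval U u hu]; exact Over.w (m U u hu))
  refine ⟨ft, fun T d hd => Over.OverMorphism.ext ?_⟩
  have hsep : Presieve.IsSheafFor (CategoryTheory.yoneda.obj At.left)
      ((Sieve.generate R).pullback (φB T d).left : Presieve T.left) :=
    GrothendieckTopology.Subcanonical.isSheaf_of_isRepresentable (J := Scheme.fppfTopology)
      (CategoryTheory.yoneda.obj At.left) _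
      (Scheme.fppfTopology.pullback_stable _ (Scheme.fppfPrecoverage.generate_mem_toGrothendieck hR))
  refine hsep.isSeparatedFor.ext fun W k hk => ?_
  obtain ⟨U, l, u, hu, hlu⟩ := hk
  show k ≫ (φA T (PicF.pullCl (AbDual.bcMap f T) d)).left = k ≫ (φB T d ≫ ft).left
  let W' : Over S := AbDual.ovr T k
  let kk : W' ⟶ T := AbDual.ovrHom T k
  let a : W' ⟶ AbDual.ovr Bt u := Over.homMk l (by
    show l ≫ u ≫ Bt.hom = k ≫ T.hom
    rw [← Category.assoc, hlu, Category.assoc, Over.w])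
  obtain ⟨p, q⟩ := hpull u hu a
  have hpt : φB W' (PicF.pullCl (PicF.XTmap B.hom kk) d) = φB W' (PicF.pullCl (PicF.XTmap B.hom a) (c U u hu)) := by
    rw [p, hB.relPic.natural _ _ kk d hd]
    exact Over.OverMorphism.ext hlu.symm
  have e := agree hA hB f (isPicZeroCl_XTmap _ kk hd) (isPicZeroCl_XTmap _ a (hc U u hu)) hpt
  have e2 : kk ≫ φA T (PicF.pullCl (AbDual.bcMap f T) d) = a ≫ m U u hu := by
    rw [q, ← e, ← hA.relPic.natural _ _ kk _ (isPicZeroCl_bcMap f T hd), ← PicLoc.pullCl_comp, ← PicLoc.pullCl_comp,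
      bc_XT]
  refine (congrArg CommaMorphism.left e2).trans ?_
  show l ≫ (m U u hu).left = k ≫ (φB T d).left ≫ ft0
  rw [← hval U u hu, ← Category.assoc, hlu, Category.assoc]

end Groth.Agent.AbDualTr
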