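/-
The homomorphism attached to a pulled-back module.
-/
import Groth.Agent.L26.AbDual.LamSurj
import Groth.Agent.L26.AbDual.BaseChange
import Groth.Agent.L26.AbDual.DegreeTower
import Groth.Agent.L26.AbDual.Transpose
import Groth.Agent.L08.MulEtale

set_option autoImplicit false
set_option linter.style.haveILetI false
set_option backward.isDefEq.respectTransparency false
set_option backward.isDefEq.respectTransparency.types false

universe u

open CategoryTheory CategoryTheory.Limits MonoidalCategory CartesianMonoidalCategory MonObj GrpObj AlgebraicGeometry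
open Groth.Agent.AV Groth.Agent.AbDualLib Groth.Agent.Poincare

noncomputable section

namespace Groth.Agent.LamPull

attribute [local instance] Groth.L08.Cube.clMonoid InterPic.picLaw

section Field

variable {k : Type u} [Field k] {A At B Bt : Over (Spec (CommRingCat.of k))}
  [GrpObj A] [IsCommMonObj A] [IsProper A.hom] [GeometricallyIntegral A.hom]
  [GrpObj B] [IsCommMonObj B] [IsProper B.hom] [GeometricallyIntegral B.hom]
  {φA : AgPol.DualMap A At} {φB : AgPol.DualMap B Bt}

theorem bil_pullback (f : A ⟶ B) [IsMonHom f] (M : B.left.Modules) (hM : PicF.IsInvertible M)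
    (hL : PicF.IsInvertible ((Scheme.Modules.pullback f.left).obj M))
    {W : Over (Spec (CommRingCat.of k))} (x y : W ⟶ A) :
    Orth.bil ((Scheme.Modules.pullback f.left).obj M) hL x y = Orth.bil M hM (x ≫ f) (y ≫ f) := by
  have key : ∀ q : W ⟶ A, DegreeForm.F ((Scheme.Modules.pullback f.left).obj M) hL q = DegreeForm.F M hM (q ≫ f) :=
    fun q => Subtype.ext
      (show PicF.pullCl q.left (PicF.pullCl f.left (PicF.cl M)) = PicF.pullCl (q.left ≫ f.left) (PicF.cl M) from
        (PicLoc.pullCl_comp _ _ _).symm)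
  show DegreeForm.F _ hL (x * y) - DegreeForm.F _ hL x - DegreeForm.F _ hL y =
    DegreeForm.F M hM ((x ≫ f) * (y ≫ f)) - DegreeForm.F M hM (x ≫ f) - DegreeForm.F M hM (y ≫ f)
  rw [key, key, key, MonObj.mul_comp]

/-- `φ_{f^*M} = f^t φ_M f`. -/
theorem lamOf_pullback [GrpObj Bt] (hB : AbDual.IsDualAV Scheme.fppfPrecoverage B Bt φB)
    (f : A ⟶ B) [IsMonHom f] (ft : Bt ⟶ At) (hft : AbDual.IsTranspose f φA φB ft)
    (M : B.left.Modules) (hM : PicF.IsInvertible M)
    (hL : PicF.IsInvertible ((Scheme.Modules.pullback f.left).obj M)) :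
    Pairing.lamOf φA ((Scheme.Modules.pullback f.left).obj M) hL = f ≫ Pairing.lamOf φB M hM ≫ ft := by
  have h1 : f ≫ Pairing.lamOf φB M hM = φB A (PicF.pullCl (PicF.XTmap B.hom f) (Pairing.mumCl M hM)) :=
    (hB.relPic.natural B A f _ (Pairing.isPicZeroCl_mumCl M hM)).symm
  rw [← Category.assoc, h1, ← hft A _ (isPicZeroCl_XTmap _ f (Pairing.isPicZeroCl_mumCl M hM))]
  refine congrArg (φA A) ?_
  rw [← PicLoc.pullCl_comp]
  show (Orth.bil _ hL (fst A A) (snd A A)).toMul.1 = _
  rw [bil_pullback f M hM hL, ← Pairing.pullCl_mumCl]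
  refine congrArg (fun q => PicF.pullCl q (Pairing.mumCl M hM)) ?_
  apply pullback.hom_ext
  · show (lift (fst A A ≫ f) (snd A A ≫ f)).left ≫ (fst B B).left = _
    rw [← Over.comp_left, lift_fst, Category.assoc, XTmap_fst]
    exact (pullback.lift_fst _ _ _).symm
  · show (lift (fst A A ≫ f) (snd A A ≫ f)).left ≫ (snd B B).left = _
    rw [← Over.comp_left, lift_snd, Category.assoc, XTmap_snd, ← Category.assoc, bcMap_snd]
    rfl

/-- A transpose is a homomorphism. -/
theorem isMonHom_transpose [GrpObj At] [IsProper At.hom]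
    [GrpObj Bt] [IsProper Bt.hom] [GeometricallyIntegral Bt.hom]
    (hA : AbDual.IsDualAV Scheme.fppfPrecoverage A At φA) (hB : AbDual.IsDualAV Scheme.fppfPrecoverage B Bt φB)
    (f : A ⟶ B) (ft : Bt ⟶ At) (hft : AbDual.IsTranspose f φA φB ft) : IsMonHom ft := by
  refine isMonHom_of_one ft ?_
  have h := hft (𝟙_ _) (oneCl _) (isPicZeroCl_oneCl B.hom _)
  rw [pullCl_oneCl, map_oneCl hA, map_oneCl hB, Hom.one_def, Hom.one_def, toUnit_unit, Category.id_comp,
    Category.id_comp] at h
  exact h.symm

/-- The homomorphism of a module is a homomorphism. -/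
theorem isMonHom_lamOf [GrpObj Bt] [IsProper Bt.hom]
    (hB : AbDual.IsDualAV Scheme.fppfPrecoverage B Bt φB) (M : B.left.Modules) (hM : PicF.IsInvertible M) :
    IsMonHom (Pairing.lamOf φB M hM) := by
  refine isMonHom_of_one _ ?_
  rw [← hB.relPic.natural B _ η[B] _ (Pairing.isPicZeroCl_mumCl M hM), XTmap_eq_whiskerLeft, ← Orth.pb_val,
    Orth.pb_bil, whiskerLeft_fst, whiskerLeft_snd,
    show snd B (𝟙_ (Over (Spec (CommRingCat.of k)))) ≫ η[B] = 1 from by
      rw [Hom.one_def]; congr 1; exact toUnit_unique _ _, Orth.bil_one_right]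
  refine (map_oneCl hB _).trans ?_
  rw [Hom.one_def, toUnit_unit, Category.id_comp]

/-- The degree of a homomorphism between abelian varieties is constant. -/
theorem finrank_const (f : A ⟶ B) [IsFinite f.left] [Flat f.left] (y : ↥B.left) :
    Scheme.Hom.finrank f.left y = Scheme.Hom.finrank f.left (DegTower.one B) := by
  haveI : Subsingleton ↥(Spec (CommRingCat.of k)) := inferInstanceAs (Subsingleton (PrimeSpectrum k))
  haveI : GeometricallyConnected B.hom := Isogeny.geometricallyConnected B.hom
  haveI : ConnectedSpace ↥B.left := GeometricallyConnected.connectedSpace_of_subsingleton B.hom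
  haveI : IsLocallyNoetherian B.left := LocallyOfFiniteType.isLocallyNoetherian B.hom
  haveI : LocallyOfFiniteType (f.left ≫ B.hom) := by rw [Over.w]; infer_instance
  haveI : LocallyOfFinitePresentation f.left := LocallyOfFinitePresentation.iff_locallyOfFiniteType.2 inferInstance
  exact (Scheme.Hom.isLocallyConstant_finrank f.left).apply_eq_of_preconnectedSpace _ _

end Field

section BC

variable {S R : Scheme.{u}} (q : R ⟶ S) {A At B Bt : Over S}
  {φA : AgPol.DualMap A At} {φB : AgPol.DualMap B Bt}

/-- The base change of a transpose. -/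
theorem isTranspose_bc (f : A ⟶ B) (ft : Bt ⟶ At) (hft : AbDual.IsTranspose f φA φB ft) :
    AbDual.IsTranspose ((Over.pullback q).map f) (AgPol.bcDual q A At φA) (AgPol.bcDual q B Bt φB)
      ((Over.pullback q).map ft) := fun T c hc => by
  refine AbDualBC.down_injective q ?_
  rw [AbDualBC.down_bcDual, show AbDualBC.dnCl q A T (PicF.pullCl (AbDual.bcMap ((Over.pullback q).map f) T) c) =
    PicF.pullCl (AbDual.bcMap f (AbDualBC.dn q T)) (AbDualBC.dnCl q B T c) from ?_,
    hft _ _ (AbDualBC.isPicZeroCl_dnCl q B hc)]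
  · have e : ∀ g : T ⟶ Red.bc q Bt, KLFinite.down q (g ≫ (Over.pullback q).map ft) = KLFinite.down q g ≫ ft := fun g =>
      Over.OverMorphism.ext (by
        show (g.left ≫ ((Over.pullback q).map ft).left) ≫ pullback.fst At.hom q = (g.left ≫ pullback.fst Bt.hom q) ≫ ft.left
        rw [Category.assoc, Category.assoc]
        exact congrArg (g.left ≫ ·) (pullback.lift_fst _ _ _))
    rw [e, AbDualBC.down_bcDual]
  · rw [AbDualBC.dnCl, AbDualBC.dnCl, ← PicLoc.pullCl_comp, ← PicLoc.pullCl_comp]
    refine congrArg (fun g => PicF.pullCl g c) ?_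
    rw [Iso.inv_comp_eq, ← Category.assoc, Iso.eq_comp_inv]
    apply pullback.hom_ext
    · simp [AgPol.bcXTIso, AbDual.bcMap]
    · simp [AgPol.bcXTIso, AbDual.bcMap]

end BC

end Groth.Agent.LamPull
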