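/-
The pairing between the kernel of an isogeny and the kernel of its transpose.
-/
import Groth.Agent.L26.AbDual.LamPull
import Groth.Agent.L26.KL.Coeff
import Groth.Agent.L26.Theta.Kernel
import Groth.Agent.L26.AbDual.FunDescent
import Groth.Agent.S19949
import Groth.Agent.S19775
import Groth.Agent.S1843

set_option autoImplicit false
set_option linter.style.haveILetI false
set_option backward.isDefEq.respectTransparency false
set_option backward.isDefEq.respectTransparency.types false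

universe u

open CategoryTheory CategoryTheory.Limits MonoidalCategory CartesianMonoidalCategory MonObj GrpObj AlgebraicGeometry
open Groth.Agent.AV Groth.Agent.AbDualLib Groth.Agent.Poincare Groth.Agent.ThetaPairing
open Groth.Agent.ThetaSplit (pl)

noncomputable section

namespace Groth.Agent.WeilPairing

attribute [local instance] Groth.L08.Cube.clMonoid InterPic.picLaw

variable {k : Type u} [Field k]

/-- Coverings used for descent. -/
def IsCover {P Q : Over (Spec (CommRingCat.of k))} (π : P ⟶ Q) : Prop :=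
  Surjective π.left ∧ Flat π.left ∧ QuasiCompact π.left

theorem IsCover.comp {P Q R : Over (Spec (CommRingCat.of k))} {π : P ⟶ Q} {π' : Q ⟶ R} (h : IsCover π) (h' : IsCover π') :
    IsCover (π ≫ π') := by
  obtain ⟨h1, h2, h3⟩ := h
  obtain ⟨h1', h2', h3'⟩ := h'
  exact ⟨inferInstanceAs (Surjective (π.left ≫ π'.left)), inferInstanceAs (Flat (π.left ≫ π'.left)),
    inferInstanceAs (QuasiCompact (π.left ≫ π'.left))⟩

theorem IsCover.of_isPullback {P Q P' Q' : Over (Spec (CommRingCat.of k))} {π : P ⟶ Q} {a : P' ⟶ P} {π' : P' ⟶ Q'}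
    {b : Q' ⟶ Q} (hsq : IsPullback a π' π b) (h : IsCover π) : IsCover π' :=
  let hl := hsq.map (Over.forget _)
  ⟨MorphismProperty.of_isPullback (P := @Surjective) hl h.1, MorphismProperty.of_isPullback (P := @Flat) hl h.2.1,
    MorphismProperty.of_isPullback (P := @QuasiCompact) hl h.2.2⟩

theorem IsCover.whiskerRight {P Q : Over (Spec (CommRingCat.of k))} {π : P ⟶ Q} (h : IsCover π)
    (Z : Over (Spec (CommRingCat.of k))) : IsCover (π ▷ Z) := by
  refine h.of_isPullback (a := fst P Z) (b := fst Q Z) ⟨⟨(whiskerRight_fst _ _).symm⟩, ⟨?_⟩⟩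
  refine PullbackCone.IsLimit.mk _ (fun s => lift s.fst (s.snd ≫ snd Q Z)) (fun s => lift_fst _ _)
    (fun s => ?_) (fun s m h₁ h₂ => ?_)
  · refine CartesianMonoidalCategory.hom_ext _ _ ?_ ?_
    · rw [Category.assoc, whiskerRight_fst, lift_fst_assoc]
      exact s.condition
    · rw [Category.assoc, whiskerRight_snd, lift_snd]
  · refine CartesianMonoidalCategory.hom_ext _ _ (h₁.trans (lift_fst _ _).symm) ?_
    rw [lift_snd, ← h₂, Category.assoc, whiskerRight_snd]

theorem IsCover.whiskerLeft {P Q : Over (Spec (CommRingCat.of k))} {π : P ⟶ Q} (h : IsCover π)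
    (Z : Over (Spec (CommRingCat.of k))) : IsCover (Z ◁ π) := by
  refine h.of_isPullback (a := snd Z P) (b := snd Z Q) ⟨⟨(whiskerLeft_snd _ _).symm⟩, ⟨?_⟩⟩
  refine PullbackCone.IsLimit.mk _ (fun s => lift (s.snd ≫ fst Z Q) s.fst) (fun s => lift_snd _ _)
    (fun s => ?_) (fun s m h₁ h₂ => ?_)
  · refine CartesianMonoidalCategory.hom_ext _ _ ?_ ?_
    · rw [Category.assoc, whiskerLeft_fst, lift_fst]
    · rw [Category.assoc, whiskerLeft_snd, lift_snd_assoc]
      exact s.condition
  · refine CartesianMonoidalCategory.hom_ext _ _ ?_ (h₁.trans (lift_snd _ _).symm)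
    rw [lift_fst, ← h₂, Category.assoc, whiskerLeft_fst]

theorem IsCover.res_injective {P Q : Over (Spec (CommRingCat.of k))} {π : P ⟶ Q} (h : IsCover π) :
    Function.Injective (res π) := fun a b hab => by
  obtain ⟨h1, h2, h3⟩ := h
  obtain ⟨ma, hma⟩ := exists_lineFn (a : Γ(Q.left, ⊤))
  obtain ⟨mb, hmb⟩ := exists_lineFn (b : Γ(Q.left, ⊤))
  haveI : Epi π.left := Flat.epi_of_flat_of_surjective _
  refine Units.ext (hma.symm.trans ((congrArg lineFn ((cancel_epi π.left).1 (lineFn_injective ?_))).trans hmb))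
  rw [lineFn_comp, lineFn_comp, hma, hmb]
  exact congrArg Units.val hab

theorem IsCover.exists_desc {P Q : Over (Spec (CommRingCat.of k))} {π : P ⟶ Q} (h : IsCover π) (e : Γ(P.left, ⊤)ˣ)
    (he : ∀ (W : Over (Spec (CommRingCat.of k))) (g g' : W ⟶ P), g ≫ π = g' ≫ π → res g e = res g' e) :
    ∃ E : Γ(Q.left, ⊤)ˣ, res π E = e := by
  obtain ⟨h1, h2, h3⟩ := h
  have key : ∀ u : Γ(P.left, ⊤)ˣ, (∀ (W : Over (Spec (CommRingCat.of k))) (g g' : W ⟶ P), g ≫ π = g' ≫ π → res g u = res g' u) →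
      ∃ v : Γ(Q.left, ⊤), π.left.appTop v = (u : Γ(P.left, ⊤)) := fun u hu => by
    obtain ⟨m, hm⟩ := exists_lineFn (u : Γ(P.left, ⊤))
    let d : Q.left ⟶ line.{u} := EffectiveEpi.desc π.left m fun {W} g₁ g₂ hg => by
      refine lineFn_injective ?_
      rw [lineFn_comp, lineFn_comp, hm]
      let Wo : Over (Spec (CommRingCat.of k)) := Over.mk (g₁ ≫ P.hom)
      let a₁ : Wo ⟶ P := Over.homMk g₁ rfl
      let a₂ : Wo ⟶ P := Over.homMk g₂ (by
        show g₂ ≫ P.hom = g₁ ≫ P.hom
        rw [← Over.w π, reassoc_of% hg])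
      exact congrArg Units.val (hu Wo a₁ a₂ (Over.OverMorphism.ext hg))
    refine ⟨lineFn d, ?_⟩
    rw [← lineFn_comp, EffectiveEpi.fac, hm]
  obtain ⟨v, hv⟩ := key e he
  obtain ⟨v', hv'⟩ := key e⁻¹ fun W g g' hg => by rw [map_inv, map_inv, he W g g' hg]
  haveI : Epi π.left := Flat.epi_of_flat_of_surjective _
  have h1 : v * v' = 1 := by
    obtain ⟨m₁, hm₁⟩ := exists_lineFn (v * v')
    obtain ⟨m₂, hm₂⟩ := exists_lineFn (1 : Γ(Q.left, ⊤))
    refine hm₁.symm.trans ((congrArg lineFn ((cancel_epi π.left).1 (lineFn_injective ?_))).trans hm₂)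
    rw [lineFn_comp, lineFn_comp, hm₁, hm₂, map_mul, map_one, hv, hv', Units.mul_inv]
  exact ⟨Units.mkOfMulEqOne v v' h1, Units.ext hv⟩

variable {X Y Xt Yt : Over (Spec (CommRingCat.of k))}
  [GrpObj X] [IsCommMonObj X] [IsProper X.hom] [GeometricallyIntegral X.hom]
  [GrpObj Y] [IsCommMonObj Y] [IsProper Y.hom] [GeometricallyIntegral Y.hom]
  [GrpObj Xt] [IsProper Xt.hom] [GeometricallyIntegral Xt.hom]
  [GrpObj Yt] [IsProper Yt.hom] [GeometricallyIntegral Yt.hom]
  {φX : AgPol.DualMap X Xt} {φY : AgPol.DualMap Y Yt}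
  (hX : AbDual.IsDualAV Scheme.fppfPrecoverage X Xt φX) (hY : AbDual.IsDualAV Scheme.fppfPrecoverage Y Yt φY)
  (f : X ⟶ Y) [IsMonHom f] [IsFinite f.left] [Flat f.left] [Surjective f.left]
  (ft : Yt ⟶ Xt) (hft : AbDual.IsTranspose f φX φY ft)
  {N : Over (Spec (CommRingCat.of k))} [GrpObj N] (i : N ⟶ X) [IsMonHom i] (hN : AlgGrp.IsKernel i f)
  {M : Over (Spec (CommRingCat.of k))} (j : M ⟶ Yt) (hM : AlgGrp.IsKernel j ft)

include hX hY hft hN hM in
/-- The pairing `Ker f^t × Ker f → 𝔾_m`: bimultiplicative, and non-degenerate on the left. -/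
theorem exists_weil : ∃ E : Γ((M ⊗ N).left, ⊤)ˣ,
    (∀ {T : Over (Spec (CommRingCat.of k))} (y : T ⟶ M) (n n' n'' : T ⟶ N), n'' ≫ i = (n ≫ i) * (n' ≫ i) →
      res (lift y n'') E = res (lift y n) E * res (lift y n') E) ∧
    (∀ {T : Over (Spec (CommRingCat.of k))} (y y' y'' : T ⟶ M) (n : T ⟶ N), y'' ≫ j = (y ≫ j) * (y' ≫ j) →
      res (lift y'' n) E = res (lift y n) E * res (lift y' n) E) ∧
    ∀ {T : Over (Spec (CommRingCat.of k))} (y : T ⟶ M),
      res (lift (fst T N ≫ y) (snd T N)) E = 1 → y ≫ j = 1 := by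
  haveI : Smooth X.hom := Groth.Agent.S1843.smooth_hom X
  haveI : Smooth Y.hom := Groth.Agent.S1843.smooth_hom Y
  haveI : GeometricallyConnected X.hom := Isogeny.geometricallyConnected X.hom
  haveI : GeometricallyConnected Y.hom := Isogeny.geometricallyConnected Y.hom
  haveI : Smooth Yt.hom := Groth.Agent.S1843.smooth_hom Yt
  haveI : GeometricallyConnected Yt.hom := Isogeny.geometricallyConnected Yt.hom
  haveI : IsMonHom ft := LamPull.isMonHom_transpose hX hY f ft hft
  -- an ample module on the target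
  obtain ⟨L₀, hL₀⟩ := Degree.exists_isAmple Y
  let lam := Pairing.lamOf φY L₀ hL₀.1
  haveI : IsMonHom lam := LamPull.isMonHom_lamOf hY L₀ hL₀.1
  obtain ⟨KM, iM, hKM, hKMf, hkerM⟩ := LamSurj.exists_kernel hY L₀ hL₀
  haveI := hKMf
  haveI : Surjective lam.left := LamSurj.surjective_lamOf hY L₀ hL₀
  obtain ⟨hlf, hlflat⟩ := Groth.L00.TransIsog.isFinite_flat lam iM hkerM
  haveI := hlf
  haveI := hlflat
  let q : X ⟶ Yt := f ≫ lam
  have hq : IsCover q := ⟨inferInstanceAs (Surjective (f.left ≫ lam.left)), inferInstanceAs (Flat (f.left ≫ lam.left)),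
    inferInstanceAs (QuasiCompact (f.left ≫ lam.left))⟩
  let L := (Scheme.Modules.pullback f.left).obj L₀
  have hL : PicF.IsInvertible L := PicLoc.isInvertible_pullback f.left hL₀.1
  have hπ := fun T => ThetaAV.bijective_snd (A := X) T
  obtain ⟨KL, iL, hKL⟩ := KLLib.exists_isKL k X L hL
  have hkerL := Groth.Agent.S19775.result k X Xt φX hX L hL _ (LamSurj.isLambda_lamOf φX L hL) KL iL hKL
  have hloc : ∀ {T : Over (Spec (CommRingCat.of k))} {z : T ⟶ X}, (z ≫ q) ≫ ft = 1 → LocLift L z := fun {T z} hz => by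
    refine (ThetaAV.locLift_iff L hL iL hKL z).1 ⟨hkerL.lift z (toUnit T) ?_, hkerL.lift_fst _ _ _⟩
    rw [LamPull.lamOf_pullback hY f ft hft L₀ hL₀.1 hL, ← Hom.one_def, ← hz]
    simp only [q, Category.assoc]
    rfl
  have hperp : ∀ {T : Over (Spec (CommRingCat.of k))} (z : T ⟶ X), z ≫ q = 1 ↔
      LocLift L z ∧ ThetaGrp.IsPerpPt L i z := fun {T} z => by
    rw [← ThetaAV.locLift_iff L hL iL hKL z,
      ← Groth.Agent.S19949.result k X Y f ‹_› N i hN L₀ hL₀.1 KL iL hKL KM iM hKM T z]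
    constructor
    · intro h
      exact ⟨hkerM.lift (z ≫ f) (toUnit T) (by rw [Category.assoc]; exact h.trans Hom.one_def), hkerM.lift_fst _ _ _⟩
    · rintro ⟨w, hw⟩
      show z ≫ f ≫ lam = 1
      rw [← Category.assoc, ← hw]
      exact ThetaAV.comp_kernel_eq_one hkerM w
  let P := pullback q j
  let jP : P ⟶ X := pullback.fst q j
  let π : P ⟶ M := pullback.snd q j
  have hπc : IsCover π := hq.of_isPullback (IsPullback.of_hasPullback q j)
  have hjP : LocLift L jP := hloc (by
    rw [pullback.condition]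
    exact (Category.assoc _ _ _).trans ((congrArg (pullback.snd q j ≫ ·) (show j ≫ ft = 1 by
      simpa using ThetaAV.comp_kernel_eq_one hM (𝟙 M))).trans (MonObj.comp_one _)))
  have hi : LocLift L i := hloc (by
    rw [← Category.assoc, show i ≫ f = 1 by simpa using ThetaAV.comp_kernel_eq_one hN (𝟙 N), MonObj.one_comp,
      MonObj.one_comp])
  obtain ⟨e⟩ := KLCoeff.nonempty_pairing hπ hL hi hjP
  -- invariance
  have hinv : ∀ {T : Over (Spec (CommRingCat.of k))} (x x' : T ⟶ P) (z : T ⟶ X) (n : T ⟶ N),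
      (x ≫ jP) * z = x' ≫ jP → z ≫ q = 1 → e.ev x n = e.ev x' n := fun {T} x x' z n h hz => by
    obtain ⟨hzl, hzp⟩ := (hperp z).1 hz
    obtain ⟨c, hc⟩ := exists_isPair hπ hL hzl (hi.comp n)
    have hc1 : c = 1 := hc.eq_one hπ hL hzl (hi.comp n) fun T' g β₁ β₂ h₁ h₂ =>
      hzp T' g (g ≫ n) β₁ β₂ h₁ (by rwa [Category.assoc])
    subst hc1
    have hmul := (e.isPair x n).mul_left hπ hL (hjP.comp _) hzl (hi.comp n) hc
    rw [h, _root_.mul_one] at hmul
    exact hmul.unique hπ hL (hjP.comp _) (hi.comp n) (e.isPair x' n)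
  have hinv' : ∀ {T : Over (Spec (CommRingCat.of k))} (x x' : T ⟶ P) (n : T ⟶ N),
      x ≫ π = x' ≫ π → e.ev x n = e.ev x' n := fun {T} x x' n h => by
    refine hinv x x' ((x ≫ jP)⁻¹ * (x' ≫ jP)) n (mul_inv_cancel_left _ _) ?_
    rw [MonObj.mul_comp, GrpObj.inv_comp, Category.assoc, Category.assoc, pullback.condition, ← Category.assoc,
      ← Category.assoc x', h, inv_mul_cancel]
  obtain ⟨E, hE⟩ := (hπc.whiskerRight N).exists_desc e.1 fun W g g' hg => by
    have h1 := congrArg (· ≫ fst M N) hg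
    have h2 := congrArg (· ≫ snd M N) hg
    simp only [Category.assoc, whiskerRight_fst, whiskerRight_snd] at h1 h2
    have hg1 : g = lift (g ≫ fst P N) (g ≫ snd P N) := by rw [← comp_lift, lift_fst_snd, Category.comp_id]
    have hg2 : g' = lift (g' ≫ fst P N) (g' ≫ snd P N) := by rw [← comp_lift, lift_fst_snd, Category.comp_id]
    rw [hg1, hg2, ← h2]
    exact hinv' _ _ _ (by rw [Category.assoc, Category.assoc]; exact h1)
  have hEev : ∀ {T : Over (Spec (CommRingCat.of k))} (x : T ⟶ P) (n : T ⟶ N), res (lift (x ≫ π) n) E = e.ev x n := by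
    intro T x n
    rw [← lift_whiskerRight, res_comp, hE]
    rfl
  refine ⟨E, fun {T} y n n' n'' hn => ?_, fun {T} y y' y'' n hy => ?_, fun {T} y hy => ?_⟩
  · let T' := pullback π y
    let c : T' ⟶ T := pullback.snd π y
    have hc : IsCover c := hπc.of_isPullback (IsPullback.of_hasPullback π y)
    apply hc.res_injective
    rw [map_mul, ← res_comp, ← res_comp, ← res_comp, comp_lift, comp_lift, comp_lift,
      show c ≫ y = pullback.fst π y ≫ π from pullback.condition.symm, hEev, hEev, hEev]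
    exact e.ev_mul hπ hL hi hjP _ (by rw [Category.assoc, hn, MonObj.comp_mul, Category.assoc, Category.assoc])
  · let T₁ := pullback π y
    let T₂ := pullback π (pullback.snd π y ≫ y')
    let c : T₂ ⟶ T := pullback.snd π (pullback.snd π y ≫ y') ≫ pullback.snd π y
    have hc : IsCover c :=
      (hπc.of_isPullback (IsPullback.of_hasPullback π (pullback.snd π y ≫ y'))).comp
        (hπc.of_isPullback (IsPullback.of_hasPullback π y))
    let x : T₂ ⟶ P := pullback.snd π (pullback.snd π y ≫ y') ≫ pullback.fst π y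
    let x' : T₂ ⟶ P := pullback.fst π (pullback.snd π y ≫ y')
    have hx : x ≫ π = c ≫ y := by simp only [x, c, Category.assoc, pullback.condition]
    have hx' : x' ≫ π = c ≫ y' := by simp only [x', c, Category.assoc, pullback.condition]
    have hxy : ((x ≫ jP) * (x' ≫ jP)) ≫ q = (c ≫ y'') ≫ j := by
      have e1 : ∀ z : T₂ ⟶ P, (z ≫ jP) ≫ q = (z ≫ π) ≫ j := fun z => by
        simp only [jP, π, Category.assoc, pullback.condition]
      rw [MonObj.mul_comp, e1, e1, hx, hx', Category.assoc c y'', hy, MonObj.comp_mul, ← Category.assoc c y, ← Category.assoc c y']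
    let x'' : T₂ ⟶ P := pullback.lift ((x ≫ jP) * (x' ≫ jP)) (c ≫ y'') hxy
    apply hc.res_injective
    rw [map_mul, ← res_comp, ← res_comp, ← res_comp, comp_lift, comp_lift, comp_lift, ← hx, ← hx',
      show c ≫ y'' = x'' ≫ π from (pullback.lift_snd _ _ _).symm, hEev, hEev, hEev]
    have h1 := (e.isPair x (c ≫ n)).mul_left hπ hL (hjP.comp x) (hjP.comp x') (hi.comp _) (e.isPair x' (c ≫ n))
    rw [show (x ≫ jP) * (x' ≫ jP) = x'' ≫ jP from (pullback.lift_fst _ _ _).symm] at h1
    exact (e.isPair x'' _).unique hπ hL (hjP.comp _) (hi.comp _) h1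
  · let T' := pullback π y
    let c : T' ⟶ T := pullback.snd π y
    let x : T' ⟶ P := pullback.fst π y
    have hxp : ThetaGrp.IsPerpPt L i (x ≫ jP) := fun W g n β₁ β₂ h₁ h₂ => by
      have h1 : e.ev (g ≫ x) n = 1 := by
        rw [← hEev, Category.assoc, pullback.condition]
        have := congrArg (res (lift (g ≫ c) n)) hy
        rwa [map_one, ← res_comp, comp_lift, lift_fst_assoc, lift_snd, Category.assoc] at this
      have hp := e.isPair (g ≫ x) n
      rw [h1] at hp
      exact hp.commute (by rwa [Category.assoc]) h₂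
    have h1 := (hperp (x ≫ jP)).2 ⟨hjP.comp x, hxp⟩
    obtain ⟨hc1, hc2, hc3⟩ := hπc.of_isPullback (IsPullback.of_hasPullback π y)
    haveI : Epi c.left := by haveI := hc1; haveI := hc2; haveI := hc3; exact Flat.epi_of_flat_of_surjective _
    haveI : Epi c := Over.epi_of_epi_left _
    refine (cancel_epi c).1 ?_
    rw [MonObj.comp_one, ← h1, Category.assoc, pullback.condition, ← Category.assoc, ← Category.assoc,
      pullback.condition]

end Groth.Agent.WeilPairing
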