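/-
A perfect-on-one-side bimultiplicative unit on `Spec B × Spec A` gives a surjection `D A → B`.
-/
import Groth.Agent.L26.AbDual.WeilPairing
import Groth.Prelude.Def_CoactBr
import Groth.Prelude.Def_CartDual
import Mathlib.RingTheory.Finiteness.Basic
import Mathlib.Algebra.Algebra.Epi

set_option autoImplicit false
set_option linter.style.haveILetI false
set_option backward.isDefEq.respectTransparency false
set_option backward.isDefEq.respectTransparency.types false

universe u

open CategoryTheory CategoryTheory.Limits MonoidalCategory CartesianMonoidalCategory MonObj AlgebraicGeometry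
open Groth.Agent.ThetaPairing Opposite
open CoactBr (sp pt)
open scoped TensorProduct

noncomputable section

namespace Groth.Agent.CartierPair

local instance braidedAlgSpecOf (R : Type u) [CommRing R] : (algSpec (CommRingCat.of R)).Braided :=
  braidedAlgSpec

variable {k : Type u} [Field k]

section Vals

variable {A B : Type u} [CommRing A] [CommRing B] [Algebra k A] [Algebra k B]

/-- The value of a unit on `Spec B × Spec A` at a pair of `R`-points. -/
def val (E : Γ((sp k B ⊗ sp k A).left, ⊤)ˣ) {R : Type u} [CommRing R] [Algebra k R]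
    (a : B →ₐ[k] R) (b : A →ₐ[k] R) : R :=
  (Scheme.ΓSpecIso (CommRingCat.of R)).hom ((res (lift (pt a) (pt b)) E : Γ((sp k R).left, ⊤)ˣ) : Γ((sp k R).left, ⊤))

theorem ΓSpec_pt {R S : Type u} [CommRing R] [CommRing S] [Algebra k R] [Algebra k S] (g : R →ₐ[k] S)
    (x : Γ((sp k R).left, ⊤)) :
    (Scheme.ΓSpecIso (CommRingCat.of S)).hom ((pt g).left.appTop x) = g ((Scheme.ΓSpecIso (CommRingCat.of R)).hom x) :=
  congr($(Scheme.ΓSpecIso_naturality (CommRingCat.ofHom g.toRingHom)) x)

theorem val_comp (E : Γ((sp k B ⊗ sp k A).left, ⊤)ˣ) {R S : Type u} [CommRing R] [CommRing S] [Algebra k R] [Algebra k S]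
    (g : R →ₐ[k] S) (a : B →ₐ[k] R) (b : A →ₐ[k] R) : val E (g.comp a) (g.comp b) = g (val E a b) := by
  rw [val, val, CoactBr.pt_comp, CoactBr.pt_comp, ← comp_lift, res_comp]
  exact ΓSpec_pt g _

/-- The element of `B ⊗ A` of a unit. -/
def elt (E : Γ((sp k B ⊗ sp k A).left, ⊤)ˣ) : B ⊗[k] A :=
  val E (Algebra.TensorProduct.includeLeft (S := k)) Algebra.TensorProduct.includeRight

theorem val_eq (E : Γ((sp k B ⊗ sp k A).left, ⊤)ˣ) {R : Type u} [CommRing R] [Algebra k R]
    (a : B →ₐ[k] R) (b : A →ₐ[k] R) :
    val E a b = Algebra.TensorProduct.lift a b (fun _ _ => .all _ _) (elt E) := by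
  rw [elt, ← val_comp]
  congr 1 <;> ext <;> simp

/-- An element of `B ⊗ A` as a linear map on linear forms on `A`. -/
def psi : B ⊗[k] A →ₗ[k] (CartDual.D k A →ₗ[k] B) :=
  TensorProduct.lift <| LinearMap.mk₂ k
    (fun b a => ((Module.Dual.eval k A a).comp (CartDual.toDual k A).toLinearMap).smulRight b)
    (fun b b' a => LinearMap.ext fun δ => by simp)
    (fun c b a => LinearMap.ext fun δ => by simp [smul_comm c])
    (fun b a a' => LinearMap.ext fun δ => by simp [add_smul])
    (fun c b a => LinearMap.ext fun δ => by simp [mul_smul])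

@[simp] theorem psi_tmul (b : B) (a : A) (δ : CartDual.D k A) : psi (b ⊗ₜ[k] a) δ = δ.ofConv a • b := rfl

end Vals

variable {A B : Type u} [CommRing A] [CommRing B] [HopfAlgebra k A] [HopfAlgebra k B]
  {E : Γ((sp k B ⊗ sp k A).left, ⊤)ˣ}

/-- Multiplicative in the right variable. -/
def MulRight (E : Γ((sp k B ⊗ sp k A).left, ⊤)ˣ) : Prop :=
  ∀ {T : Over (Spec (CommRingCat.of k))} (y : T ⟶ sp k B) (n n' : T ⟶ sp k A),
    res (lift y (n * n')) E = res (lift y n) E * res (lift y n') E

/-- Multiplicative in the left variable. -/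
def MulLeft (E : Γ((sp k B ⊗ sp k A).left, ⊤)ˣ) : Prop :=
  ∀ {T : Over (Spec (CommRingCat.of k))} (y y' : T ⟶ sp k B) (n : T ⟶ sp k A),
    res (lift (y * y') n) E = res (lift y n) E * res (lift y' n) E

/-- No point of the left factor pairs trivially with everything. -/
def NonDeg (E : Γ((sp k B ⊗ sp k A).left, ⊤)ˣ) : Prop :=
  ∀ {T : Over (Spec (CommRingCat.of k))} (y : T ⟶ sp k B),
    res (lift (fst T (sp k A) ≫ y) (snd T (sp k A))) E = 1 → y = 1

theorem elt_comul_right (hR : MulRight E) :
    Algebra.TensorProduct.map (AlgHom.id k B) (Bialgebra.comulAlgHom k A) (elt E) =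
      Algebra.TensorProduct.map (AlgHom.id k B) (Algebra.TensorProduct.includeLeft (R := k) (S := k) (A := A) (B := A)) (elt E) *
      Algebra.TensorProduct.map (AlgHom.id k B) (Algebra.TensorProduct.includeRight (R := k) (A := A) (B := A)) (elt E) := by
  let a : B →ₐ[k] B ⊗[k] (A ⊗[k] A) := Algebra.TensorProduct.includeLeft
  let iR : A ⊗[k] A →ₐ[k] B ⊗[k] (A ⊗[k] A) := Algebra.TensorProduct.includeRight
  let b₁ : A →ₐ[k] B ⊗[k] (A ⊗[k] A) := iR.comp Algebra.TensorProduct.includeLeft
  let b₂ : A →ₐ[k] B ⊗[k] (A ⊗[k] A) := iR.comp Algebra.TensorProduct.includeRight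
  have hm : ∀ f : A →ₐ[k] A ⊗[k] A, Algebra.TensorProduct.map (AlgHom.id k B) f (elt E) = val E a (iR.comp f) := fun f => by
    rw [val_eq]
    congr 1
    ext <;> simp [a, iR]
  have hb : (Algebra.TensorProduct.lift b₁ b₂ fun _ _ => .all _ _).comp (Bialgebra.comulAlgHom k A) =
      iR.comp (Bialgebra.comulAlgHom k A) := by
    congr 1
    ext <;> simp [b₁, b₂]
  rw [hm, hm, hm, ← hb, val, val, val, ← CoactBr.pt_mul_pt, hR, Units.val_mul, map_mul]

theorem elt_comul_left (hL : MulLeft E) :
    Algebra.TensorProduct.map (Bialgebra.comulAlgHom k B) (AlgHom.id k A) (elt E) =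
      Algebra.TensorProduct.map (Algebra.TensorProduct.includeLeft (R := k) (S := k) (A := B) (B := B)) (AlgHom.id k A) (elt E) *
      Algebra.TensorProduct.map (Algebra.TensorProduct.includeRight (R := k) (A := B) (B := B)) (AlgHom.id k A) (elt E) := by
  let b : A →ₐ[k] (B ⊗[k] B) ⊗[k] A := Algebra.TensorProduct.includeRight
  let iL : B ⊗[k] B →ₐ[k] (B ⊗[k] B) ⊗[k] A := Algebra.TensorProduct.includeLeft
  let a₁ : B →ₐ[k] (B ⊗[k] B) ⊗[k] A := iL.comp Algebra.TensorProduct.includeLeft
  let a₂ : B →ₐ[k] (B ⊗[k] B) ⊗[k] A := iL.comp Algebra.TensorProduct.includeRight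
  have hm : ∀ f : B →ₐ[k] B ⊗[k] B, Algebra.TensorProduct.map f (AlgHom.id k A) (elt E) = val E (iL.comp f) b := fun f => by
    rw [val_eq]
    congr 1
    ext <;> simp [b, iL]
  have ha : (Algebra.TensorProduct.lift a₁ a₂ fun _ _ => .all _ _).comp (Bialgebra.comulAlgHom k B) =
      iL.comp (Bialgebra.comulAlgHom k B) := by
    congr 1
    ext <;> simp [a₁, a₂]
  rw [hm, hm, hm, ← ha, val, val, val, ← CoactBr.pt_mul_pt, hL, Units.val_mul, map_mul]

theorem elt_counit_right (hR : MulRight E) :
    Algebra.TensorProduct.lift (AlgHom.id k B) ((Algebra.ofId k B).comp (Bialgebra.counitAlgHom k A))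
      (fun _ _ => .all _ _) (elt E) = 1 := by
  rw [← val_eq, val, ← CoactBr.one_eq_pt]
  have h := hR (pt (AlgHom.id k B)) (1 : sp k B ⟶ sp k A) 1
  rw [_root_.one_mul, left_eq_mul] at h
  rw [h, Units.val_one, map_one]

theorem elt_counit_left (hL : MulLeft E) :
    Algebra.TensorProduct.lift ((Algebra.ofId k A).comp (Bialgebra.counitAlgHom k B)) (AlgHom.id k A)
      (fun _ _ => .all _ _) (elt E) = 1 := by
  rw [← val_eq, val, ← CoactBr.one_eq_pt]
  have h := hL (1 : sp k A ⟶ sp k B) 1 (pt (AlgHom.id k A))
  rw [_root_.one_mul, left_eq_mul] at h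
  rw [h, Units.val_one, map_one]

/-- The algebra map of the pairing. -/
def toAlgHom (hR : MulRight E) : CartDual.D k A →ₐ[k] B :=
  AlgHom.ofLinearMap (psi (elt E))
    (by
      have h : ∀ t : B ⊗[k] A, psi t 1 =
          Algebra.TensorProduct.lift (AlgHom.id k B) ((Algebra.ofId k B).comp (Bialgebra.counitAlgHom k A))
            (fun _ _ => .all _ _) t := fun t => by
        induction t using TensorProduct.induction_on with
        | zero => simp
        | add x y hx hy => simp only [map_add, LinearMap.add_apply, hx, hy]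
        | tmul b a => simp [LinearMap.convOne_def, Algebra.smul_def, mul_comm]
      rw [h, elt_counit_right hR])
    (fun δ δ' => by
      let lδ : B ⊗[k] (A ⊗[k] A) →ₗ[k] B :=
        (TensorProduct.rid k B).toLinearMap ∘ₗ
          (LinearMap.mul' k k ∘ₗ TensorProduct.map δ.ofConv δ'.ofConv).lTensor B
      have h₁ : ∀ t : B ⊗[k] A, psi t (δ * δ') =
          lδ (Algebra.TensorProduct.map (AlgHom.id k B) (Bialgebra.comulAlgHom k A) t) := fun t => by
        induction t using TensorProduct.induction_on with
        | zero => simp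
        | add x y hx hy => simp only [map_add, LinearMap.add_apply, hx, hy]
        | tmul b a => simp [lδ, LinearMap.convMul_def]
      have h₂ : ∀ t t' : B ⊗[k] A, lδ
          (Algebra.TensorProduct.map (AlgHom.id k B) (Algebra.TensorProduct.includeLeft (R := k) (S := k) (A := A) (B := A)) t *
            Algebra.TensorProduct.map (AlgHom.id k B) (Algebra.TensorProduct.includeRight (R := k) (A := A) (B := A)) t') =
          psi t δ * psi t' δ' := fun t t' => by
        induction t using TensorProduct.induction_on with
        | zero => simp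
        | add x y hx hy => simp only [map_add, add_mul, LinearMap.add_apply, hx, hy]
        | tmul b a =>
          induction t' using TensorProduct.induction_on with
          | zero => simp
          | add x y hx hy => simp only [map_add, mul_add, LinearMap.add_apply, hx, hy]
          | tmul b' a' => simp [lδ, smul_mul_smul_comm, smul_smul, mul_comm]
      rw [h₁, elt_comul_right hR, h₂])

@[simp] theorem toAlgHom_apply (hR : MulRight E) (δ : CartDual.D k A) : toAlgHom hR δ = psi (elt E) δ := rfl

variable [Module.Finite k A]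

/-- The bialgebra map of the pairing. -/
def toBialgHom (hR : MulRight E) (hL : MulLeft E) : CartDual.D k A →ₐc[k] B :=
  BialgHom.ofAlgHom (toAlgHom hR)
    (AlgHom.ext fun δ => by
      have h : ∀ t : B ⊗[k] A, Bialgebra.counitAlgHom k B (psi t δ) = δ.ofConv
          (Algebra.TensorProduct.lift ((Algebra.ofId k A).comp (Bialgebra.counitAlgHom k B)) (AlgHom.id k A)
            (fun _ _ => .all _ _) t) := fun t => by
        induction t using TensorProduct.induction_on with
        | zero => simp
        | add x y hx hy => simp only [map_add, LinearMap.add_apply, hx, hy]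
        | tmul b a => simp [Algebra.algebraMap_eq_smul_one, mul_comm]
      show Bialgebra.counitAlgHom k B (psi (elt E) δ) = Coalgebra.counit δ
      rw [h, elt_counit_left hL, CartDual.coalgebra_counit_apply])
    (AlgHom.ext fun δ => by
      let lδ : (B ⊗[k] B) ⊗[k] A →ₗ[k] B ⊗[k] B :=
        (TensorProduct.rid k (B ⊗[k] B)).toLinearMap ∘ₗ δ.ofConv.lTensor (B ⊗[k] B)
      have h₁ : ∀ t : B ⊗[k] A, Coalgebra.comul (R := k) (psi t δ) =
          lδ (Algebra.TensorProduct.map (Bialgebra.comulAlgHom k B) (AlgHom.id k A) t) := fun t => by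
        induction t using TensorProduct.induction_on with
        | zero => simp
        | add x y hx hy => simp only [map_add, LinearMap.add_apply, hx, hy]
        | tmul b a => simp [lδ]
      have h₂ : ∀ t t' : B ⊗[k] A, TensorProduct.map (psi t) (psi t') (CartDual.comul k A δ) = lδ
          (Algebra.TensorProduct.map (Algebra.TensorProduct.includeLeft (R := k) (S := k) (A := B) (B := B)) (AlgHom.id k A) t *
            Algebra.TensorProduct.map (Algebra.TensorProduct.includeRight (R := k) (A := B) (B := B)) (AlgHom.id k A) t') :=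
        fun t t' => by
        induction t using TensorProduct.induction_on with
        | zero => simp
        | add x y hx hy => simp only [map_add, add_mul, TensorProduct.map_add_left, LinearMap.add_apply, hx, hy]
        | tmul b a =>
          induction t' using TensorProduct.induction_on with
          | zero => simp
          | add x y hx hy => simp only [map_add, mul_add, TensorProduct.map_add_right, LinearMap.add_apply, hx, hy]
          | tmul b' a' =>
            have h : ∀ u : CartDual.D k A ⊗[k] CartDual.D k A, TensorProduct.map (psi (b ⊗ₜ[k] a)) (psi (b' ⊗ₜ[k] a')) u =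
                CartDual.ev₂ k A u (a ⊗ₜ a') • b ⊗ₜ[k] b' := fun u => by
              induction u using TensorProduct.induction_on with
              | zero => simp
              | add x y hx hy => simp only [map_add, LinearMap.add_apply, add_smul, hx, hy]
              | tmul x y => simp [← TensorProduct.smul_tmul', smul_smul, mul_comm]
            rw [h, CartDual.ev₂_comul_tmul]
            simp [lδ]
      show TensorProduct.map (toAlgHom hR).toLinearMap (toAlgHom hR).toLinearMap (CartDual.comul k A δ) =
        Coalgebra.comul (R := k) (psi (elt E) δ)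
      rw [h₁, elt_comul_left hL, ← h₂]
      rfl)

@[simp] theorem toBialgHom_apply (hR : MulRight E) (hL : MulLeft E) (δ : CartDual.D k A) :
    toBialgHom hR hL δ = psi (elt E) δ := rfl

omit [Module.Finite k A] in
theorem psi_expand {J : Type*} [Fintype J] (bA : Module.Basis J k A) (t : B ⊗[k] A) :
    t = ∑ i, psi t (WithConv.toConv (bA.coord i)) ⊗ₜ[k] bA i := by
  induction t using TensorProduct.induction_on with
  | zero => simp
  | add x y hx hy =>
    conv_lhs => rw [hx, hy]
    simp only [map_add, LinearMap.add_apply, TensorProduct.add_tmul, Finset.sum_add_distrib]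
  | tmul b a =>
    simp only [psi_tmul, WithConv.ofConv_toConv, Module.Basis.coord_apply, TensorProduct.smul_tmul, ← TensorProduct.tmul_sum,
      Module.Basis.sum_repr]

omit [Module.Finite k A] in
theorem pt_incl_isIso (R : Type u) [CommRing R] [Algebra k R] :
    IsIso (lift (pt (Algebra.TensorProduct.includeLeft (R := k) (S := k) (A := R) (B := A)))
      (pt (Algebra.TensorProduct.includeRight (R := k) (A := R) (B := A)))) := by
  have h := CoactBr.lift_pt_pt (Algebra.TensorProduct.includeLeft (R := k) (S := k) (A := R) (B := A))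
    (Algebra.TensorProduct.includeRight (R := k) (A := R) (B := A))
  have e : (Algebra.TensorProduct.lift (Algebra.TensorProduct.includeLeft (R := k) (S := k) (A := R) (B := A))
      (Algebra.TensorProduct.includeRight (R := k) (A := R) (B := A)) fun _ _ => .all _ _) = AlgHom.id k _ := by
    ext <;> simp
  rw [e, CoactBr.pt_id] at h
  have : IsIso (lift (pt (Algebra.TensorProduct.includeLeft (R := k) (S := k) (A := R) (B := A)))
      (pt (Algebra.TensorProduct.includeRight (R := k) (A := R) (B := A))) ≫
      Functor.LaxMonoidal.μ (algSpec (CommRingCat.of k)) (op (.of k R)) (op (.of k A))) := by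
    rw [h]; infer_instance
  exact IsIso.of_isIso_comp_right _ (Functor.LaxMonoidal.μ (algSpec (CommRingCat.of k)) (op (.of k R)) (op (.of k A)))

/-- Two points that agree on the image of the dual are equal. -/
theorem algHom_ext (hL : MulLeft E) (hND : NonDeg E) {R : Type u} [CommRing R] [Algebra k R] (a₁ a₂ : B →ₐ[k] R)
    (h : ∀ δ, a₁ (psi (elt E) δ) = a₂ (psi (elt E) δ)) : a₁ = a₂ := by
  refine CoactBr.pt_injective (R := k) ?_
  rw [← mul_inv_eq_one]
  apply hND
  haveI := pt_incl_isIso (k := k) (A := A) R
  let w := lift (pt (Algebra.TensorProduct.includeLeft (R := k) (S := k) (A := R) (B := A)))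
    (pt (Algebra.TensorProduct.includeRight (R := k) (A := R) (B := A)))
  have hinj : Function.Injective (res w) := fun x y hxy => by
    have h' := congrArg (res (inv w)) hxy
    rwa [← res_comp, ← res_comp, IsIso.inv_hom_id, res_id, res_id] at h'
  apply hinj
  rw [map_one, ← res_comp, comp_lift]
  simp only [w, lift_fst_assoc, lift_snd]
  rw [MonObj.comp_mul, GrpObj.comp_inv, ← CoactBr.pt_comp, ← CoactBr.pt_comp]
  let i₁ : B →ₐ[k] R ⊗[k] A := Algebra.TensorProduct.includeLeft.comp a₁
  let i₂ : B →ₐ[k] R ⊗[k] A := Algebra.TensorProduct.includeLeft.comp a₂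
  have hv : val E i₁ Algebra.TensorProduct.includeRight = val E i₂ Algebra.TensorProduct.includeRight := by
    have hm : ∀ g : B →ₐ[k] R, val E (Algebra.TensorProduct.includeLeft.comp g) Algebra.TensorProduct.includeRight =
        Algebra.TensorProduct.map g (AlgHom.id k A) (elt E) := fun g => by
      rw [val_eq]
      congr 1
      ext <;> simp
    rw [hm, hm, psi_expand (Module.finBasis k A) (elt E), map_sum, map_sum]
    simp [h]
  have hu : res (lift (pt i₁) (pt (Algebra.TensorProduct.includeRight (R := k) (A := R) (B := A)))) E =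
      res (lift (pt i₂) (pt Algebra.TensorProduct.includeRight)) E :=
    Units.ext ((Scheme.ΓSpecIso (CommRingCat.of (R ⊗[k] A))).commRingCatIsoToRingEquiv.injective hv)
  have h' := hL (pt i₁ * (pt i₂)⁻¹) (pt i₂) (pt (Algebra.TensorProduct.includeRight (R := k) (A := R) (B := A)))
  rw [inv_mul_cancel_right, hu, right_eq_mul] at h'
  exact h'

theorem toBialgHom_surjective [Module.Finite k B] (hR : MulRight E) (hL : MulLeft E) (hND : NonDeg E) :
    Function.Surjective (toBialgHom hR hL) := by
  let S : Subalgebra k B := (toAlgHom hR).range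
  haveI : Module.Finite S B := Module.Finite.of_restrictScalars_finite k S B
  have hS : Function.Surjective (algebraMap S B) := by
    refine Algebra.isEpi_iff_surjective_algebraMap_of_finite.1 ((Algebra.isEpi_iff_forall_one_tmul_eq S B).2 fun b => ?_)
    exact (DFunLike.congr_fun (algHom_ext hL hND
      ((Algebra.TensorProduct.includeLeft (R := S) (S := S) (A := B) (B := B)).restrictScalars k)
      ((Algebra.TensorProduct.includeRight (R := S) (A := B) (B := B)).restrictScalars k) fun δ => by
        show psi (elt E) δ ⊗ₜ[S] (1 : B) = 1 ⊗ₜ[S] psi (elt E) δ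
        exact Algebra.TensorProduct.tmul_one_eq_one_tmul (⟨psi (elt E) δ, δ, rfl⟩ : S)) b).symm
  intro b
  obtain ⟨⟨_, δ, rfl⟩, hb⟩ := hS b
  exact ⟨δ, hb⟩

theorem nonempty_bialgEquiv [Module.Finite k B] (hR : MulRight E) (hL : MulLeft E) (hND : NonDeg E)
    (hdim : Module.finrank k B = Module.finrank k A) : Nonempty (B ≃ₐc[k] CartDual.D k A) := by
  have hs := toBialgHom_surjective hR hL hND
  have hd : Module.finrank k (CartDual.D k A) = Module.finrank k B := by
    rw [LinearEquiv.finrank_eq (CartDual.toDual k A), Subspace.dual_finrank_eq, hdim]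
  have hi : Function.Injective (toAlgHom hR).toLinearMap :=
    (LinearMap.injective_iff_surjective_of_finrank_eq_finrank hd).2 hs
  exact ⟨(BialgEquiv.ofBijective (toBialgHom hR hL) ⟨hi, hs⟩).symm⟩

end Groth.Agent.CartierPair
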