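/-
Finite Hopf algebras: étaleness, point derivations, primitive elements and homomorphisms to the additive group.
-/
import Groth.Agent.L26.AV.MulPInfinitesimal
import Groth.Agent.L08.KaehlerHopf
import Groth.Agent.L08.SubgroupObj
import Groth.Agent.L25.GaPts
import Groth.Agent.L25.Bridge.TorsionLift
import Groth.Agent.L26.AbDual.CartierPair
import Mathlib.RingTheory.Etale.Field
import Mathlib.RingTheory.Etale.Finite
import Mathlib.RingTheory.RingHom.Etale
import Mathlib.RingTheory.TensorProduct.Free

set_option autoImplicit false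
set_option linter.style.haveILetI false
set_option backward.isDefEq.respectTransparency false
set_option backward.isDefEq.respectTransparency.types false

universe u

open CategoryTheory CategoryTheory.Limits MonoidalCategory CartesianMonoidalCategory MonObj AlgebraicGeometry
open Groth.L08.EtalePoint Opposite
open CoactBr (sp pt)
open scoped TensorProduct

noncomputable section

namespace Groth.Agent.HopfEtale

variable {k : Type u} [Field k]

section Algebra

variable {B : Type u} [CommRing B] [HopfAlgebra k B] [Module.Finite k B]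

/-- A finite Hopf algebra over a field is étale iff it has no derivation at the counit. -/
theorem etale_iff : Algebra.Etale k B ↔
    ∀ w : B →ₗ[k] k, IsPtDer (Bialgebra.counitAlgHom k B) w → w = 0 := by
  obtain ⟨e⟩ := Groth.L08.KaehlerHopf.exists_equiv (R := k) (A := B)
  let I : Ideal B := Groth.L08.KaehlerHopf.aug k B
  constructor
  · intro h w hw
    haveI : Subsingleton (B ⊗[k] I.Cotangent) := e.toEquiv.symm.subsingleton
    haveI : Nontrivial B := (Bialgebra.counitAlgHom k B).toRingHom.domain_nontrivial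
    haveI : Subsingleton I.Cotangent := by
      refine ⟨fun x y => ?_⟩
      have hxy := congrArg (fun t => TensorProduct.lid k I.Cotangent
        (LinearMap.rTensor I.Cotangent (Coalgebra.counit (R := k) (A := B)) t))
        (Subsingleton.elim ((1 : B) ⊗ₜ[k] x) ((1 : B) ⊗ₜ[k] y))
      simpa using hxy
    have hI : I = I * I := (Ideal.cotangent_subsingleton_iff I).1 inferInstance |>.eq.symm
    have h1 : w 1 = 0 := by
      have := hw 1 1
      simpa using this
    have h2 : ∀ x ∈ I, w x = 0 := fun x hx => by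
      rw [hI] at hx
      induction hx using Submodule.mul_induction_on' with
      | mem_mul_mem a ha b hb =>
        rw [hw, show Bialgebra.counitAlgHom k B a = 0 from ha, show Bialgebra.counitAlgHom k B b = 0 from hb]
        simp
      | add a _ b _ ha hb => rw [map_add, ha, hb, add_zero]
    refine LinearMap.ext fun b => ?_
    have h3 := h2 (b - algebraMap k B (Bialgebra.counitAlgHom k B b)) (by simp [I, RingHom.mem_ker])
    rw [Algebra.algebraMap_eq_smul_one, map_sub, map_smul, h1, smul_zero, sub_zero] at h3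
    exact h3
  · intro h
    have hI : I ≤ I ^ 2 := fun x hx => by
      have := Groth.Agent.AV.MulPInfinitesimal.sub_mem_sq (Bialgebra.counitAlgHom k B) x fun w hw => by
        rw [h w hw]; rfl
      rw [show Bialgebra.counitAlgHom k B x = 0 from hx, map_zero, sub_zero] at this
      rwa [pow_two]
    haveI : Subsingleton I.Cotangent :=
      (Ideal.cotangent_subsingleton_iff I).2 (le_antisymm Ideal.mul_le_right (hI.trans (pow_two I).le))
    haveI : Subsingleton (Ω[B⁄k]) := e.toEquiv.subsingleton
    haveI : Algebra.FormallyUnramified k B := ⟨inferInstance⟩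
    haveI : Algebra.FormallyEtale k B := Algebra.FormallyEtale.of_formallyUnramified_of_field k B
    exact ⟨inferInstance, Algebra.FinitePresentation.of_finiteType.1 inferInstance⟩

/-- Étaleness of `Spec` of a finite Hopf algebra. -/
theorem etale_sp_iff : Etale (sp k B).hom ↔ ∀ w : B →ₗ[k] k, IsPtDer (Bialgebra.counitAlgHom k B) w → w = 0 := by
  rw [← etale_iff, ← RingHom.etale_algebraMap]
  exact HasRingHomProperty.Spec_iff (P := @Etale) (φ := CommRingCat.ofHom (algebraMap k B))

end Algebra

section Dual

variable (A : Type u) [CommRing A] [HopfAlgebra k A] [Module.Finite k A]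

/-- Derivations of the dual at the counit are the primitive elements. -/
theorem dual_ptDer_iff :
    (∀ w : CartDual.D k A →ₗ[k] k, (∀ x y : CartDual.D k A, w (x * y) = x.ofConv 1 * w y + y.ofConv 1 * w x) → w = 0) ↔
    ∀ a : A, Coalgebra.comul (R := k) a = a ⊗ₜ 1 + 1 ⊗ₜ a → a = 0 := by
  constructor
  · intro h a ha
    have h' := h ((Module.Dual.eval k A a).comp (CartDual.toDual k A).toLinearMap) fun x y => by
      simp [LinearMap.convMul_def, ha]
      ring
    refine (Module.forall_dual_apply_eq_zero_iff k a).1 fun φ => ?_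
    exact LinearMap.congr_fun h' (WithConv.toConv φ)
  · intro h w hw
    obtain ⟨a, ha⟩ := (Module.bijective_dual_eval k A).2 (w.comp (CartDual.toDual k A).symm.toLinearMap)
    have hwa : ∀ x : CartDual.D k A, w x = x.ofConv a := fun x => (LinearMap.congr_fun ha x.ofConv).symm
    have h0 : Coalgebra.comul (R := k) a = a ⊗ₜ 1 + 1 ⊗ₜ a := by
      refine (Module.forall_dual_apply_eq_zero_iff k _).1 (fun φ => ?_) |> sub_eq_zero.1
      obtain ⟨u, rfl⟩ := (CartDual.ev₂ k A).surjective φ
      induction u using TensorProduct.induction_on with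
      | zero => simp
      | add u v hu hv => rw [map_add, LinearMap.add_apply, hu, hv, add_zero]
      | tmul x y =>
        have := hw x y
        rw [hwa, hwa, hwa, LinearMap.convMul_def] at this
        rw [CartDual.ev₂_tmul_eq', map_sub, map_add]
        simp only [LinearMap.comp_apply, TensorProduct.map_tmul, LinearMap.mul'_apply,
          WithConv.ofConv_toConv] at this ⊢
        rw [this]
        ring
    refine LinearMap.ext fun x => ?_
    rw [hwa, h a h0, map_zero]
    rfl

end Dual

section Ga

variable (A : Type u) [CommRing A] [HopfAlgebra k A]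

/-- The function of `Spec A` of an element of `A`. -/
def fn (a : A) : Γ((sp k A).left, ⊤) := (Scheme.ΓSpecIso (CommRingCat.of A)).inv a

theorem fn_injective : Function.Injective (fn (k := k) A) :=
  (Scheme.ΓSpecIso (CommRingCat.of A)).commRingCatIsoToRingEquiv.symm.injective

theorem fn_surjective : Function.Surjective (fn (k := k) A) :=
  (Scheme.ΓSpecIso (CommRingCat.of A)).commRingCatIsoToRingEquiv.symm.surjective

variable {A} in
theorem pt_fn {R : Type u} [CommRing R] [Algebra k R] (g : A →ₐ[k] R) (a : A) :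
    (pt g).left.appTop (fn (k := k) A a) = (Scheme.ΓSpecIso (CommRingCat.of R)).inv (g a) :=
  (congrArg (fun ψ => (ConcreteCategory.hom ψ) a) (Scheme.ΓSpecIso_inv_naturality (CommRingCat.ofHom g.toRingHom))).symm

theorem isIso_incl : IsIso (lift (pt (Algebra.TensorProduct.includeLeft (R := k) (S := k) (A := A) (B := A)))
    (pt (Algebra.TensorProduct.includeRight (R := k) (A := A) (B := A)))) :=
  CartierPair.pt_incl_isIso (k := k) (A := A) A

/-- A morphism to `𝔾ₐ` is a homomorphism iff its coordinate is primitive. -/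
theorem isMonHom_ga_iff (g : sp k A ⟶ Red.Ga (Spec (CommRingCat.of k))) (a : A) (ha : Red.gaFn g = fn (k := k) A a) :
    IsMonHom g ↔ Coalgebra.comul (R := k) a = a ⊗ₜ 1 + 1 ⊗ₜ a := by
  let iL : A →ₐ[k] A ⊗[k] A := Algebra.TensorProduct.includeLeft
  let iR : A →ₐ[k] A ⊗[k] A := Algebra.TensorProduct.includeRight
  have hfn : ∀ h : A →ₐ[k] A ⊗[k] A,
      Red.gaFn (pt h ≫ g) = (Scheme.ΓSpecIso (CommRingCat.of (A ⊗[k] A))).inv (h a) := fun h => by
    rw [Groth.L25.GaPts.gaFn_comp, ha, pt_fn]
  have hΔ : (Algebra.TensorProduct.lift iL iR fun _ _ => .all _ _).comp (Bialgebra.comulAlgHom k A) =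
      Bialgebra.comulAlgHom k A := by
    rw [show Algebra.TensorProduct.lift iL iR (fun _ _ => .all _ _) = AlgHom.id k _ by ext <;> simp [iL, iR]]
    rfl
  have key : (pt iL * pt iR) ≫ g = (pt iL ≫ g) * (pt iR ≫ g) ↔ Coalgebra.comul (R := k) a = a ⊗ₜ 1 + 1 ⊗ₜ a := by
    rw [CoactBr.pt_mul_pt, hΔ, ← Groth.L25.GaPts.gaFn_injective.eq_iff]
    show Red.gaFn _ = Red.gaFn _ ↔ _
    rw [Groth.L25.GaPts.gaFn_mul, hfn, hfn, hfn]
    exact ⟨fun h => (Scheme.ΓSpecIso (CommRingCat.of (A ⊗[k] A))).commRingCatIsoToRingEquiv.symm.injective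
        (h.trans (map_add _ _ _).symm), fun h => (congrArg _ h).trans (map_add _ _ _)⟩
  refine ⟨fun h => key.1 (MonObj.mul_comp _ _ g), fun h => ?_⟩
  have h2 := key.2 h
  haveI := isIso_incl (k := k) A
  have huniv : (fst (sp k A) (sp k A) * snd (sp k A) (sp k A)) ≫ g =
      (fst (sp k A) (sp k A) ≫ g) * (snd (sp k A) (sp k A) ≫ g) := by
    rw [← cancel_epi (lift (pt iL) (pt iR)), ← Category.assoc, MonObj.comp_mul, MonObj.comp_mul, lift_fst, lift_snd,
      ← Category.assoc, ← Category.assoc, lift_fst, lift_snd]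
    exact h2
  have hmul : ∀ {T : Over (Spec (CommRingCat.of k))} (n n' : T ⟶ sp k A), (n * n') ≫ g = (n ≫ g) * (n' ≫ g) :=
    fun {T} n n' => by
      have := congrArg (lift n n' ≫ ·) huniv
      simp only [← Category.assoc, MonObj.comp_mul, lift_fst, lift_snd] at this
      exact this
  exact Groth.L25.Bridge.isMonHom_of_mul g fun _ n n' => hmul n n'

theorem gaHom_iff :
    (∀ g : sp k A ⟶ Red.Ga (Spec (CommRingCat.of k)), IsMonHom g → g = 1) ↔
      ∀ a : A, Coalgebra.comul (R := k) a = a ⊗ₜ 1 + 1 ⊗ₜ a → a = 0 := by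
  constructor
  · intro h a ha
    have := h (Groth.L25.GaPts.ptOfElt (fn (k := k) A a)) ((isMonHom_ga_iff A _ a (Groth.L25.GaPts.gaFn_ptOfElt _)).2 ha)
    have h0 := congrArg Red.gaFn this
    rw [Groth.L25.GaPts.gaFn_ptOfElt, Groth.L25.GaPts.gaFn_one] at h0
    exact fn_injective A (h0.trans (map_zero _).symm)
  · intro h g hg
    obtain ⟨a, ha⟩ := fn_surjective (k := k) A (Red.gaFn g)
    apply Groth.L25.GaPts.gaFn_injective
    show Red.gaFn g = Red.gaFn _
    rw [Groth.L25.GaPts.gaFn_one, ← ha, h a ((isMonHom_ga_iff A g a ha.symm).1 hg)]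
    exact map_zero _

theorem isCocomm_of_comm [IsCommMonObj (sp k A)] : Coalgebra.IsCocomm k A := by
  let iL : A →ₐ[k] A ⊗[k] A := Algebra.TensorProduct.includeLeft
  let iR : A →ₐ[k] A ⊗[k] A := Algebra.TensorProduct.includeRight
  have h : pt iL * pt iR = pt iR * pt iL := mul_comm _ _
  rw [CoactBr.pt_mul_pt, CoactBr.pt_mul_pt] at h
  have h' := CoactBr.pt_injective h
  refine ⟨LinearMap.ext fun a => ?_⟩
  have h'' := AlgHom.congr_fun h' a
  rw [show Algebra.TensorProduct.lift iL iR (fun _ _ => .all _ _) = AlgHom.id k _ by ext <;> simp [iL, iR],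
    show Algebra.TensorProduct.lift iR iL (fun _ _ => .all _ _) = (Algebra.TensorProduct.comm k A A).toAlgHom by
      ext <;> simp [iL, iR]] at h''
  exact h''.symm

end Ga

/-- A finite group scheme over a field is `Spec` of a finite Hopf algebra. -/
theorem exists_hopf (P : Over (Spec (CommRingCat.of k))) [GrpObj P] [IsFinite P.hom] :
    ∃ (H : Type u) (_ : CommRing H) (_ : HopfAlgebra k H) (_ : Module.Finite k H) (e : sp k H ≅ P), IsMonHom e.hom := by
  haveI : IsAffine P.left := isAffine_of_isAffineHom P.hom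
  obtain ⟨H', ⟨e⟩⟩ := (essImage_hopfSpec (G := Grp.mk P)).mpr ‹IsAffine P.left›
  let H : Type u := H'.unop
  let χ : sp k H ⟶ P := e.hom.hom.hom
  haveI : IsIso χ := ⟨e.inv.hom.hom, congrArg (fun f => f.hom.hom) e.hom_inv_id,
    congrArg (fun f => f.hom.hom) e.inv_hom_id⟩
  haveI : IsFinite (Spec.map (CommRingCat.ofHom (algebraMap k H))) := by
    haveI : IsIso χ.left := inferInstanceAs (IsIso ((Over.forget _).map χ))
    have h : IsFinite (χ.left ≫ P.hom) := inferInstance
    rw [Over.w χ] at h
    exact h
  refine ⟨H, inferInstance, inferInstance, RingHom.finite_algebraMap.mp ((IsFinite.SpecMap_iff _).mp ‹_›), asIso χ, ?_⟩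
  exact e.hom.hom.isMonHom_hom

end Groth.Agent.HopfEtale
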