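/-
Linearity of the homomorphism attached to a module.
-/
import Groth.Agent.L26.AbDual.LamPull

set_option autoImplicit false
set_option linter.style.haveILetI false
set_option backward.isDefEq.respectTransparency false
set_option backward.isDefEq.respectTransparency.types false

universe u

open CategoryTheory CategoryTheory.Limits MonoidalCategory CartesianMonoidalCategory MonObj GrpObj AlgebraicGeometry
open Groth.Agent.AV Groth.Agent.AbDualLib Groth.Agent.Poincare Groth.Agent.Poincare.Rosati DegreeForm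

noncomputable section

namespace Groth.Agent.LamLinear

attribute [local instance] Groth.L08.Cube.clMonoid InterPic.picLaw

variable {k : Type u} [Field k] {A At : Over (Spec (CommRingCat.of k))}
  [GrpObj A] [IsCommMonObj A] [IsProper A.hom] [GeometricallyIntegral A.hom]

theorem bil_mul (L M N : A.left.Modules) (hL : PicF.IsInvertible L) (hM : PicF.IsInvertible M) (hN : PicF.IsInvertible N)
    (h : PicF.cl N = PicF.cl L * PicF.cl M) {W : Over (Spec (CommRingCat.of k))} (x y : W ⟶ A) :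
    Orth.bil N hN x y = Orth.bil L hL x y + Orth.bil M hM x y := by
  have hF : ∀ q : W ⟶ A, F N hN q = F L hL q + F M hM q := fun q => ext_val (by
    show PicF.pullCl q.left (PicF.cl N) = PicF.pullCl q.left (PicF.cl L) * PicF.pullCl q.left (PicF.cl M)
    rw [h, Groth.L08.Cube.pullCl_mul])
  show F N hN (x * y) - F N hN x - F N hN y =
    (F L hL (x * y) - F L hL x - F L hL y) + (F M hM (x * y) - F M hM x - F M hM y)
  rw [hF, hF, hF]
  abel

theorem bil_pow (L M : A.left.Modules) (hL : PicF.IsInvertible L) (hM : PicF.IsInvertible M) (n : ℕ)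
    (h : PicF.cl M = PicF.cl L ^ n) {W : Over (Spec (CommRingCat.of k))} (x y : W ⟶ A) :
    Orth.bil M hM x y = n • Orth.bil L hL x y := by
  have hF : ∀ q : W ⟶ A, F M hM q = n • F L hL q := fun q => ext_val (by
    rw [val_nsmul]
    show PicF.pullCl q.left (PicF.cl M) = _
    rw [h]
    exact map_pow (⟨⟨PicF.pullCl q.left, Groth.L08.Cube.pullCl_one _⟩,
      Groth.L08.Cube.pullCl_mul _⟩ : PicF.Cl A.left →* PicF.Cl W.left) (PicF.cl L) n)
  show F M hM (x * y) - F M hM x - F M hM y = n • (F L hL (x * y) - F L hL x - F L hL y)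
  rw [hF, hF, hF, smul_sub, smul_sub]

/-- The homomorphism of a module in the sense of polarisations is this one. -/
theorem eq_lamOf {φ : AgPol.DualMap A At} (M : A.left.Modules) (hM : PicF.IsInvertible M) {lam : A ⟶ At}
    (h : AgPol.IsLambda A At φ M lam) : lam = Pairing.lamOf φ M hM := by
  obtain ⟨N, hN, ⟨ψ⟩, hφN⟩ := h
  rw [← hφN]
  refine congrArg (φ A) ?_
  have hc : PicF.IsInvertibleCl (PicF.cl M) := ⟨M, rfl, hM⟩
  have hNc : (PicF.cl N : PicF.Cl (A ⊗ A).left) * PicF.pullCl (fst A A).left (PicF.cl M) * PicF.pullCl (snd A A).left (PicF.cl M) =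
      PicF.pullCl μ[A].left (PicF.cl M) := (PicGrp.cl_eq_cl_iff _ _).2 ⟨ψ⟩
  have h2 := LamSurj.mumCl_spec M hM
  rw [← hNc] at h2
  refine mulCl_right_cancel (c := PicF.pullCl (fst A A).left (PicF.cl M) * PicF.pullCl (snd A A).left (PicF.cl M))
    ⟨N, rfl, hN⟩ (Orth.bil M hM (fst A A) (snd A A)).toMul.2
    (isInvertibleCl_mulCl (PicLoc.isInvertibleCl_pullCl _ hc) (PicLoc.isInvertibleCl_pullCl _ hc)) ?_
  show (PicF.cl N : PicF.Cl (A ⊗ A).left) * (_ * _) = _ * _
  rw [← _root_.mul_assoc, ← h2, _root_.mul_assoc]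

variable [GrpObj At] {φ : AgPol.DualMap A At} (hA : AbDual.IsDualAV Scheme.fppfPrecoverage A At φ)

/-- The homomorphism only depends on the class. -/
theorem lamOf_congr (L M : A.left.Modules) (hL : PicF.IsInvertible L) (hM : PicF.IsInvertible M)
    (h : PicF.cl M = PicF.cl L) : Pairing.lamOf φ M hM = Pairing.lamOf φ L hL := by
  show φ A (Orth.bil M hM (fst A A) (snd A A)).toMul.1 = φ A (Orth.bil L hL (fst A A) (snd A A)).toMul.1
  rw [bil_pow L M hL hM 1 (by rw [pow_one, h]), one_smul]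

include hA in
/-- `φ_{L ⊗ M} = φ_L φ_M`. -/
theorem lamOf_mul (L M N : A.left.Modules) (hL : PicF.IsInvertible L) (hM : PicF.IsInvertible M) (hN : PicF.IsInvertible N)
    (h : PicF.cl N = PicF.cl L * PicF.cl M) :
    Pairing.lamOf φ N hN = Pairing.lamOf φ L hL * Pairing.lamOf φ M hM := by
  show φ A _ = φ A _ * φ A _
  rw [← map_mulCl hA (Pairing.isPicZeroCl_mumCl L hL) (Pairing.isPicZeroCl_mumCl M hM)]
  refine congrArg (φ A) ?_
  show (Orth.bil N hN (fst A A) (snd A A)).toMul.1 = _
  rw [bil_mul L M N hL hM hN h]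
  rfl

include hA in
/-- `φ_{L^n} = φ_L^n`. -/
theorem lamOf_pow (L M : A.left.Modules) (hL : PicF.IsInvertible L) (hM : PicF.IsInvertible M) (n : ℕ)
    (h : PicF.cl M = PicF.cl L ^ n) : Pairing.lamOf φ M hM = Pairing.lamOf φ L hL ^ n := by
  have hv : (Pairing.mumCl M hM : PicF.Cl (A ⊗ A).left) = Pairing.mumCl L hL ^ n := by
    show (Orth.bil M hM (fst A A) (snd A A)).toMul.1 = _
    rw [bil_pow L M hL hM n h, val_nsmul]
  suffices ∀ j : ℕ, AbDual.IsPicZeroCl A.hom A (Pairing.mumCl L hL ^ j : PicF.Cl (A ⊗ A).left) ∧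
      φ A (Pairing.mumCl L hL ^ j : PicF.Cl (A ⊗ A).left) = Pairing.lamOf φ L hL ^ j by
    show φ A _ = _
    rw [hv]
    exact (this n).2
  intro j
  induction j with
  | zero => exact ⟨by rw [pow_zero]; exact isPicZeroCl_oneCl _ _, by rw [pow_zero, pow_zero]; exact map_oneCl hA _⟩
  | succ j ih =>
    rw [pow_succ]
    refine ⟨isPicZeroCl_mulCl ih.1 (Pairing.isPicZeroCl_mumCl L hL), ?_⟩
    rw [pow_succ (Pairing.lamOf φ L hL), ← ih.2]
    exact map_mulCl hA ih.1 (Pairing.isPicZeroCl_mumCl L hL)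

end Groth.Agent.LamLinear
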