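/-
The divisor of a section that is supported on one prime divisor, and multiples of that divisor on an abelian variety.
-/
import Groth.Agent.L26.AbDual.LamLinear
import Groth.Agent.L26.AV.TorsCard
import Groth.Agent.L19.IdealInvertible
import Groth.Agent.L22.PicGlue.GensIso
import Groth.Agent.L22.ZeroScheme
import Groth.Agent.L18.NormDescent
import Groth.Agent.L08.Cube.Inverse
import Groth.Agent.L21.Curve.SmoothDescent
import Groth.Agent.L11.SmRegular.Basic
import Groth.Agent.S1568
import Groth.Agent.S1659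
import Groth.Agent.S1684
import Groth.Agent.S2821

set_option autoImplicit false
set_option linter.style.haveILetI false
set_option backward.isDefEq.respectTransparency false
set_option backward.isDefEq.respectTransparency.types false

universe u

open CategoryTheory CategoryTheory.Limits MonoidalCategory CartesianMonoidalCategory MonObj GrpObj AlgebraicGeometry
open Groth.L18.Frame (rs ro rs_rs rs_self rs_smul ro_ro IsFrame)
open Groth.L18.GenLoc (secOf tens)

noncomputable section

namespace Groth.Agent.ThetaRed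

section Divisor

variable {X : Scheme.{u}} [IsIntegral X] {L : X.Modules}

theorem idealOn_eq_span (s : Coh.structureModule X ⟶ L) {V : X.Opens}
    {e : Γ(L, V)} (he : IsFrame L V e) {r : Γ(X, V)} (hr : rs L (le_top : V ≤ ⊤) (secOf s) = r • e) :
    Groth.L22.ZeroScheme.idealOn s V = Ideal.span {r} := by
  ext a
  rw [Groth.L22.ZeroScheme.mem_idealOn_iff, Ideal.mem_span_singleton', hr]
  constructor
  · intro h
    obtain ⟨b, hb⟩ := h e
    refine ⟨b, he.inj le_rfl ?_⟩
    rw [rs_self, hb, smul_smul]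
  · rintro ⟨b, rfl⟩ m
    obtain ⟨c, hc⟩ := he.exists_coeff le_rfl m
    rw [rs_self] at hc
    refine ⟨b * c, ?_⟩
    rw [← hc, smul_smul, smul_smul]
    ring_nf

theorem secOf_injective {s t : Coh.structureModule X ⟶ L} (h : secOf s = secOf t) : s = t := by
  rw [← Groth.L18.GenLoc.homOfSection_secOf s, ← Groth.L18.GenLoc.homOfSection_secOf t, h]

/-- A nonzero section vanishes identically on no open. -/
theorem coeff_ne_zero (hL : PicF.IsInvertible L) {s : Coh.structureModule X ⟶ L} (hs : s ≠ 0) {V : X.Opens}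
    [Nonempty V] {e : Γ(L, V)} (he : IsFrame L V e) {r : Γ(X, V)} (hr : rs L (le_top : V ≤ ⊤) (secOf s) = r • e) :
    r ≠ 0 := by
  intro h0
  have hbot : CohB1.genLocus L s = ⊥ := by
    by_contra hne
    obtain ⟨x, hx⟩ : (CohB1.genLocus L s : Set X).Nonempty :=
      Set.nonempty_iff_ne_empty.2 fun h => hne (TopologicalSpace.Opens.ext h)
    obtain ⟨⟨y, hy⟩⟩ : Nonempty V := inferInstance
    obtain ⟨z, hz⟩ := nonempty_preirreducible_inter (CohB1.genLocus L s).isOpen V.isOpen ⟨x, hx⟩ ⟨y, hy⟩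
    have hz' : z ∈ CohB1.genLocus L s ⊓ V := hz
    rw [Groth.L18.GenLoc.genLocus_inf_eq s he hr.symm, h0, Scheme.basicOpen_zero] at hz'
    exact hz'
  refine hs (secOf_injective ?_)
  have h0' : secOf (0 : Coh.structureModule X ⟶ L) = 0 := by
    rw [secOf, Scheme.Modules.Hom.zero_app]; rfl
  rw [h0']
  refine Groth.L21.Extend.eq_of_locally L _ _ fun x _ => ?_
  obtain ⟨W, e', hxW, he'⟩ := Groth.L18.Frame.exists_frame hL x
  refine ⟨W, le_top, hxW, ?_⟩
  obtain ⟨c, hc⟩ := he'.exists_coeff le_rfl (rs L (le_top : W ≤ ⊤) (secOf s))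
  rw [rs_self] at hc
  have hb := Groth.L18.GenLoc.genLocus_inf_eq s he' hc
  rw [hbot, bot_inf_eq] at hb
  have hc0 : c = 0 := (AlgebraicGeometry.basicOpen_eq_bot_iff c).1 hb.symm
  show rs L le_top (secOf s) = rs L le_top 0
  rw [← hc, hc0, zero_smul]
  exact (map_zero _).symm

theorem isEffCartier_zeroScheme (hL : PicF.IsInvertible L) {s : Coh.structureModule X ⟶ L} (hs : s ≠ 0) :
    BlowUp.IsEffCartierIdeal (PicF2.zeroScheme L s) := by
  intro x
  obtain ⟨W, e, hxW, he⟩ := Groth.L18.Frame.exists_frame hL x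
  obtain ⟨V, hV, hxV, hVW⟩ := exists_isAffineOpen_mem_and_subset (x := x) (U := W) hxW
  have hVW' : V ≤ W := hVW
  have he' := he.mono hVW'
  obtain ⟨c, hc⟩ := he'.exists_coeff le_rfl (rs L (le_top : V ≤ ⊤) (secOf s))
  rw [rs_self] at hc
  haveI : Nonempty V := ⟨⟨x, hxV⟩⟩
  refine ⟨⟨V, hV⟩, hxV, c, mem_nonZeroDivisors_of_ne_zero (coeff_ne_zero hL hs he' hc.symm), ?_⟩
  rw [Groth.L22.ZeroScheme.zeroScheme_ideal hL]
  exact idealOn_eq_span s he' hc.symm

open Groth.Agent.L19.IdealInvertible (io io_rs io_smul io_inj) in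
/-- If the divisor of `s` is `m` times an effective Cartier divisor, the module is the `m`-th power of its module. -/
theorem nonempty_tensor_pow_iso (hL : PicF.IsInvertible L) (s : Coh.structureModule X ⟶ L) (J : X.IdealSheafData)
    (hJ : BlowUp.IsEffCartierIdeal J) (m : ℕ) (h : PicF2.zeroScheme L s = J ^ m) :
    Nonempty (CohB1.tensorMod L (CohB1.tensorPow (ClSub.idealMod J) m) ≅ Coh.structureModule X) := by
  let K := ClSub.idealMod J
  have key : ∀ x : X, ∃ (V : X.Opens) (e : Γ(L, V)) (g : Γ(K, V)), x ∈ V ∧ IsFrame L V e ∧ IsFrame K V g ∧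
      io J V g ≠ 0 ∧ rs L (le_top : V ≤ ⊤) (secOf s) = io J V g ^ m • e := by
    intro x
    obtain ⟨W, e, hxW, he⟩ := Groth.L18.Frame.exists_frame hL x
    obtain ⟨W', g, hxW', hg⟩ :=
      Groth.L18.Frame.exists_frame ((Groth.Agent.L19.IdealInvertible.isEffCartier_iff J).2 hJ) x
    obtain ⟨V, hV, hxV, hVW⟩ := exists_isAffineOpen_mem_and_subset (x := x) (U := W ⊓ W') ⟨hxW, hxW'⟩
    have hVW' : V ≤ W ⊓ W' := hVW
    have he' := he.mono (hVW'.trans inf_le_left)
    have hg' := hg.mono (hVW'.trans inf_le_right)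
    haveI : Nonempty V := ⟨⟨x, hxV⟩⟩
    generalize rs L (hVW'.trans inf_le_left) e = e₁ at he'
    generalize rs (ClSub.idealMod J) (hVW'.trans inf_le_right) g = g₁ at hg'
    have hπ : io J V g₁ ≠ 0 := fun h0 => by
      have h1 : g₁ = 0 := io_inj J V (h0.trans (map_zero ((ClSub.idealModι J).app V).hom).symm)
      exact one_ne_zero (hg'.inj le_rfl (a := (1 : Γ(X, V))) (b := 0) (by rw [rs_self, h1, smul_zero, smul_zero]))
    have hJV : J.ideal ⟨V, hV⟩ = Ideal.span {io J V g₁} := by
      ext a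
      rw [Groth.L18.IdealModule.mem_ideal_iff J hV, Ideal.mem_span_singleton']
      constructor
      · rintro ⟨n, rfl⟩
        obtain ⟨b, hb⟩ := hg'.exists_coeff le_rfl n
        rw [rs_self] at hb
        exact ⟨b, by rw [← io_smul, hb]⟩
      · rintro ⟨b, rfl⟩
        exact ⟨b • g₁, io_smul J b g₁⟩
    obtain ⟨c, hc⟩ := he'.exists_coeff le_rfl (rs L (le_top : V ≤ ⊤) (secOf s))
    rw [rs_self] at hc
    have hspan : Ideal.span {c} = Ideal.span {io J V g₁ ^ m} := by
      rw [← idealOn_eq_span s he' hc.symm, ← Groth.L22.ZeroScheme.zeroScheme_ideal hL s ⟨V, hV⟩, h,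
        Scheme.IdealSheafData.ideal_pow, Pi.pow_apply, hJV, Ideal.span_singleton_pow]
    obtain ⟨v, hv⟩ := Ideal.span_singleton_eq_span_singleton.1 hspan.symm
    refine ⟨V, (v : Γ(X, V)) • e₁, g₁, hxV, he'.smul_unit v.isUnit, hg', hπ, ?_⟩
    rw [smul_smul, hv, hc]
  choose V e g hxV he hg hπ hse using key
  refine Groth.L22.PicGlue.nonempty_iso_of_gens (M := CohB1.tensorMod L (CohB1.tensorPow K m))
    (M' := Coh.structureModule X) V
    (e := fun i => tens L (CohB1.tensorPow K m) (V i) (e i) (Groth.L18.NormDesc.pf (g i) m))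
    (e' := fun i => (show Γ(Coh.structureModule X, V i) from (1 : Γ(X, V i))))
    (fun i => Groth.L18.GenLoc.isFrame_tens (he i) (Groth.L18.NormDesc.isFrame_pf (hg i) m)) ?_ (fun x => ⟨x, hxV x⟩) ?_
  · intro i W hW
    show Function.Bijective fun a : Γ(X, W) => a * ro hW (1 : Γ(X, V i))
    simp only [show ro hW (1 : Γ(X, V i)) = 1 from map_one _, _root_.mul_one]
    exact Function.bijective_id
  · intro i j W hi hj c hc
    show c * ro hi (1 : Γ(X, V i)) = ro hj (1 : Γ(X, V j))
    rw [show ro hi (1 : Γ(X, V i)) = 1 from map_one _, show ro hj (1 : Γ(X, V j)) = 1 from map_one _, _root_.mul_one]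
    rcases (W : Set X).eq_empty_or_nonempty with hW | ⟨w, hw⟩
    · haveI : Subsingleton Γ(X, W) := by
        rw [show W = ⊥ from TopologicalSpace.Opens.ext hW]
        exact CommRingCat.subsingleton_of_isTerminal X.sheaf.isTerminalOfEmpty
      exact Subsingleton.elim _ _
    haveI : Nonempty W := ⟨⟨w, hw⟩⟩
    obtain ⟨a, ha⟩ := (hg i).exists_coeff hi (rs K hj (g j))
    have hπij : a * io J W (rs K hi (g i)) = io J W (rs K hj (g j)) := by
      rw [← io_smul, ha]
    have hsi := congrArg (rs L hi) (hse i)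
    have hsj := congrArg (rs L hj) (hse j)
    rw [rs_rs, rs_smul, show ro hi (io J (V i) (g i) ^ m) = ro hi (io J (V i) (g i)) ^ m from map_pow _ _ _, show ro hi (io J (V i) (g i)) = io J W (rs K hi (g i)) from (io_rs J hi (g i)).symm]
      at hsi
    rw [rs_rs, rs_smul, show ro hj (io J (V j) (g j) ^ m) = ro hj (io J (V j) (g j)) ^ m from map_pow _ _ _, show ro hj (io J (V j) (g j)) = io J W (rs K hj (g j)) from (io_rs J hj (g j)).symm,
      ← hπij, mul_pow] at hsj
    have hπW : io J W (rs K hi (g i)) ≠ 0 := fun h0 => hπ i (by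
      rw [show io J W (rs K hi (g i)) = ro hi (io J (V i) (g i)) from io_rs J hi (g i)] at h0
      exact map_injective_of_isIntegral X (homOfLE hi) (h0.trans (map_zero _).symm))
    have he2 : a ^ m • rs L hj (e j) = rs L hi (e i) := by
      obtain ⟨d, hd⟩ := (he i).exists_coeff hi (a ^ m • rs L hj (e j))
      have h1 := hsi.symm.trans hsj
      rw [mul_comm (a ^ m), mul_smul, ← hd, smul_smul] at h1
      have h2 := (he i).inj hi h1
      have h3 : d = 1 := mul_left_cancel₀ (pow_ne_zero m hπW) (h2.symm.trans (_root_.mul_one _).symm)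
      rw [← hd, h3, one_smul]
    refine ((Groth.L18.GenLoc.isFrame_tens (he i) (Groth.L18.NormDesc.isFrame_pf (hg i) m)).inj hi ?_)
    rw [one_smul]
    refine hc.trans ?_
    show rs (CohB1.tensorMod L (CohB1.tensorPow K m)) hj _ = rs (CohB1.tensorMod L (CohB1.tensorPow K m)) hi _
    rw [Groth.L18.GenLoc.tens_rs, Groth.L18.GenLoc.tens_rs, Groth.L18.NormDesc.pf_rs, Groth.L18.NormDesc.pf_rs,
      ← ha, Groth.L18.NormDesc.pf_smul, Groth.L18.GenLoc.tens_smul_right, ← Groth.L18.GenLoc.tens_smul_left, he2]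

attribute [local instance] Groth.L08.Cube.clMonoid Groth.Agent.AV.InterPic.picLaw

omit [IsIntegral X] in
theorem cl_tensorPow (M : X.Modules) (n : ℕ) : PicF.cl (CohB1.tensorPow M n) = PicF.cl M ^ n := by
  induction n with
  | zero => rw [pow_zero]; rfl
  | succ n ih => rw [pow_succ, ← ih]; rfl

theorem exists_root (hL : PicF.IsInvertible L) (s : Coh.structureModule X ⟶ L) (J : X.IdealSheafData)
    (hJ : BlowUp.IsEffCartierIdeal J) (m : ℕ) (h : PicF2.zeroScheme L s = J ^ m) :
    ∃ M : X.Modules, PicF.IsInvertible M ∧ PicF.cl L = PicF.cl M ^ m := by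
  obtain ⟨e⟩ := nonempty_tensor_pow_iso hL s J hJ m h
  obtain ⟨M, hM, ⟨e'⟩⟩ := Groth.L08.Cube.exists_inverse ((Groth.Agent.L19.IdealInvertible.isEffCartier_iff J).2 hJ)
  refine ⟨M, hM, ?_⟩
  have h1 : PicF.cl L * PicF.cl (ClSub.idealMod J) ^ m = 1 := by
    rw [← cl_tensorPow]; exact Groth.Agent.AbDualLib.cl_congr e
  have h2 : PicF.cl (ClSub.idealMod J) * PicF.cl M = 1 := Groth.Agent.AbDualLib.cl_congr e'
  calc PicF.cl L = PicF.cl L * (PicF.cl (ClSub.idealMod J) * PicF.cl M) ^ m := by rw [h2, one_pow, _root_.mul_one]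
    _ = PicF.cl M ^ m := by rw [mul_pow, ← _root_.mul_assoc, h1, _root_.one_mul]

end Divisor

section AbVar

attribute [local instance] Groth.L08.Cube.clMonoid Groth.Agent.AV.InterPic.picLaw

open Groth.Agent.AV Groth.Agent.AbDualLib Groth.Agent.Poincare Groth.Agent.Poincare.Rosati

variable {k : Type u} [Field k] [IsAlgClosed k] [CharZero k] {A At : Over (Spec (CommRingCat.of k))}
  [GrpObj A] [IsCommMonObj A] [IsProper A.hom] [GeometricallyIntegral A.hom]
  [GrpObj At] [IsProper At.hom] [GeometricallyIntegral At.hom]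
  {φ : AgPol.DualMap A At} (hA : AbDual.IsDualAV Scheme.fppfPrecoverage A At φ)

include hA in
/-- A module with invertible `φ_L` on a positive dimensional abelian variety is not a proper power. -/
theorem eq_one_of_isIso {g : ℕ} (hg : topologicalKrullDim A.left = g) (hg1 : 1 ≤ g) (L M : A.left.Modules)
    (hL : PicF.IsInvertible L) (hM : PicF.IsInvertible M) (m : ℕ) (hm : m ≠ 0) (h : PicF.cl L = PicF.cl M ^ m)
    [IsIso (Pairing.lamOf φ L hL)] : m = 1 := by
  haveI : IsMonHom (Pairing.lamOf φ M hM) := Groth.Agent.LamPull.isMonHom_lamOf hA M hM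
  let T : Over (Spec (CommRingCat.of k)) := Over.mk (𝟙 (Spec (CommRingCat.of k)))
  have hz : ∀ z : T ⟶ A, z ^ m = 1 → z = 1 := fun z hz => by
    refine (cancel_mono (Pairing.lamOf φ L hL)).1 ?_
    rw [Groth.Agent.LamLinear.lamOf_pow hA M L hM hL m h, MonObj.comp_pow, MonObj.comp_pow, ← MonObj.pow_comp, hz,
      MonObj.one_comp, one_pow]
  have hc := Groth.Agent.AV.TorsCard.card_torsPts (A := A) hg m (Nat.cast_ne_zero.2 hm)
  haveI : Subsingleton (AbDual.torsPts A m T) := ⟨fun a b => Subtype.ext ((hz _ a.2).trans (hz _ b.2).symm)⟩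
  rw [Nat.card_of_subsingleton (1 : AbDual.torsPts A m T)] at hc
  exact (pow_eq_one_iff.1 hc.symm).resolve_right (by omega)

end AbVar

end Groth.Agent.ThetaRed
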