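/-
Biduality for abelian varieties over a field.
-/
import Groth.Agent.L26.AbDual.LamSurj
import Groth.Agent.L26.AbDual.Transpose
import Groth.Agent.L26.AbDual.DegreeTower
import Groth.Agent.L26.AbDual.BaseChange
import Groth.Agent.L00.DimClosedSurj
import Groth.Agent.L26.AV.DimQF
import Groth.Agent.S14133
import Groth.Agent.S19923
import Groth.Agent.S1843

set_option autoImplicit false
set_option linter.style.haveILetI false
set_option backward.isDefEq.respectTransparency false
set_option backward.isDefEq.respectTransparency.types false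

universe u

open CategoryTheory CategoryTheory.Limits MonoidalCategory CartesianMonoidalCategory MonObj GrpObj AlgebraicGeometry
open Groth.Agent.AV Groth.Agent.AbDualLib Groth.Agent.Poincare

noncomputable section

namespace Groth.Agent.Bidual

attribute [local instance] Groth.L08.Cube.clMonoid InterPic.picLaw

section Field

variable {k : Type u} [Field k] {X Xt Xtt : Over (Spec (CommRingCat.of k))}
  [GrpObj X] [IsCommMonObj X] [IsProper X.hom] [GeometricallyIntegral X.hom]
  [GrpObj Xt] [IsCommMonObj Xt] [IsProper Xt.hom] [GeometricallyIntegral Xt.hom]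
  [GrpObj Xtt] [IsCommMonObj Xtt] [IsProper Xtt.hom] [GeometricallyIntegral Xtt.hom]
  {φX : AgPol.DualMap X Xt} {φXt : AgPol.DualMap Xt Xtt}

theorem dim_eq_of_finite {A B : Over (Spec (CommRingCat.of k))} (f : A ⟶ B) [IsFinite f.left] [Surjective f.left] :
    topologicalKrullDim A.left = topologicalKrullDim B.left :=
  Groth.L00.topologicalKrullDim_eq_of_isClosedMap f.left.continuous f.left.isClosedMap f.left.surjective
    fun _ _ h e => Groth.L19.eq_of_specializes_of_isIntegralHom f.left h e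

/-- The class over which the biduality map is defined. -/
abbrev kappa (φXt : AgPol.DualMap Xt Xtt) (ξ : PicF.Cl (PicF.XT X.hom Xt)) : X ⟶ Xtt :=
  φXt X (PicF.pullCl (pullbackSymmetry Xt.hom X.hom).hom ξ)

theorem isIso_kappa (hX : AbDual.IsDualAV Scheme.fppfPrecoverage X Xt φX)
    (hXt : AbDual.IsDualAV Scheme.fppfPrecoverage Xt Xtt φXt)
    {ξ : PicF.Cl (PicF.XT X.hom Xt)} (hξ : AbDual.IsPoincareCl X Xt φX ξ)
    (hξ' : AbDual.IsPicZeroCl Xt.hom X (PicF.pullCl (pullbackSymmetry Xt.hom X.hom).hom ξ))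
    [IsMonHom (kappa φXt ξ)] : IsIso (kappa φXt ξ) := by
  haveI : Smooth X.hom := Groth.Agent.S1843.smooth_hom X
  haveI : Smooth Xt.hom := Groth.Agent.S1843.smooth_hom Xt
  haveI : Smooth Xtt.hom := Groth.Agent.S1843.smooth_hom Xtt
  haveI : GeometricallyConnected X.hom := Isogeny.geometricallyConnected X.hom
  haveI : GeometricallyConnected Xt.hom := Isogeny.geometricallyConnected Xt.hom
  haveI : GeometricallyConnected Xtt.hom := Isogeny.geometricallyConnected Xtt.hom
  haveI : Subsingleton ↥(Spec (CommRingCat.of k)) := inferInstanceAs (Subsingleton (PrimeSpectrum k))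
  haveI : ConnectedSpace ↥Xt.left := GeometricallyConnected.connectedSpace_of_subsingleton Xt.hom
  haveI : ConnectedSpace ↥Xtt.left := GeometricallyConnected.connectedSpace_of_subsingleton Xtt.hom
  -- an ample module and its homomorphism
  obtain ⟨M, hMa⟩ := Degree.exists_isAmple X
  let lam := Pairing.lamOf φX M hMa.1
  haveI : IsMonHom lam := Pairing.isMonHom_lamOf hX hξ M hMa.1
  obtain ⟨KM, iM, -, hKMf, hker⟩ := Groth.Agent.LamSurj.exists_kernel hX M hMa
  haveI := hKMf
  haveI : Surjective lam.left := Groth.Agent.LamSurj.surjective_lamOf hX M hMa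
  obtain ⟨hlf, hlflat⟩ := Groth.L00.TransIsog.isFinite_flat lam iM hker
  haveI := hlf
  haveI := hlflat
  obtain ⟨r, hr⟩ : ∃ r, ∀ y : ↥Xt.left, Scheme.Hom.finrank lam.left y = r :=
    ⟨Scheme.Hom.finrank lam.left (DegTower.one Xt), fun y => by
      haveI := Groth.L00.IsogDual.lfp_left lam
      exact (Scheme.Hom.isLocallyConstant_finrank lam.left).apply_eq_of_preconnectedSpace _ _⟩
  -- its transpose
  obtain ⟨tl, htl⟩ := AbDualTr.exists_transpose hX hXt lam
  obtain ⟨htf, htflat, hts, htr⟩ :=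
    Groth.Agent.S14133.result k X Xt Xt Xtt φX hX φXt hXt lam r hr tl htl
  haveI := htf
  haveI := htflat
  haveI := hts
  haveI : IsMonHom tl := by
    refine isMonHom_of_one tl ?_
    have h := htl (𝟙_ _) (oneCl _) (isPicZeroCl_oneCl Xt.hom _)
    rw [pullCl_oneCl, map_oneCl hX, map_oneCl hXt, Hom.one_def, Hom.one_def, toUnit_unit, Category.id_comp,
      Category.id_comp] at h
    exact h.symm
  -- symmetry
  obtain ⟨Λ, hΛ⟩ := cl_surjective (Pairing.mumCl M hMa.1)
  obtain ⟨b, ⟨N, rfl, hN⟩, hMN⟩ := Groth.L08.Cube.exists_inverseCl (⟨M, rfl, hMa.1⟩ : PicF.IsInvertibleCl (PicF.cl M))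
  have hsym : lam = kappa φXt ξ ≫ tl := by
    have h := Groth.Agent.S19923.result k X Xt Xtt φX hX φXt hXt ξ hξ hξ' M N hMa.1
      ((PicGrp.cl_eq_cl_iff _ _).1 hMN) Λ ((PicGrp.cl_eq_cl_iff _ _).1 ?_)
      (by rw [hΛ]; exact Pairing.isPicZeroCl_mumCl M hMa.1) tl (by rw [hΛ]; exact htl)
    · rw [hΛ] at h
      exact h
    · show (PicF.cl Λ : PicF.Cl (X ⊗ X).left) = PicF.pullCl μ[X].left (PicF.cl M) *
        PicF.pullCl (fst X X).left (PicF.cl N) * PicF.pullCl (snd X X).left (PicF.cl N)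
      rw [← LamSurj.mumCl_spec M hMa.1, hΛ]
      have e : ∀ g : (X ⊗ X).left ⟶ X.left, PicF.pullCl g (PicF.cl M) * PicF.pullCl g (PicF.cl N) = 1 := fun g => by
        rw [← Groth.L08.Cube.pullCl_mul, hMN, Groth.L08.Cube.pullCl_one]
      generalize (Pairing.mumCl M hMa.1 : PicF.Cl (X ⊗ X).left) = m
      calc m = m * (PicF.pullCl (fst X X).left (PicF.cl M) * PicF.pullCl (fst X X).left (PicF.cl N)) *
            (PicF.pullCl (snd X X).left (PicF.cl M) * PicF.pullCl (snd X X).left (PicF.cl N)) := by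
            rw [e, e, _root_.mul_one, _root_.mul_one]
        _ = _ := by ac_rfl
  -- finiteness
  haveI : IsProper ((kappa φXt ξ).left ≫ Xtt.hom) := by rw [Over.w]; infer_instance
  haveI : IsProper (kappa φXt ξ).left := IsProper.of_comp _ Xtt.hom
  haveI : IsFinite ((kappa φXt ξ).left ≫ tl.left) := by rw [← Over.comp_left, ← hsym]; infer_instance
  haveI : IsFinite (kappa φXt ξ).left := IsFinite.of_comp _ tl.left
  haveI : Surjective (kappa φXt ξ).left := surjective_of_isFinite_of_dim_eq X Xtt (kappa φXt ξ)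
    ((dim_eq_of_finite lam).trans (dim_eq_of_finite tl).symm)
  haveI : Flat (kappa φXt ξ).left := (ThetaAV.flat_lfp (f := kappa φXt ξ) ‹_›).1
  haveI := Groth.L00.IsogDual.lfp_left (kappa φXt ξ)
  obtain ⟨a, ha⟩ : ∃ a, ∀ y : ↥Xtt.left, Scheme.Hom.finrank (kappa φXt ξ).left y = a :=
    ⟨Scheme.Hom.finrank (kappa φXt ξ).left (DegTower.one Xtt), fun y =>
      (Scheme.Hom.isLocallyConstant_finrank (kappa φXt ξ).left).apply_eq_of_preconnectedSpace _ _⟩
  have h := DegTower.finrank_comp_one (kappa φXt ξ) ha tl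
  rw [← hsym, hr, htr] at h
  have hr1 : 0 < r := by
    haveI := Groth.L00.IsogDual.lfp_left lam
    rw [← hr (DegTower.one Xt)]
    exact (Scheme.Hom.one_le_finrank_iff_surjective (f := lam.left)).2 ‹_› _
  have ha1 : a = 1 := Nat.eq_of_mul_eq_mul_right hr1 (by rw [_root_.one_mul]; exact h.symm)
  haveI : IsIso (kappa φXt ξ).left :=
    (Scheme.Hom.isIso_iff_finrank_eq _).2 (funext fun y => (ha y).trans (ha1 ▸ rfl))
  haveI : IsIso ((Over.forget (Spec (CommRingCat.of k))).map (kappa φXt ξ)) := ‹IsIso (kappa φXt ξ).left›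
  exact isIso_of_reflects_iso _ (Over.forget _)

end Field

section Base

variable {S R : Scheme.{u}} (q : R ⟶ S) {X Xt Xtt : Over S} [GrpObj X] [GrpObj Xt]
  {φX : AgPol.DualMap X Xt}

/-- The Poincaré class of a base change. -/
abbrev xiBC (ξ : PicF.Cl (PicF.XT X.hom Xt)) : PicF.Cl (PicF.XT (Red.bc q X).hom (Red.bc q Xt)) :=
  PicF.pullCl (AgPol.bcXTIso q X (Red.bc q Xt)).hom
    (PicF.pullCl (PicF.XTmap X.hom (KLFinite.down q (𝟙 (Red.bc q Xt)))) ξ)

theorem one_bc_fst (X : Over S) [GrpObj X] : η[Red.bc q X].left ≫ pullback.fst X.hom q = q ≫ η[X].left := by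
  change (Functor.LaxMonoidal.ε (Over.pullback q) ≫ (Over.pullback q).map η[X]).left ≫ pullback.fst X.hom q = _
  have h1 : ((Over.pullback q).map η[X]).left ≫ pullback.fst X.hom q = pullback.fst (𝟙_ (Over S)).hom q ≫ η[X].left :=
    pullback.lift_fst _ _ _
  have h2 : (Functor.LaxMonoidal.ε (Over.pullback q)).left ≫ pullback.fst (𝟙_ (Over S)).hom q = q := by
    have := Over.w (Functor.LaxMonoidal.ε (Over.pullback q))
    refine (Category.comp_id _).symm.trans ?_
    show ((Functor.LaxMonoidal.ε (Over.pullback q)).left ≫ pullback.fst (𝟙_ (Over S)).hom q) ≫ (𝟙_ (Over S)).hom = q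
    rw [Category.assoc, pullback.condition]
    exact (Category.assoc _ _ _).symm.trans ((congrArg (· ≫ q) this).trans (Category.id_comp q))
  rw [Over.comp_left, Category.assoc, h1]
  exact (Category.assoc _ _ _).symm.trans (congrArg (· ≫ η[X].left) h2)

theorem isPoincareCl_bc (hX : AbDual.IsDualAV Scheme.fppfPrecoverage X Xt φX)
    {ξ : PicF.Cl (PicF.XT X.hom Xt)} (hξ : AbDual.IsPoincareCl X Xt φX ξ) :
    AbDual.IsPoincareCl (Red.bc q X) (Red.bc q Xt) (AgPol.bcDual q X Xt φX) (xiBC q ξ) := by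
  refine ⟨AbDualBC.isPicZeroCl_up q X (isPicZeroCl_XTmap _ _ hξ.1), AbDualBC.down_injective q ?_, ?_⟩
  · rw [AbDualBC.down_bcDual, AbDualBC.dnCl_up, hX.relPic.natural _ _ _ _ hξ.1, hξ.2.1, Category.comp_id]
  · have e : PicF.secT (Red.bc q X).hom η[Red.bc q X].left (Over.w η[Red.bc q X]) (Red.bc q Xt) ≫
        (AgPol.bcXTIso q X (Red.bc q Xt)).hom ≫ PicF.XTmap X.hom (KLFinite.down q (𝟙 (Red.bc q Xt))) =
        pullback.fst Xt.hom q ≫ PicF.secT X.hom η[X].left (Over.w η[X]) Xt := by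
      apply pullback.hom_ext
      · simp only [PicF.secT, PicF.XTmap, AgPol.bcXTIso, Category.assoc, pullback.lift_fst, Category.comp_id]
        erw [pullbackLeftPullbackSndIso_hom_fst, pullback.lift_fst_assoc]
        rw [Category.assoc, one_bc_fst]
        exact ((congrArg (· ≫ η[X].left) (pullback.condition (f := Xt.hom) (g := q))).trans (Category.assoc _ _ _)).symm.trans (Category.assoc _ _ _)
      · simp only [PicF.secT, PicF.XTmap, AgPol.bcXTIso, Category.assoc, pullback.lift_snd, Category.comp_id]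
        erw [pullbackLeftPullbackSndIso_hom_snd_assoc, pullback.lift_snd_assoc]
        simp [KLFinite.down]
    rw [PicF.IsTrivialCl] at *
    rw [xiBC, ← PicLoc.pullCl_comp, ← PicLoc.pullCl_comp]
    erw [e]
    rw [PicLoc.pullCl_comp, hξ.2.2]
    exact pullCl_oneCl _

theorem swap_eq (ξ : PicF.Cl (PicF.XT X.hom Xt)) :
    PicF.pullCl (pullbackSymmetry (Red.bc q Xt).hom (Red.bc q X).hom).hom (xiBC q ξ) =
      PicF.pullCl (AgPol.bcXTIso q Xt (Red.bc q X)).hom
        (PicF.pullCl (PicF.XTmap Xt.hom (KLFinite.down q (𝟙 (Red.bc q X))))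
          (PicF.pullCl (pullbackSymmetry Xt.hom X.hom).hom ξ)) := by
  simp only [xiBC, ← PicLoc.pullCl_comp, Category.assoc]
  refine congrArg (fun g => PicF.pullCl g ξ) ?_
  apply pullback.hom_ext
  · simp only [PicF.XTmap, AgPol.bcXTIso, Category.assoc, pullbackSymmetry_hom_comp_fst, pullback.lift_fst,
      pullback.lift_snd, Category.comp_id, pullbackLeftPullbackSndIso_hom_fst, pullbackLeftPullbackSndIso_hom_snd_assoc,
      pullbackSymmetry_hom_comp_fst_assoc]
    simp [KLFinite.down]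
  · simp only [PicF.XTmap, AgPol.bcXTIso, Category.assoc, pullbackSymmetry_hom_comp_snd, pullback.lift_fst,
      pullback.lift_snd, pullback.lift_snd_assoc, Category.comp_id, pullbackLeftPullbackSndIso_hom_fst,
      pullbackLeftPullbackSndIso_hom_snd_assoc, pullbackSymmetry_hom_comp_snd_assoc]
    simp [KLFinite.down]

variable [GrpObj Xtt] {φXt : AgPol.DualMap Xt Xtt}

theorem kappa_bc (hXt : AbDual.IsDualAV Scheme.fppfPrecoverage Xt Xtt φXt) {ξ : PicF.Cl (PicF.XT X.hom Xt)}
    (hξ' : AbDual.IsPicZeroCl Xt.hom X (PicF.pullCl (pullbackSymmetry Xt.hom X.hom).hom ξ)) :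
    AbDual.IsPicZeroCl (Red.bc q Xt).hom (Red.bc q X)
        (PicF.pullCl (pullbackSymmetry (Red.bc q Xt).hom (Red.bc q X).hom).hom (xiBC q ξ)) ∧
      AgPol.bcDual q Xt Xtt φXt (Red.bc q X)
        (PicF.pullCl (pullbackSymmetry (Red.bc q Xt).hom (Red.bc q X).hom).hom (xiBC q ξ)) =
      (Over.pullback q).map (φXt X (PicF.pullCl (pullbackSymmetry Xt.hom X.hom).hom ξ)) := by
  rw [swap_eq]
  refine ⟨AbDualBC.isPicZeroCl_up q Xt (isPicZeroCl_XTmap _ _ hξ'), AbDualBC.down_injective q ?_⟩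
  rw [AbDualBC.down_bcDual, AbDualBC.dnCl_up, hXt.relPic.natural _ _ _ _ hξ']
  refine Over.OverMorphism.ext ?_
  show (𝟙 _ ≫ pullback.fst X.hom q) ≫ _ = _ ≫ pullback.fst Xtt.hom q
  rw [Category.id_comp]
  exact (pullback.lift_fst _ _ _).symm

end Base

end Groth.Agent.Bidual
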