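/-
A dual abelian variety over an algebraically closed field carries a Poincaré class.
-/
import Groth.Agent.S12403
import Groth.Agent.L26.InvDescent.Disjoint
import Groth.Agent.L26.AbDual.Universal
import Groth.Agent.L26.AbDual.Additive
import Groth.Agent.L26.AbDual.Cancel
import Groth.Agent.L26.KL.Basic
import Groth.Agent.L26.AV.Isogeny
import Groth.Agent.L00.TransIsog
import Groth.Agent.L08.Cube.ThreeMaps

set_option autoImplicit false
set_option linter.style.haveILetI false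
set_option linter.unusedSectionVars false
set_option maxSynthPendingDepth 3
set_option backward.isDefEq.respectTransparency false
set_option backward.isDefEq.respectTransparency.types false

universe u

open CategoryTheory CategoryTheory.Limits MonoidalCategory CartesianMonoidalCategory MonObj GrpObj AlgebraicGeometry

noncomputable section

namespace Groth.Agent.AbDualLib

section Classes

variable {X S : Scheme.{u}} (f : X ⟶ S)

/-- Classes coming from the base are algebraically equivalent to zero on the fibres. -/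
theorem isPicZeroCl_pullCl_proj (T : Over S) {b : PicF.Cl T.left} (hb : PicF.IsInvertibleCl b) :
    AbDual.IsPicZeroCl f T (PicF.pullCl (PicF.XTproj f T) b) := by
  obtain ⟨N, rfl, hN⟩ := hb
  refine ⟨_, rfl, PicLoc.isInvertible_pullback _ hN, fun t Ω _ _ τ hτ => ?_⟩
  haveI : Subsingleton ↥(Spec (CommRingCat.of Ω)) := inferInstanceAs (Subsingleton (PrimeSpectrum Ω))
  obtain ⟨e0⟩ := (PicGrp.cl_eq_cl_iff _ _).1
    (eq_oneCl_of_subsingleton (PicLoc.isInvertibleCl_pullCl τ ⟨N, rfl, hN⟩))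
  let F := pullback (PicF.XTproj f T) τ
  refine ⟨Spec (CommRingCat.of Ω), 𝟙 _, (inferInstanceAs (ConnectedSpace (PrimeSpectrum Ω))), inferInstance,
    inferInstance, Coh.structureModule _, Groth.L18.Ample.isInvertible_structureModule _, 𝟙 _, 𝟙 _,
    Category.id_comp _, Category.id_comp _, ⟨?_⟩, ⟨Groth.L29.LocFree.pullbackUnitIso _⟩⟩
  exact Groth.L29.LocFree.pullbackUnitIso _ ≪≫ (Groth.L29.LocFree.pullbackUnitIso (pullback.snd _ τ)).symm ≪≫
    (Scheme.Modules.pullback (pullback.snd (PicF.XTproj f T) τ)).mapIso e0.symm ≪≫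
    (Scheme.Modules.pullbackComp _ _).app N ≪≫ (Scheme.Modules.pullbackCongr pullback.condition.symm).app N ≪≫
    ((Scheme.Modules.pullbackComp _ _).app N).symm

/-- Membership in Pic⁰ is tested on an open covering of the base. -/
theorem isPicZeroCl_of_openCover {T : Over S} {J : Type u} {U : J → Over S} (q : ∀ j, U j ⟶ T)
    [∀ j, IsOpenImmersion (q j).left] (hcov : ∀ t : T.left, ∃ j, t ∈ Set.range (q j).left)
    {c : PicF.Cl (PicF.XT f T)} (hc : PicF.IsInvertibleCl c)
    (h : ∀ j, AbDual.IsPicZeroCl f (U j) (PicF.pullCl (PicF.XTmap f (q j)) c)) : AbDual.IsPicZeroCl f T c := by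
  obtain ⟨M, hM, hMi⟩ := hc
  refine ⟨M, hM, hMi, fun t Ω _ _ τ hτ => ?_⟩
  obtain ⟨j, y, hy⟩ := hcov t
  have hle : Set.range τ ⊆ Set.range (q j).left := by
    intro z hz
    obtain rfl : z = t := hτ.le hz
    exact ⟨y, hy⟩
  let τ' := IsOpenImmersion.lift (q j).left τ hle
  have hτ' : τ' ≫ (q j).left = τ := IsOpenImmersion.lift_fac _ _ _
  obtain ⟨M', hM', hM'i, hfib⟩ := h j
  obtain ⟨pt⟩ : Nonempty ↥(Spec (CommRingCat.of Ω)) := inferInstance
  haveI : Subsingleton ↥(Spec (CommRingCat.of Ω)) := inferInstanceAs (Subsingleton (PrimeSpectrum Ω))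
  have hr : Set.range τ'.base = {τ' pt} :=
    Set.ext fun z => ⟨fun ⟨w, hw⟩ => hw ▸ congrArg τ' (Subsingleton.elim w pt), fun hz => ⟨pt, hz.symm⟩⟩
  let e : pullback (PicF.XTproj f T) τ ⟶ pullback (PicF.XTproj f (U j)) τ' :=
    pullback.lift (pullback.lift (pullback.fst _ τ ≫ pullback.fst f T.hom) (pullback.snd _ τ ≫ τ') (by
        rw [Category.assoc, pullback.condition (f := f), ← Category.assoc,
          pullback.condition (f := PicF.XTproj f T) (g := τ), Category.assoc, Category.assoc,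
          ← Over.w (q j), reassoc_of% hτ']))
      (pullback.snd _ τ) (pullback.lift_snd _ _ _)
  have he : (e ≫ pullback.fst (PicF.XTproj f (U j)) τ') ≫ PicF.XTmap f (q j) =
      pullback.fst (PicF.XTproj f T) τ := by
    rw [pullback.lift_fst]
    apply pullback.hom_ext
    · rw [Category.assoc, XTmap_fst, pullback.lift_fst]
    · rw [Category.assoc, XTmap_snd, pullback.lift_snd_assoc, Category.assoc, hτ']
      exact (pullback.condition (f := PicF.XTproj f T) (g := τ)).symm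
  have key := @isAlgEquivZero_pullback Ω _ _ _ ⟨pullback.snd _ _⟩ ⟨pullback.snd _ _⟩ e
    (pullback.lift_snd _ _ _) _ (hfib (τ' pt) Ω τ' hr)
  have hcl : PicF.pullCl e (PicF.pullCl (pullback.fst (PicF.XTproj f (U j)) τ') (PicF.cl M')) =
      PicF.pullCl (pullback.fst (PicF.XTproj f T) τ) (PicF.cl M) := by
    rw [hM', ← hM, ← PicLoc.pullCl_comp, ← PicLoc.pullCl_comp, he]
  obtain ⟨Q, p, h1, h2, h3, N, hN, a, a₀, ha, ha₀, ⟨ψ⟩, h4⟩ := key
  exact ⟨Q, p, h1, h2, h3, N, hN, a, a₀, ha, ha₀, ⟨ψ ≪≫ ((PicGrp.cl_eq_cl_iff _ _).1 hcl).some⟩, h4⟩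

end Classes

variable {k : Type u} [Field k] [IsAlgClosed k] {A At : Over (Spec (CommRingCat.of k))}
  [GrpObj A] [IsProper A.hom] [Smooth A.hom] [GeometricallyConnected A.hom]
  [GrpObj At] [IsProper At.hom] [Smooth At.hom] [GeometricallyConnected At.hom]
  {φ : ∀ T : Over (Spec (CommRingCat.of k)), PicF.Cl (PicF.XT A.hom T) → (T ⟶ At)}

/-- Twisting by a class from the base does not change the point. -/
theorem map_twist (hA : AbDual.IsDualAV Scheme.fppfPrecoverage A At φ) (T : Over (Spec (CommRingCat.of k)))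
    {c : PicF.Cl (PicF.XT A.hom T)} (hc : AbDual.IsPicZeroCl A.hom T c) {b : PicF.Cl T.left}
    (hb : PicF.IsInvertibleCl b) :
    φ T (PicGrp.mulCl c (PicF.pullCl (PicF.XTproj A.hom T) b)) = φ T c := by
  refine hom_ext_of_trivial hb fun T' j hj => ?_
  rw [← hA.relPic.natural _ _ j _ (isPicZeroCl_mulCl hc (isPicZeroCl_pullCl_proj A.hom T hb)),
    ← hA.relPic.natural _ _ j _ hc]
  congr 1
  rw [pullCl_mulCl, ← PicLoc.pullCl_comp, show PicF.XTmap A.hom j ≫ PicF.XTproj A.hom T =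
    pullback.snd A.hom _ ≫ j.left from XTmap_snd A.hom j, PicLoc.pullCl_comp, hj, pullCl_oneCl, mul_oneCl]

set_option maxHeartbeats 1600000 in
/-- A dual abelian variety over an algebraically closed field carries a Poincaré class. -/
theorem exists_poincareCl (hA : AbDual.IsDualAV Scheme.fppfPrecoverage A At φ) :
    ∃ ξ : PicF.Cl (PicF.XT A.hom At), AbDual.IsPoincareCl A At φ ξ := by
  haveI : Subsingleton ↥(Spec (CommRingCat.of k)) := inferInstanceAs (Subsingleton (PrimeSpectrum k))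
  haveI : Surjective A.hom := ⟨fun y => ⟨η[A].left y, Subsingleton.elim _ _⟩⟩
  let σ := η[A].left
  have hσ : σ ≫ A.hom = 𝟙 _ := Over.w η[A]
  have ha : ∀ (T : Over (Spec (CommRingCat.of k))) (U : T.left.Opens), IsIso ((PicF.XTproj A.hom T).app U) :=
    fun T U => isIso_app_XTproj A.hom fibConst_abelian σ hσ T U
  obtain ⟨R, hR, hc⟩ := hA.relPic.locallySurjective At (𝟙 At)
  have hcov : ∀ t : At.left, ∃ (Z : Scheme.{u}) (v : Z ⟶ At.left), R v ∧ t ∈ Set.range v := by
    intro t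
    obtain ⟨Z, v, hv, hz⟩ :=
      (inferInstance : Scheme.JointlySurjective (Scheme.precoverage (@Flat ⊓ @LocallyOfFinitePresentation))).exists_eq R hR t
    exact ⟨Z, v, hv, hz⟩
  choose Z v hv hz using hcov
  haveI : ∀ t, Flat (v t) := fun t => (hR.2 (hv t)).1
  haveI : ∀ t, LocallyOfFinitePresentation (v t) := fun t => (hR.2 (hv t)).2
  choose c₀ hc₀ hφ₀ using fun t => hc (v t) (hv t)
  let u : (∐ Z) ⟶ At.left := Limits.Sigma.desc v
  haveI : Flat u := IsZariskiLocalAtSource.sigmaDesc fun t => (inferInstance : Flat (v t))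
  haveI : LocallyOfFinitePresentation u :=
    IsZariskiLocalAtSource.sigmaDesc fun t => (inferInstance : LocallyOfFinitePresentation (v t))
  haveI : Surjective u := Surjective.sigmaDesc_of_union_range_eq_univ
    (Set.eq_univ_iff_forall.2 fun t => Set.mem_iUnion.2 ⟨t, hz t⟩)
  let T₁ : Over (Spec (CommRingCat.of k)) := AbDual.ovr At u
  let q : ∀ t, AbDual.ovr At (v t) ⟶ T₁ := fun t => Over.homMk (Limits.Sigma.ι Z t) (by
    show Limits.Sigma.ι Z t ≫ u ≫ At.hom = v t ≫ At.hom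
    rw [Limits.Sigma.ι_desc_assoc])
  have hq : ∀ t, q t ≫ AbDual.ovrHom At u = AbDual.ovrHom At (v t) := fun t =>
    Over.OverMorphism.ext (Limits.Sigma.ι_desc v t)
  haveI : ∀ t, IsOpenImmersion (q t).left := fun t => inferInstanceAs (IsOpenImmersion (Limits.Sigma.ι Z t))
  haveI : ∀ t, IsOpenImmersion (PicF.XTmap A.hom (q t)) := fun t => by
    unfold PicF.XTmap; infer_instance
  have hsnd : ∀ t, PicF.XTmap A.hom (q t) ≫ pullback.snd A.hom T₁.hom = pullback.snd A.hom _ ≫ (q t).left :=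
    fun t => XTmap_snd A.hom (q t)
  have hdis : ∀ i j, i ≠ j → ∀ a b, PicF.XTmap A.hom (q i) a ≠ PicF.XTmap A.hom (q j) b := by
    intro i j hij a b hab
    have h := congrArg (pullback.snd A.hom T₁.hom) hab
    rw [← Scheme.Hom.comp_apply, ← Scheme.Hom.comp_apply, hsnd, hsnd, Scheme.Hom.comp_apply,
      Scheme.Hom.comp_apply] at h
    exact hij (congrArg Sigma.fst ((sigmaι_eq_iff Z i j _ _).1 h))
  have hcovT : ∀ y : PicF.XT A.hom T₁, ∃ t a, PicF.XTmap A.hom (q t) a = y := by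
    intro y
    obtain ⟨t, z, hzy⟩ := (sigmaOpenCover Z).exists_eq (pullback.snd A.hom T₁.hom y)
    refine ⟨t, ?_⟩
    have : y ∈ Set.range (PicF.XTmap A.hom (q t)) := by
      rw [PicF.XTmap, Scheme.Pullback.range_map]
      exact ⟨⟨y |> pullback.fst A.hom T₁.hom, rfl⟩, ⟨z, hzy⟩⟩
    exact this
  choose L hLc hL hLfib using hc₀
  obtain ⟨M, hM, hMi⟩ := InvDescent.exists_of_disjoint _ (fun t => PicF.XTmap A.hom (q t)) hdis hcovT L hL
  have hMc : ∀ t, PicF.pullCl (PicF.XTmap A.hom (q t)) (PicF.cl M) = c₀ t := fun t =>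
    ((PicGrp.cl_eq_cl_iff _ _).2 (hMi t)).trans (hLc t)
  have hM0 : AbDual.IsPicZeroCl A.hom T₁ (PicF.cl M) := by
    refine isPicZeroCl_of_openCover A.hom q (fun y => ?_) ⟨M, rfl, hM⟩ fun t => by
      rw [hMc]; exact ⟨L t, hLc t, hL t, hLfib t⟩
    obtain ⟨t, z, hzy⟩ := (sigmaOpenCover Z).exists_eq y
    exact ⟨t, z, hzy⟩
  have hφM : φ T₁ (PicF.cl M) = AbDual.ovrHom At u := by
    refine Over.OverMorphism.ext (Limits.Sigma.hom_ext _ _ fun t => ?_)
    have h1 := hA.relPic.natural _ _ (q t) (PicF.cl M) hM0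
    rw [hMc, hφ₀ t, Category.comp_id, ← hq t] at h1
    exact (congrArg CommaMorphism.left h1).symm
  -- rigidify
  obtain ⟨b, hb, hab⟩ := Groth.L08.Cube.exists_inverseCl
    (PicLoc.isInvertibleCl_pullCl (PicF.secT A.hom σ hσ T₁) ⟨M, rfl, hM⟩)
  let c' := PicGrp.mulCl (PicF.cl M) (PicF.pullCl (PicF.XTproj A.hom T₁) b)
  have hc'0 : AbDual.IsPicZeroCl A.hom T₁ c' := isPicZeroCl_mulCl hM0 (isPicZeroCl_pullCl_proj A.hom T₁ hb)
  have hc'r : PicF.pullCl (PicF.secT A.hom σ hσ T₁) c' = oneCl _ := by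
    rw [pullCl_mulCl, ← PicLoc.pullCl_comp, show PicF.secT A.hom σ hσ T₁ ≫ PicF.XTproj A.hom T₁ = 𝟙 _ from
      secT_snd A.hom σ hσ T₁, PicLoc.pullCl_id]
    exact hab
  have hc'φ : φ T₁ c' = AbDual.ovrHom At u := (map_twist hA T₁ hM0 hb).trans hφM
  have hrig : ∀ {V : Over (Spec (CommRingCat.of k))} (r : V ⟶ T₁),
      PicF.pullCl (PicF.secT A.hom σ hσ V) (PicF.pullCl (PicF.XTmap A.hom r) c') = oneCl _ := fun r => by
    rw [← PicLoc.pullCl_comp, secT_XTmap, PicLoc.pullCl_comp, hc'r, pullCl_oneCl]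
  let p₂ : AbDual.ovr T₁ (pullback.fst u u) ⟶ T₁ :=
    Over.homMk (pullback.snd u u) (pullback.condition_assoc At.hom).symm
  have hglue : PicF.pullCl (PicF.XTmap A.hom (AbDual.ovrHom T₁ (pullback.fst u u))) c' =
      PicF.pullCl (PicF.XTmap A.hom p₂) c' := by
    refine eq_of_map_eq hA (isPicZeroCl_XTmap _ _ hc'0) (isPicZeroCl_XTmap _ _ hc'0) (hrig _) (hrig _) ?_
    rw [hA.relPic.natural _ _ _ _ hc'0, hA.relPic.natural _ _ _ _ hc'0, hc'φ]
    exact Over.OverMorphism.ext pullback.condition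
  obtain ⟨⟨ξ, hξi, hξr⟩, hξu, -⟩ := Groth.Agent.S12403.result A.hom σ hσ ha At u
    ⟨c', isInvertibleCl_of_isPicZeroCl hc'0, hc'r⟩ hglue
  -- the fibre over the origin
  let T0 := 𝟙_ (Over (Spec (CommRingCat.of k)))
  obtain ⟨y0, hy0⟩ : ∃ y0 : T0 ⟶ T₁, y0 ≫ AbDual.ovrHom At u = η[At] := by
    haveI : Nonempty ↥T0.left := inferInstanceAs (Nonempty (PrimeSpectrum k))
    haveI : Surjective (pullback.snd u η[At].left) := inferInstance
    haveI : LocallyOfFiniteType (pullback.snd u η[At].left) := inferInstance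
    haveI : Nonempty ↥(pullback u η[At].left) :=
      ⟨((pullback.snd u η[At].left).surjective (Classical.arbitrary _)).choose⟩
    obtain ⟨s, hs⟩ := Groth.L00.TransIsog.exists_point (Ω := k) (pullback.snd u η[At].left)
    refine ⟨Over.homMk (s ≫ pullback.fst u η[At].left) ?_, Over.OverMorphism.ext ?_⟩
    · show (s ≫ pullback.fst u η[At].left) ≫ u ≫ At.hom = _
      rw [Category.assoc, pullback.condition_assoc, Over.w η[At], reassoc_of% hs]
    · show (s ≫ pullback.fst u η[At].left) ≫ u = η[At].left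
      rw [Category.assoc, pullback.condition, reassoc_of% hs]
  have h0 : PicF.pullCl (PicF.XTmap A.hom η[At]) ξ = oneCl _ := by
    have e : PicF.pullCl (PicF.XTmap A.hom η[At]) ξ = PicF.pullCl (PicF.XTmap A.hom y0) c' := by
      rw [← hy0, XTmap_comp, PicLoc.pullCl_comp, hξu]
    rw [e]
    refine eq_of_map_eq hA (isPicZeroCl_XTmap _ _ hc'0) (isPicZeroCl_oneCl A.hom _) (hrig _) (pullCl_oneCl _) ?_
    rw [hA.relPic.natural _ _ _ _ hc'0, hc'φ, hy0, map_oneCl hA, Hom.one_def, toUnit_unit, Category.id_comp]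
  have hξ0 : AbDual.IsPicZeroCl A.hom At ξ := KLLib.isPicZeroCl_of_slice A At η[At] hξi h0
  refine ⟨ξ, hξ0, ?_, hξr⟩
  have h1 := hA.relPic.natural _ _ (AbDual.ovrHom At u) ξ hξ0
  rw [hξu, hc'φ] at h1
  haveI : Epi u := Flat.epi_of_flat_of_surjective u
  refine Over.OverMorphism.ext ((cancel_epi u).1 ?_)
  have h2 := congrArg CommaMorphism.left h1
  exact h2.symm.trans (Category.comp_id u).symm

end Groth.Agent.AbDualLib
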