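/-
A symmetric homomorphism to the dual is attached to a module over an algebraically closed field.
-/
import Groth.Agent.L26.AbDual.LamLinear
import Groth.Agent.L26.Theta.PairingMul
import Groth.Agent.L26.Theta.AbVar
import Groth.Agent.L26.Theta.Kernel
import Groth.Agent.L26.Poincare.PullKernel
import Groth.Agent.L00.IsogenyDual
import Groth.Agent.L08.SubgroupObj
import Groth.Agent.S19948
import Groth.Agent.S19775

set_option autoImplicit false
set_option linter.style.haveILetI false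
set_option backward.isDefEq.respectTransparency false
set_option backward.isDefEq.respectTransparency.types false

universe u

open CategoryTheory CategoryTheory.Limits MonoidalCategory CartesianMonoidalCategory MonObj GrpObj AlgebraicGeometry
open Groth.Agent.AV Groth.Agent.AbDualLib Groth.Agent.Poincare Groth.Agent.ThetaPairing

noncomputable section

namespace Groth.Agent.Symm

attribute [local instance] Groth.L08.Cube.clMonoid InterPic.picLaw

variable {k : Type u} [Field k]

theorem isMonHom_pow {A : Over (Spec (CommRingCat.of k))} [GrpObj A] [IsProper A.hom] [GeometricallyIntegral A.hom]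
    (n : ℕ) : IsMonHom (𝟙 A ^ n : A ⟶ A) := by
  refine isMonHom_of_one _ ?_
  rw [MonObj.comp_pow, Category.comp_id, show (η[A] : 𝟙_ (Over (Spec (CommRingCat.of k))) ⟶ A) = 1 by
    rw [Hom.one_def, toUnit_unit, Category.id_comp], one_pow]

variable {X Xt : Over (Spec (CommRingCat.of k))}
  [GrpObj X] [IsCommMonObj X] [IsProper X.hom] [GeometricallyIntegral X.hom]
  [GrpObj Xt] [IsCommMonObj Xt] [IsProper Xt.hom] [GeometricallyIntegral Xt.hom]
  {φ : AgPol.DualMap X Xt} {φ' : AgPol.DualMap Xt X}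
  (hφ : AbDual.IsDualAV Scheme.fppfPrecoverage X Xt φ)
  {ξ : PicF.Cl (PicF.XT X.hom Xt)} (hξ : AbDual.IsPoincareCl X Xt φ ξ)
  (hξ' : AbDual.IsPoincareCl Xt X φ' (PicF.pullCl (pullbackSymmetry Xt.hom X.hom).hom ξ))
  (lam : X ⟶ Xt) [IsMonHom lam] (hsymm : AbDual.IsTranspose lam φ φ' lam)

include hξ hξ' hφ hsymm in
/-- The two classes of a symmetric homomorphism agree. -/
theorem lamCl_symm : lamCl' ξ lam = lamCl ξ lam ∧ AbDual.IsPicZeroCl X.hom X (lamCl ξ lam) ∧
    φ X (lamCl ξ lam) = lam := by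
  haveI : Smooth X.hom :=
    haveI : GrpObj (Over.mk X.hom) := inferInstanceAs (GrpObj X)
    smooth_of_grpObj X.hom
  haveI : GeometricallyConnected X.hom := Isogeny.geometricallyConnected X.hom
  have h1 : AbDual.IsPicZeroCl X.hom X (lamCl ξ lam) := by
    rw [lamCl, ← bil_whiskerLeft]
    exact isPicZeroCl_XTmap _ _ hξ.1
  have h1v : φ X (lamCl ξ lam) = lam := by
    rw [lamCl, ← bil_whiskerLeft, hφ.relPic.natural Xt X lam ξ hξ.1, hξ.2.1, Category.comp_id]
  refine ⟨?_, h1, h1v⟩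
  have e : lamCl' ξ lam = PicF.pullCl (AbDual.bcMap lam X) (PicF.pullCl (pullbackSymmetry Xt.hom X.hom).hom ξ) := by
    rw [lamCl', bil, ← PicLoc.pullCl_comp]
    refine congrArg (fun g => PicF.pullCl g ξ) ?_
    apply pullback.hom_ext
    · rw [Category.assoc, pullbackSymmetry_hom_comp_fst]
      erw [bcMap_snd]
      show (lift (snd X X) (fst X X ≫ lam) ≫ fst X Xt).left = _
      rw [lift_fst]
      rfl
    · rw [Category.assoc, pullbackSymmetry_hom_comp_snd]
      show (lift (snd X X) (fst X X ≫ lam) ≫ snd X Xt).left = _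
      rw [lift_snd]
      exact (pullback.lift_fst _ _ _).symm
  have h2 : AbDual.IsPicZeroCl X.hom X (lamCl' ξ lam) := e ▸ isPicZeroCl_bcMap lam X hξ'.1
  have h2v : φ X (lamCl' ξ lam) = lam := by rw [e, hsymm X _ hξ'.1, hξ'.2.1, Category.id_comp]
  refine eq_of_map_eq hφ h2 h1 ?_ ?_ (h2v.trans h1v.symm)
  · rw [secT_eq_lift]
    erw [pullCl_bil]
    rw [lift_snd, lift_fst_assoc, ← Hom.one_def, MonObj.one_comp]
    exact congrArg (fun z => (Additive.toMul z).1) (Pairing.xi_one_right hφ hξ (𝟙 X))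
  · rw [secT_eq_lift]
    erw [pullCl_bil]
    rw [lift_fst, ← Hom.one_def]
    exact bil_one_left hξ _

include hξ hξ' hφ hsymm in
/-- The module of the graph. -/
theorem exists_double : ∃ (L : X.left.Modules) (hL : PicF.IsInvertible L), Pairing.lamOf φ L hL = lam * lam := by
  haveI : Smooth X.hom :=
    haveI : GrpObj (Over.mk X.hom) := inferInstanceAs (GrpObj X)
    smooth_of_grpObj X.hom
  haveI : GeometricallyConnected X.hom := Isogeny.geometricallyConnected X.hom
  obtain ⟨hs, h1, h1v⟩ := lamCl_symm hφ hξ hξ' lam hsymm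
  obtain ⟨L, hLc⟩ := cl_surjective (bil ξ (𝟙 X) lam)
  have hL : PicF.IsInvertible L := isInvertible_of_isInvertibleCl
    (hLc ▸ PicLoc.isInvertibleCl_pullCl _ (isInvertibleCl_of_isPicZeroCl hξ.1))
  refine ⟨L, hL, ?_⟩
  have hm : (Pairing.mumCl L hL : PicF.Cl (X ⊗ X).left) = PicGrp.mulCl (lamCl ξ lam) (lamCl' ξ lam) := by
    refine mulCl_right_cancel (c := PicF.pullCl (fst X X).left (PicF.cl L) * PicF.pullCl (snd X X).left (PicF.cl L))
      (Orth.bil L hL (fst X X) (snd X X)).toMul.2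
      (isInvertibleCl_mulCl (isInvertibleCl_of_isPicZeroCl h1) (hs ▸ isInvertibleCl_of_isPicZeroCl h1))
      (isInvertibleCl_mulCl (PicLoc.isInvertibleCl_pullCl _ ⟨L, rfl, hL⟩) (PicLoc.isInvertibleCl_pullCl _ ⟨L, rfl, hL⟩)) ?_
    show (Pairing.mumCl L hL : PicF.Cl (X ⊗ X).left) * (_ * _) = _ * (_ * _)
    rw [← _root_.mul_assoc, LamSurj.mumCl_spec L hL, hLc, pullCl_bil, pullCl_bil, pullCl_bil]
    rw [Category.comp_id, Category.comp_id, Category.comp_id,
      show μ[X] = fst X X * snd X X by rw [Hom.mul_def, lift_fst_snd, Category.id_comp], MonObj.mul_comp,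
      bil_mul_left hφ hξ, bil_mul_right hφ hξ, bil_mul_right hφ hξ]
    simp only [lamCl, lamCl']
    generalize bil ξ (fst X X) (fst X X ≫ lam) = a, bil ξ (fst X X) (snd X X ≫ lam) = b,
      bil ξ (snd X X) (fst X X ≫ lam) = c, bil ξ (snd X X) (snd X X ≫ lam) = d
    show (a * b) * (c * d) = (b * c) * (a * d)
    ac_rfl
  show φ X _ = _
  rw [hm, hs, map_mulCl hφ h1 h1, h1v]

include hξ hξ' hφ hsymm in
/-- A symmetric homomorphism is attached to a module. -/
theorem exists_lamOf_eq [IsAlgClosed k] :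
    ∃ (M : X.left.Modules) (hM : PicF.IsInvertible M), Pairing.lamOf φ M hM = lam := by
  obtain ⟨L₀, hL₀, hd⟩ := exists_double hφ hξ hξ' lam hsymm
  obtain ⟨L, hLc⟩ := cl_surjective (PicF.cl L₀ ^ 2)
  have hL : PicF.IsInvertible L := isInvertible_of_isInvertibleCl (hLc ▸ by
    rw [pow_two]; exact isInvertibleCl_mulCl ⟨L₀, rfl, hL₀⟩ ⟨L₀, rfl, hL₀⟩)
  have hl4 : Pairing.lamOf φ L hL = lam ^ 4 := by
    rw [LamLinear.lamOf_pow hφ L₀ L hL₀ hL 2 hLc, hd, ← pow_two, ← pow_mul]
  obtain ⟨K, iK, hK⟩ := KLLib.exists_isKL k X L hL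
  haveI : IsClosedImmersion iK.left := hK.closed
  haveI : Mono iK := Over.mono_of_mono_left _
  have hker := Groth.Agent.S19775.result k X Xt φ hφ L hL _ (LamSurj.isLambda_lamOf φ L hL) K iK hK
  have hfac : ∀ {T : Over (Spec (CommRingCat.of k))} {z : T ⟶ X}, z ^ 4 = 1 → LocLift L z := fun {T z} hz => by
    refine (ThetaAV.locLift_iff L hL iK hK z).1 ⟨hker.lift z (toUnit T) ?_, hker.lift_fst _ _ _⟩
    rw [hl4, MonObj.comp_pow, ← MonObj.pow_comp, hz, MonObj.one_comp, Hom.one_def]
  -- multiplication by two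
  let f : X ⟶ X := 𝟙 X ^ 2
  have hf : ∀ {T : Over (Spec (CommRingCat.of k))} (z : T ⟶ X), z ≫ f = z ^ 2 := fun z => by
    rw [MonObj.comp_pow, Category.comp_id]
  haveI : IsMonHom f := isMonHom_pow 2
  haveI : Smooth X.hom :=
    haveI : GrpObj (Over.mk X.hom) := inferInstanceAs (GrpObj X)
    smooth_of_grpObj X.hom
  haveI : GeometricallyConnected X.hom := Isogeny.geometricallyConnected X.hom
  haveI := Groth.Agent.AV.geometricallyReduced_of_smooth X.hom
  obtain ⟨hsurj, hqf⟩ := Groth.L00.IsogDual.surjective_and_quasiFinite_pow X 2 one_le_two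
  haveI : Surjective f.left := hsurj
  haveI : LocallyQuasiFinite f.left := hqf
  haveI : IsProper (f.left ≫ X.hom) := by rw [Over.w]; infer_instance
  haveI : IsProper f.left := IsProper.of_comp _ X.hom
  haveI : IsFinite f.left := IsFinite.of_isProper_of_locallyQuasiFinite _
  obtain ⟨hflat, hlfp⟩ := ThetaAV.flat_lfp (f := f) hsurj
  haveI := hflat
  haveI := hlfp
  -- its kernel
  let N := pullback f η[X]
  let i : N ⟶ X := pullback.fst f η[X]
  have hN : AlgGrp.IsKernel i f := by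
    have h := IsPullback.of_hasPullback f η[X]
    rwa [show pullback.snd f η[X] = toUnit N from toUnit_unique _ _] at h
  haveI : IsClosedImmersion η[X].left := by
    haveI : IsIso (𝟙_ (Over (Spec (CommRingCat.of k)))).hom := inferInstanceAs (IsIso (𝟙 _))
    haveI : IsClosedImmersion (η[X].left ≫ X.hom) := by rw [Over.w]; infer_instance
    exact IsClosedImmersion.of_comp _ X.hom
  haveI : IsClosedImmersion i.left :=
    MorphismProperty.of_isPullback (P := @IsClosedImmersion) ((IsPullback.of_hasPullback f η[X]).map (Over.forget _)).flip ‹_›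
  haveI : Mono i := Over.mono_of_mono_left _
  have hi : ∀ {T : Over (Spec (CommRingCat.of k))} (x : T ⟶ N), (x ≫ i) ^ 2 = 1 := fun x => by
    rw [← hf]; exact ThetaAV.comp_kernel_eq_one hN x
  have hfacN : ∀ {T : Over (Spec (CommRingCat.of k))} {z : T ⟶ X}, z ^ 2 = 1 → ∃ x : T ⟶ N, x ≫ i = z :=
    fun {T z} hz => ⟨hN.lift z (toUnit T) (by rw [hf, hz, Hom.one_def]), hN.lift_fst _ _ _⟩
  obtain ⟨instN, hiM⟩ : ∃ _ : GrpObj N, IsMonHom i := by
    have hii := hi (𝟙 N)
    rw [Category.id_comp] at hii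
    refine Groth.L08.exists_grpObj_of_mono i ?_ ?_ ?_
    · refine (hfacN (z := (1 : 𝟙_ _ ⟶ X)) (one_pow 2)).imp fun x hx => hx.trans ?_
      rw [Hom.one_def, toUnit_unique (toUnit (𝟙_ (Over (Spec (CommRingCat.of k))))) (𝟙 _), Category.id_comp]
    · exact hfacN (by rw [mul_pow, hi, hi, _root_.one_mul])
    · exact hfacN (by rw [inv_pow, hii, inv_one])
  have h24 : ∀ {T : Over (Spec (CommRingCat.of k))} {z : T ⟶ X}, z ^ 2 = 1 → z ^ 4 = 1 := fun {T z} hz => by
    rw [show (4 : ℕ) = 2 * 2 from rfl, pow_mul, hz, one_pow]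
  have hπ := fun T => ThetaAV.bijective_snd (A := X) T
  -- isotropy
  have hiso : ThetaGrp.IsIsotropic L i := by
    intro T x y β₁ β₂ h₁ h₂
    have hx := hfac (h24 (hi x))
    have hy := hfac (h24 (hi y))
    obtain ⟨e, he⟩ := exists_isPair hπ hL hx hy
    suffices e = 1 by subst this; exact he.commute h₁ h₂
    let P := pullback f (x ≫ i)
    let p : P ⟶ X := pullback.fst f (x ≫ i)
    let q : P ⟶ T := pullback.snd f (x ≫ i)
    have hp : p * p = q ≫ x ≫ i := by rw [← pow_two, ← hf, pullback.condition]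
    have hp4 : LocLift L p := hfac (by
      rw [show (4 : ℕ) = 2 * 2 from rfl, pow_mul, pow_two p, hp, ← MonObj.comp_pow, hi, MonObj.comp_one])
    have hsq := (IsPullback.of_hasPullback f (x ≫ i)).map (Over.forget _)
    haveI : Surjective q.left := MorphismProperty.of_isPullback (P := @Surjective) hsq hsurj
    haveI : Flat q.left := MorphismProperty.of_isPullback (P := @Flat) hsq hflat
    haveI : LocallyOfFinitePresentation q.left := MorphismProperty.of_isPullback (P := @LocallyOfFinitePresentation) hsq hlfp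
    have he' := he.comp q
    obtain ⟨a, ha⟩ := exists_isPair hπ hL hp4 (hy.comp q)
    have h2 := ha.mul_left hπ hL hp4 hp4 (hy.comp q) ha
    rw [hp] at h2
    have h3 := ha.mul_right hπ hL hp4 (hy.comp q) (hy.comp q) ha
    rw [← MonObj.comp_mul, ← pow_two, hi, MonObj.comp_one] at h3
    have ha1 : a * a = 1 := h3.unique hπ hL hp4 LocLift.one
      (by simpa using (isPair_one_left hπ hL p).swap)
    have he1 : res q e = 1 := (he'.unique hπ hL (hx.comp q) (hy.comp q) h2).trans ha1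
    refine Units.ext (PullKernel.app_injective (g := q.left) ⊤ ?_)
    rw [Units.val_one, map_one]
    exact congrArg Units.val he1
  obtain ⟨M, hM, ⟨eM⟩⟩ := (Groth.Agent.S19948.result k X X f hsurj N i hN L hL K iK hK).2
    ⟨(ThetaAV.locLift_iff L hL iK hK i).2 (hfac (h24 (by rw [← hi (𝟙 N), Category.id_comp]))), hiso⟩
  refine ⟨M, hM, ?_⟩
  -- cancellation of the multiplication by four
  have hft : AbDual.IsTranspose f φ φ (𝟙 Xt ^ 2) := fun T c hc => by
    rw [Groth.L00.TransIsog.map_pullCl_pow hφ 2 T hc, MonObj.comp_pow, Category.comp_id]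
  have hfM : PicF.IsInvertible ((Scheme.Modules.pullback f.left).obj M) := PicLoc.isInvertible_pullback f.left hM
  haveI : IsMonHom (Pairing.lamOf φ M hM) := LamPull.isMonHom_lamOf hφ M hM
  have h4 := LamPull.lamOf_pullback hφ f _ hft M hM hfM
  rw [LamLinear.lamOf_congr L _ hL hfM ((PicGrp.cl_eq_cl_iff _ _).2 ⟨eM⟩), hl4, MonObj.comp_pow,
    MonObj.comp_pow, Category.comp_id, MonObj.pow_comp, Category.id_comp, ← pow_mul] at h4
  obtain ⟨hsurj4, hqf4⟩ := Groth.L00.IsogDual.surjective_and_quasiFinite_pow X 4 (by norm_num)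
  haveI : IsMonHom (𝟙 X ^ 4 : X ⟶ X) := isMonHom_pow 4
  haveI : Surjective (𝟙 X ^ 4 : X ⟶ X).left := hsurj4
  obtain ⟨hflat4, hlfp4⟩ := ThetaAV.flat_lfp (f := (𝟙 X ^ 4 : X ⟶ X)) hsurj4
  haveI := hflat4
  haveI := hlfp4
  haveI : IsProper ((𝟙 X ^ 4 : X ⟶ X).left ≫ X.hom) := by rw [Over.w]; infer_instance
  haveI : IsProper (𝟙 X ^ 4 : X ⟶ X).left := IsProper.of_comp _ X.hom
  haveI : Epi (𝟙 X ^ 4 : X ⟶ X).left := Flat.epi_of_flat_of_surjective _
  haveI : Epi (𝟙 X ^ 4 : X ⟶ X) := Over.epi_of_epi_left _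
  refine (cancel_epi (𝟙 X ^ 4 : X ⟶ X)).1 ?_
  rw [MonObj.pow_comp, MonObj.pow_comp, Category.id_comp, Category.id_comp, h4]

end Groth.Agent.Symm
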